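import Cfsg.Agent.Lib.TwoCentralSq.Crit

/-!
The criterion for alternating groups of degree at least six: every involution is a product of commutators of
elements commuting with it.
-/

set_option autoImplicit false

namespace Cfsg.Agent.TwoCentralSq

open Equiv

variable {α : Type*} [Fintype α] [DecidableEq α]

theorem mul_swap' (σ : Perm α) (x y : α) : σ * swap x y = swap (σ x) (σ y) * σ := by
  rw [swap_apply_apply, inv_mul_cancel_right]

theorem four_swaps {a b c d : α} (hab : a ≠ b) (hac : a ≠ c) (had : a ≠ d) (hbc : b ≠ c) (hbd : b ≠ d)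
    (hcd : c ≠ d) : swap b c * swap a d * (swap b d * swap a c) = swap a b * swap c d := by
  refine Equiv.ext fun x => ?_
  simp only [Perm.mul_apply]
  by_cases h1 : x = a
  · subst h1
    rw [swap_apply_left, swap_apply_of_ne_of_ne (Ne.symm hbc) hcd, swap_apply_of_ne_of_ne (Ne.symm hac) hcd,
      swap_apply_right, swap_apply_of_ne_of_ne hac had, swap_apply_left]
  by_cases h2 : x = b
  · subst h2
    rw [swap_apply_of_ne_of_ne (Ne.symm hab) hbc, swap_apply_left, swap_apply_right,
      swap_apply_of_ne_of_ne hab hac, swap_apply_of_ne_of_ne hbc hbd, swap_apply_right]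
  by_cases h3 : x = c
  · subst h3
    rw [swap_apply_right, swap_apply_of_ne_of_ne hab had, swap_apply_left, swap_apply_of_ne_of_ne (Ne.symm hbd)
      (Ne.symm hcd), swap_apply_left, swap_apply_of_ne_of_ne (Ne.symm had) (Ne.symm hbd)]
  by_cases h4 : x = d
  · subst h4
    rw [swap_apply_of_ne_of_ne (Ne.symm had) (Ne.symm hcd), swap_apply_right,
      swap_apply_of_ne_of_ne (Ne.symm hab) hbd, swap_apply_left, swap_apply_right,
      swap_apply_of_ne_of_ne (Ne.symm hac) (Ne.symm hbc)]
  rw [swap_apply_of_ne_of_ne h1 h3, swap_apply_of_ne_of_ne h2 h4, swap_apply_of_ne_of_ne h1 h4,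
    swap_apply_of_ne_of_ne h2 h3, swap_apply_of_ne_of_ne h3 h4, swap_apply_of_ne_of_ne h1 h2]

theorem swap_pair_comm (σ : Perm α) (hσ : σ * σ = 1) {a c : α} :
    σ * (swap a c * swap (σ a) (σ c)) = swap a c * swap (σ a) (σ c) * σ ↔
      swap (σ a) (σ c) * swap a c = swap a c * swap (σ a) (σ c) := by
  have hs : ∀ x, σ (σ x) = x := fun x => congrArg (fun p : Perm α => p x) hσ
  have e : σ * (swap a c * swap (σ a) (σ c)) = swap (σ a) (σ c) * swap a c * σ := by
    rw [← mul_assoc, mul_swap' σ a c, mul_assoc, mul_swap' σ (σ a) (σ c), hs, hs, ← mul_assoc]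
  rw [e]
  exact ⟨fun h => mul_right_cancel h, fun h => by rw [h]⟩

/-- Every involution of an alternating group of degree at least six is such a product. -/
theorem inSq_alt (hn : 6 ≤ Fintype.card α) (s : alternatingGroup α) (hs : s * s = 1) : InSq s := by
  classical
  have hσ : ∀ x, (s : Perm α) ((s : Perm α) x) = x := fun x =>
    congrArg (fun p : alternatingGroup α => (p : Perm α) x) hs
  suffices main : ∀ (n : ℕ) (τ : alternatingGroup α), (τ : Perm α).support.card ≤ n →
      (∀ x, (τ : Perm α) x = x ∨ (τ : Perm α) x = (s : Perm α) x) →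
      τ ∈ Subgroup.closure {y : alternatingGroup α | ∃ h, h * s = s * h ∧ h * h = y} from
    main _ s le_rfl fun x => Or.inr rfl
  intro n
  induction n with
  | zero =>
    intro τ hτ _
    have : (τ : Perm α) = 1 := Perm.support_eq_empty_iff.1 (Finset.card_eq_zero.1 (Nat.le_zero.1 hτ))
    rw [show τ = 1 from Subtype.ext this]
    exact one_mem _
  | succ n ih =>
    intro τ hτ hsub
    by_cases h1 : τ = 1
    · rw [h1]; exact one_mem _
    set σ : Perm α := (s : Perm α) with hσdef
    have hsub2 : ∀ x, (τ : Perm α) x ≠ x → (τ : Perm α) x = σ x ∧ (τ : Perm α) (σ x) = x := by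
      intro x hx
      have e := (hsub x).resolve_left hx
      refine ⟨e, ?_⟩
      rcases hsub (σ x) with h | h
      · exfalso
        refine hx ?_
        have := (τ : Perm α).injective (h.trans e.symm)
        rw [e]; exact this
      · rw [h, hσ]
    obtain ⟨a, ha⟩ : ∃ a, (τ : Perm α) a ≠ a := by
      by_contra h
      push Not at h
      exact h1 (Subtype.ext (Equiv.ext h))
    obtain ⟨hab, hba⟩ := hsub2 a ha
    have hne : σ a ≠ a := hab ▸ ha
    obtain ⟨c, hc, hca, hcb⟩ : ∃ c, (τ : Perm α) c ≠ c ∧ c ≠ a ∧ c ≠ σ a := by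
      by_contra h
      push Not at h
      have e : (τ : Perm α) = swap a (σ a) := by
        refine Equiv.ext fun x => ?_
        by_cases hxa : x = a
        · rw [hxa, swap_apply_left, hab]
        by_cases hxb : x = σ a
        · rw [hxb, swap_apply_right, hba]
        rw [swap_apply_of_ne_of_ne hxa hxb]
        by_contra hx
        exact hxb (h x hx hxa)
      have hsg : Perm.sign (τ : Perm α) = 1 := τ.2
      rw [e, Perm.sign_swap (Ne.symm hne)] at hsg
      exact absurd hsg (by decide)
    obtain ⟨hcd, hdc⟩ := hsub2 c hc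
    have hne' : σ c ≠ c := hcd ▸ hc
    have hda : σ c ≠ a := fun h => hcb (by rw [← h, hσ])
    have hdb : σ c ≠ σ a := fun h => hca (σ.injective h)
    -- two further points
    obtain ⟨e, f, hef, hea, heb, hec, hed, hfa, hfb, hfc, hfd, hσef⟩ : ∃ e f, e ≠ f ∧ e ≠ a ∧ e ≠ σ a ∧ e ≠ c ∧
        e ≠ σ c ∧ f ≠ a ∧ f ≠ σ a ∧ f ≠ c ∧ f ≠ σ c ∧ ((σ e = f ∧ σ f = e) ∨ (σ e = e ∧ σ f = f)) := by
      let O := (Finset.univ : Finset α) \ {a, σ a, c, σ c}
      have hO : ∀ x, x ∈ O ↔ x ≠ a ∧ x ≠ σ a ∧ x ≠ c ∧ x ≠ σ c := fun x => by simp [O]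
      have hcard : 2 ≤ O.card := by
        have h4 : ({a, σ a, c, σ c} : Finset α).card ≤ 4 := Finset.card_le_four
        have := Finset.le_card_sdiff ({a, σ a, c, σ c} : Finset α) Finset.univ
        rw [Finset.card_univ] at this
        simp only [O]
        omega
      by_cases hm : ∃ x ∈ O, σ x ≠ x
      · obtain ⟨x, hx, hxx⟩ := hm
        obtain ⟨x1, x2, x3, x4⟩ := (hO x).1 hx
        refine ⟨x, σ x, Ne.symm hxx, x1, x2, x3, x4, ?_, fun h => x1 (σ.injective h), ?_,
          fun h => x3 (σ.injective h), Or.inl ⟨rfl, hσ x⟩⟩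
        · exact fun h => x2 (by rw [← h, hσ])
        · exact fun h => x4 (by rw [← h, hσ])
      · push Not at hm
        obtain ⟨x, hx, y, hy, hxy⟩ := Finset.one_lt_card.1 (show 1 < O.card by omega)
        obtain ⟨x1, x2, x3, x4⟩ := (hO x).1 hx
        obtain ⟨y1, y2, y3, y4⟩ := (hO y).1 hy
        exact ⟨x, y, hxy, x1, x2, x3, x4, y1, y2, y3, y4, Or.inr ⟨hm x hx, hm y hy⟩⟩
    have disj : ∀ {p q r t : α}, p ≠ r → p ≠ t → q ≠ r → q ≠ t → swap p q * swap r t = swap r t * swap p q :=
      fun {p q r t} h1 h2 h3 h4 => (Perm.disjoint_iff_disjoint_support.2 (by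
        by_cases hpq : p = q
        · simp [hpq]
        by_cases hrt : r = t
        · simp [hrt]
        rw [Perm.support_swap hpq, Perm.support_swap hrt]
        simp [h1, h2, h3, h4, Ne.symm h1, Ne.symm h2, Ne.symm h3, Ne.symm h4])).commute.eq
    let g : alternatingGroup α := ⟨swap a (σ a) * swap e f, by
      show Perm.sign _ = 1
      rw [map_mul, Perm.sign_swap (Ne.symm hne), Perm.sign_swap hef]; rfl⟩
    let h : alternatingGroup α := ⟨swap a c * swap (σ a) (σ c), by
      show Perm.sign _ = 1
      rw [map_mul, Perm.sign_swap (Ne.symm hca), Perm.sign_swap (Ne.symm hdb)]; rfl⟩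
    have hh : h * s = s * h := by
      refine Subtype.ext (((swap_pair_comm σ (Equiv.ext hσ)).2 ?_).symm)
      exact disj hne (Ne.symm hcb) hda hne'
    have hg : g * s = s * g := by
      refine Subtype.ext ?_
      show swap a (σ a) * swap e f * σ = σ * (swap a (σ a) * swap e f)
      rw [← mul_assoc σ, mul_swap' σ a (σ a), hσ, swap_comm (σ a) a, mul_assoc (swap a (σ a)) σ (swap e f),
        mul_swap' σ e f, ← mul_assoc]
      rcases hσef with ⟨h1, h2⟩ | ⟨h1, h2⟩
      · rw [h1, h2, swap_comm f e]
      · rw [h1, h2]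
    let w : alternatingGroup α := g * h * g⁻¹ * h⁻¹
    have hw : (w : Perm α) = swap a (σ a) * swap c (σ c) := by
      show swap a (σ a) * swap e f * (swap a c * swap (σ a) (σ c)) * (swap a (σ a) * swap e f)⁻¹ *
        (swap a c * swap (σ a) (σ c))⁻¹ = _
      rw [← conj_mul (a := swap a c), ← swap_apply_apply, ← swap_apply_apply, _root_.mul_inv_rev (swap a c),
        swap_inv, swap_inv]
      have g1 : (swap a (σ a) * swap e f) a = σ a := by
        rw [Perm.mul_apply, swap_apply_of_ne_of_ne (Ne.symm hea) (Ne.symm hfa), swap_apply_left]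
      have g2 : (swap a (σ a) * swap e f) c = c := by
        rw [Perm.mul_apply, swap_apply_of_ne_of_ne (Ne.symm hec) (Ne.symm hfc), swap_apply_of_ne_of_ne hca hcb]
      have g3 : (swap a (σ a) * swap e f) (σ a) = a := by
        rw [Perm.mul_apply, swap_apply_of_ne_of_ne (Ne.symm heb) (Ne.symm hfb), swap_apply_right]
      have g4 : (swap a (σ a) * swap e f) (σ c) = σ c := by
        rw [Perm.mul_apply, swap_apply_of_ne_of_ne (Ne.symm hed) (Ne.symm hfd), swap_apply_of_ne_of_ne hda hdb]
      rw [g1, g2, g3, g4]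
      exact four_swaps (Ne.symm hne) (Ne.symm hca) (Ne.symm hda) (Ne.symm hcb) (Ne.symm hdb) (Ne.symm hne')
    have hwmem : w ∈ Subgroup.closure {y : alternatingGroup α | ∃ k, k * s = s * k ∧ k * k = y} := by
      have cg : Commute g s := hg
      have ch : Commute h s := hh
      have e : w = g * g * (g⁻¹ * h * (g⁻¹ * h)) * (h⁻¹ * h⁻¹) := by simp only [w]; group
      rw [e]
      exact mul_mem (mul_mem (Subgroup.subset_closure ⟨g, hg, rfl⟩)
        (Subgroup.subset_closure ⟨_, (cg.inv_left.mul_left ch).eq, rfl⟩))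
        (Subgroup.subset_closure ⟨_, ch.inv_left.eq, rfl⟩)
    -- remove the two transpositions
    have hrest : ∀ x, ((w⁻¹ * τ : alternatingGroup α) : Perm α) x =
        if x = a ∨ x = σ a ∨ x = c ∨ x = σ c then x else (τ : Perm α) x := by
      intro x
      show ((w : Perm α)⁻¹) ((τ : Perm α) x) = _
      rw [hw, _root_.mul_inv_rev, swap_inv, swap_inv, Perm.mul_apply]
      split_ifs with hx
      · rcases hx with rfl | rfl | rfl | rfl
        · rw [hab, swap_apply_right, swap_apply_of_ne_of_ne (Ne.symm hca) (Ne.symm hda)]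
        · rw [hba, swap_apply_left, swap_apply_of_ne_of_ne (Ne.symm hcb) (Ne.symm hdb)]
        · rw [hcd, swap_apply_of_ne_of_ne hda hdb, swap_apply_right]
        · rw [hdc, swap_apply_of_ne_of_ne hca hcb, swap_apply_left]
      · push Not at hx
        obtain ⟨x1, x2, x3, x4⟩ := hx
        have k1 : (τ : Perm α) x ≠ a := fun h => x2 ((τ : Perm α).injective (h.trans hba.symm))
        have k2 : (τ : Perm α) x ≠ σ a := fun h => x1 ((τ : Perm α).injective (h.trans hab.symm))
        have k3 : (τ : Perm α) x ≠ c := fun h => x4 ((τ : Perm α).injective (h.trans hdc.symm))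
        have k4 : (τ : Perm α) x ≠ σ c := fun h => x3 ((τ : Perm α).injective (h.trans hcd.symm))
        rw [swap_apply_of_ne_of_ne k1 k2, swap_apply_of_ne_of_ne k3 k4]
    have := ih (w⁻¹ * τ) ?_ fun x => ?_
    · have := mul_mem hwmem this
      rwa [mul_inv_cancel_left] at this
    · have hss : ((w⁻¹ * τ : alternatingGroup α) : Perm α).support ⊂ (τ : Perm α).support := by
        refine Finset.ssubset_iff_of_subset (fun x hx => ?_) |>.2 ⟨a, Perm.mem_support.2 ha, fun h => ?_⟩
        · rw [Perm.mem_support] at hx ⊢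
          rw [hrest] at hx
          split_ifs at hx with h
          · exact absurd rfl hx
          · exact hx
        · rw [Perm.mem_support, hrest, if_pos (Or.inl rfl)] at h
          exact h rfl
      have := Finset.card_lt_card hss
      omega
    · rw [hrest]
      split_ifs
      · exact Or.inl rfl
      · exact hsub x

theorem crit_alt (hn : 6 ≤ Fintype.card α) : Crit (alternatingGroup α) :=
  ⟨⊥, IsPGroup.of_bot, fun z hz _ => inSq_alt hn z hz⟩

end Cfsg.Agent.TwoCentralSq
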