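import Cfsg.Agent.Lib.TwoCentralSq.ChevCommon

/-!
An element commuting with enough torus involutions is monomial.
-/

set_option autoImplicit false

namespace Cfsg.Agent.TwoCentralSq

open Cfsg.Lie Cfsg.Agent.Chev Cfsg.Agent.Chev.Tab Cfsg.Agent.Chev.Tab.BTi Cfsg.Agent.ChevOdd

variable {T : Tab} {F : Type*} [Field F]

/-- **Monomiality**: commuting with torus involutions that separate the roots from zero. -/
theorem monomial_of_masks (g : T.GoodA) (h2 : (2 : F) ≠ 0) (MS : List ℕ)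
    (hsep : ∀ s < T.n, ∃ i ∈ MS, inH T i s = false) {x : GL T.D.Idx F}
    (hx : x ∈ T.D.group F) (hc : ∀ i ∈ MS, hM T F i * x = x * hM T F i) :
    ∃ L, T.Wd L ∧ (∃ c, x = tor T F c * nWd g.toGood F L) ∧
      ∀ i ∈ MS, ∀ s < T.n, inH T i (T.rw' L s) = inH T i s := by
  have hg := g.toGood
  obtain ⟨b, hb, n, hn, L, hL, ⟨c, rfl⟩, v, hv, rfl⟩ := bruhat_exists g hx
  obtain ⟨u, hu, c1, rfl⟩ := (mem_borel_iff hg).1 hb
  refine ⟨L, hL, ?_⟩
  have step : ∀ i ∈ MS, hM T F i * u * (hM T F i)⁻¹ = u ∧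
      hM T F i * v * (hM T F i)⁻¹ = v ∧
      hM T F i * (tor T F (c1 * c) * nWd hg F L) * (hM T F i)⁻¹ = tor T F (c1 * c) * nWd hg F L := by
    intro i hi
    obtain ⟨h, hh⟩ : ∃ h, h = hM T F i := ⟨_, rfl⟩
    rw [← hh]
    obtain ⟨e, he⟩ : ∃ e, h * (tor T F 1 * nWd hg F L) * h⁻¹ = tor T F e * nWd hg F L := by
      obtain ⟨d, hd⟩ := torus_pass hg (nWd_mem_wSub (F := F) hg hL) (sgn F i)⁻¹
      refine ⟨sgn F i * d, ?_⟩
      rw [map_one, one_mul, hh, hM, ← map_inv, mul_assoc, hd, map_mul, mul_assoc]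
    have hUn : ∀ {S : Set ℕ}, (∀ r ∈ S, r < T.n) → ∀ y ∈ genS hg F S, h * y * h⁻¹ ∈ genS hg F S :=
      fun hS y hy => hh ▸ (Subgroup.mem_normalizer_iff.1 (tor_normalizes hg hS _) y).1 hy
    have hhu := hUn (fun r hr => hr.2) u hu
    have hhv := hUn (fun r hr => hr.2.1) v hv
    have hN : tor T F 1 * nWd hg F L ∈ T.D.monomialSubgroup F := (mem_monomial_iff hg).2 ⟨L, hL, 1, rfl⟩
    have htor : ∀ d, h * tor T F d * h⁻¹ = tor T F d := fun d => by
      rw [hh, hM, ← map_inv, ← map_mul, ← map_mul, mul_comm (sgn F i), mul_inv_cancel_right]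
    have hxc : h * (u * tor T F c1 * (tor T F c * nWd hg F L) * v) * h⁻¹ =
        u * tor T F c1 * (tor T F c * nWd hg F L) * v := by
      rw [hh, hc i hi, mul_inv_cancel_right]
    have heq : h * u * h⁻¹ * tor T F (c1 * c * e) * (tor T F 1 * nWd hg F L) * (h * v * h⁻¹) =
        u * tor T F (c1 * c) * (tor T F 1 * nWd hg F L) * v := by
      calc _ = h * u * h⁻¹ * (h * tor T F (c1 * c) * h⁻¹) * (tor T F e * nWd hg F L) * (h * v * h⁻¹) := by
            rw [htor, map_mul (tor T F) _ e, map_one, one_mul]; simp only [mul_assoc]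
        _ = h * (u * tor T F c1 * (tor T F c * nWd hg F L) * v) * h⁻¹ := by
            rw [← he, map_mul, map_one, one_mul]; group
        _ = _ := by rw [hxc, map_mul, map_one, one_mul]; simp only [mul_assoc]
    obtain ⟨hb', hv2⟩ := (bruhat_unique g
      (mul_mem (genS_pos_le_borel hg (fun r hr => hr) hhu) (torus_le_borel hg _))
      (mul_mem (genS_pos_le_borel hg (fun r hr => hr) hu) (torus_le_borel hg _))
      hN hN hL rfl hhv hv heq).2 rfl rfl
    have hu2 : h * u * h⁻¹ = u := (inv_mul_eq_one.1 (pos_inf_torus hg (x := u⁻¹ * (h * u * h⁻¹))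
      (mul_mem (inv_mem hu) hhu)
      (by rw [show u⁻¹ * (h * u * h⁻¹) = tor T F (c1 * c) * (tor T F (c1 * c * e))⁻¹ by
            calc u⁻¹ * (h * u * h⁻¹) = u⁻¹ * (h * u * h⁻¹ * tor T F (c1 * c * e)) *
                  (tor T F (c1 * c * e))⁻¹ := by group
              _ = _ := by rw [hb']; group,
            diagonalSubgroup_eq hg]
          exact mul_mem ⟨_, rfl⟩ (inv_mem ⟨_, rfl⟩)))).symm
    rw [hu2, map_mul (tor T F) _ e] at hb'
    have he1 : tor T F e = 1 := mul_eq_left.1 (mul_left_cancel hb')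
    refine ⟨hu2, hv2, ?_⟩
    rw [map_one, one_mul, he1, one_mul] at he
    calc h * (tor T F (c1 * c) * nWd hg F L) * h⁻¹
        = h * tor T F (c1 * c) * h⁻¹ * (h * nWd hg F L * h⁻¹) := by group
      _ = _ := by rw [htor, he]
  -- no root survives
  have triv : ∀ y ∈ genS hg F (Set.Ico T.N T.n),
      (∀ i ∈ MS, hM T F i * y * (hM T F i)⁻¹ = y) → y = 1 := by
    intro y hy hfix
    obtain ⟨t, rfl⟩ := (ordProd_spec g T.n T.N le_rfl (by omega)).1 y hy
    have hz : ∀ r, T.N ≤ r → r < T.n → t r = 0 := by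
      intro r h1 h2'
      obtain ⟨i, hi, hodd⟩ := hsep r h2'
      have e := hfix i hi
      rw [hM_conj_ord] at e
      have := (ordProd_spec g T.n T.N le_rfl (by omega)).2 _ _ e r h1 h2'
      rw [wt_sgn_eq, hodd, if_neg Bool.false_ne_true, Units.val_neg, Units.val_one] at this
      have h3 : (2 : F) * t r = 0 := by linear_combination -this
      exact (mul_eq_zero.1 h3).resolve_left h2
    rw [ordProd_congr hg (u := fun _ => (0 : F)) hz]
    exact List.prod_eq_one fun w hw => by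
      obtain ⟨r, -, rfl⟩ := List.mem_map.1 hw
      exact xg_zero hg r
  have hu1 : u = 1 := triv u hu fun i hi => (step i hi).1
  have hv1 : v = 1 := triv v (uMinus_le_pos hg L hv) fun i hi => (step i hi).2.1
  refine ⟨⟨c1 * c, by rw [hu1, hv1, one_mul, mul_one, map_mul, mul_assoc]⟩, fun i hi s hs => ?_⟩
  obtain ⟨ε, hε⟩ := mono_conj (F := F) hg hL (c1 * c) hs
  have hw := (step i hi).2.2
  obtain ⟨h, hh⟩ : ∃ h, h = hM T F i := ⟨_, rfl⟩
  obtain ⟨n, hn⟩ : ∃ n, n = tor T F (c1 * c) * nWd hg F L := ⟨_, rfl⟩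
  rw [← hh, ← hn] at hw
  have h1 : h * xg hg (T.rw' L s) (ε : F) * h⁻¹ = n * (h * xg hg s (1 : F) * h⁻¹) * n⁻¹ := by
    calc h * xg hg (T.rw' L s) (ε : F) * h⁻¹ = h * (n * xg hg s (1 : F) * n⁻¹) * h⁻¹ := by
          rw [hn, hε 1, mul_one]
      _ = h * n * h⁻¹ * (h * xg hg s (1 : F) * h⁻¹) * (h * n * h⁻¹)⁻¹ := by group
      _ = _ := by rw [hw]
  rw [hh, hM, tor_xg hg _ (rw'_lt hg hL hs), tor_xg hg _ hs, hn, hε] at h1
  have h3 := xg_injective hg (rw'_lt hg hL hs) h1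
  exact wt_inj h2 (m := i) (r := T.rw' L s) (s := s) (Units.ext (by
    have := Units.ne_zero ε
    field_simp at h3
    exact h3))

end Cfsg.Agent.TwoCentralSq
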