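import Cfsg.Agent.Lib.ChevOdd.RootSL2
import Mathlib.LinearAlgebra.Matrix.GeneralLinearGroup.Defs
import Mathlib.GroupTheory.Sylow

/-!
A two-subgroup of `GL₂` which, inside a root subgroup `SL₂`, is centralised by no involution swapping the two root
groups.
-/

set_option autoImplicit false

namespace Cfsg.Agent.TwoCentralSq

open SL2Pres (up low)
open Matrix (SpecialLinearGroup)

variable {F : Type*} [Field F]

local notation "SL" => SpecialLinearGroup (Fin 2) F

/-- The inclusion of `SL₂` in `GL₂`. -/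
noncomputable abbrev inGL : SL →* GL (Fin 2) F := Matrix.SpecialLinearGroup.toGL

theorem inGL_val (g : SL) : ((inGL g : GL (Fin 2) F) : Matrix (Fin 2) (Fin 2) F) = g.1 := rfl

theorem inGL_injective : Function.Injective (inGL (F := F)) := fun g h e =>
  Subtype.ext (congrArg Units.val e)

/-- Conjugation of `SL₂` by an element of `GL₂`. -/
noncomputable def conjSL (M : GL (Fin 2) F) : SL →* SL where
  toFun g := ⟨(M : Matrix (Fin 2) (Fin 2) F) * g.1 * (↑M⁻¹ : Matrix (Fin 2) (Fin 2) F), by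
    rw [Matrix.det_mul, Matrix.det_mul, g.2, mul_one, ← Matrix.det_mul, ← Units.val_mul, mul_inv_cancel,
      Units.val_one, Matrix.det_one]⟩
  map_one' := Subtype.ext (by simp)
  map_mul' g h := Subtype.ext (by
    show (M : Matrix (Fin 2) (Fin 2) F) * (g.1 * h.1) * (↑M⁻¹ : Matrix (Fin 2) (Fin 2) F) = _ * _
    simp only [mul_assoc]
    rw [Units.inv_mul_cancel_left])

theorem inGL_conjSL (M : GL (Fin 2) F) (g : SL) : inGL (conjSL M g) = M * inGL g * M⁻¹ := Units.ext rfl

/-- The matrix `[[0, 1], [-1, 0]]`. -/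
noncomputable def jS : SL := up 1 * low (-1) * up 1

theorem jS_val : (jS : SL).1 = !![(0 : F), 1; -1, 0] := by
  show (up (1 : F)).1 * (low (-1 : F)).1 * (up (1 : F)).1 = _
  rw [SL2Pres.up_val, SL2Pres.low_val]
  simp

/-- `diag (u, 1)`. -/
noncomputable def diagU (u : Fˣ) : GL (Fin 2) F :=
  ⟨!![(u : F), 0; 0, 1], !![(↑u⁻¹ : F), 0; 0, 1], by simp [Matrix.one_fin_two], by simp [Matrix.one_fin_two]⟩

/-- `[[0, 1], [k, 0]]`. -/
noncomputable def swapU (k : Fˣ) : GL (Fin 2) F :=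
  ⟨!![0, 1; (k : F), 0], !![0, (↑k⁻¹ : F); 1, 0], by simp [Matrix.one_fin_two], by simp [Matrix.one_fin_two]⟩

theorem diagU_up (u : Fˣ) (t : F) : conjSL (diagU u) (up t) = up ((u : F) * t) := by
  refine Subtype.ext ?_
  show (diagU u : Matrix (Fin 2) (Fin 2) F) * (up t).1 * (↑(diagU u)⁻¹ : Matrix (Fin 2) (Fin 2) F) = _
  simp [diagU, SL2Pres.up_val]

theorem diagU_low (u : Fˣ) (t : F) : conjSL (diagU u) (low t) = low ((↑u⁻¹ : F) * t) := by
  refine Subtype.ext ?_
  show (diagU u : Matrix (Fin 2) (Fin 2) F) * (low t).1 * (↑(diagU u)⁻¹ : Matrix (Fin 2) (Fin 2) F) = _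
  simp [diagU, SL2Pres.low_val, mul_comm]

theorem swapU_up (k : Fˣ) (t : F) : conjSL (swapU k) (up t) = low ((k : F) * t) := by
  refine Subtype.ext ?_
  show (swapU k : Matrix (Fin 2) (Fin 2) F) * (up t).1 * (↑(swapU k)⁻¹ : Matrix (Fin 2) (Fin 2) F) = _
  simp [swapU, SL2Pres.up_val, SL2Pres.low_val]

theorem swapU_low (k : Fˣ) (t : F) : conjSL (swapU k) (low t) = up ((↑k⁻¹ : F) * t) := by
  refine Subtype.ext ?_
  show (swapU k : Matrix (Fin 2) (Fin 2) F) * (low t).1 * (↑(swapU k)⁻¹ : Matrix (Fin 2) (Fin 2) F) = _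
  simp [swapU, SL2Pres.up_val, SL2Pres.low_val, mul_comm]

theorem swapU_neg_one : swapU (-1 : Fˣ) = inGL (F := F) jS := by
  refine Units.ext ?_
  rw [inGL_val, jS_val]
  simp [swapU]

/-- Two homomorphisms out of `SL₂` agreeing on the root groups agree. -/
theorem hom_ext_up_low {G : Type*} [Group G] {f h : SL →* G} (h1 : ∀ t, f (up t) = h (up t))
    (h2 : ∀ t, f (low t) = h (low t)) : f = h := by
  refine MonoidHom.eq_of_eqOn_dense SL2Pres.closure_up_low ?_
  rintro g (⟨t, rfl⟩ | ⟨t, rfl⟩)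
  · exact h1 t
  · exact h2 t

/-- An element acting on an embedded `SL₂` as a matrix does. -/
theorem conj_eq {G : Type*} [Group G] (φ : SL →* G) (z : G) (M : GL (Fin 2) F)
    (h1 : ∀ t, z * φ (up t) * z⁻¹ = φ (conjSL M (up t))) (h2 : ∀ t, z * φ (low t) * z⁻¹ = φ (conjSL M (low t)))
    (g : SL) : z * φ g * z⁻¹ = φ (conjSL M g) := by
  have e : (MulAut.conj z).toMonoidHom.comp φ = φ.comp (conjSL M) := hom_ext_up_low h1 h2
  exact congrArg (fun f : SL →* G => f g) e

theorem exists_neg_one_sq_add [Finite F] : ∃ a b : F, a ^ 2 + b ^ 2 = -1 := by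
  obtain ⟨p, hp⟩ := CharP.exists F
  haveI := Fintype.ofFinite F
  haveI : Fact p.Prime := ⟨CharP.char_is_prime F p⟩
  obtain ⟨a, b, h⟩ := CharP.sq_add_sq F p (-1)
  exact ⟨(a : F), (b : F), by rw [h]; simp⟩

/-- A two-subgroup of `GL₂` containing `diag (±1, 1)` and `[[0,1],[-1,0]]`, and containing an element of
determinant one not commuting with the latter. -/
theorem exists_kill_group [Finite F] (h2 : (2 : F) ≠ 0) : ∃ P : Subgroup (GL (Fin 2) F), IsPGroup 2 P ∧
    inGL jS ∈ P ∧ diagU (-1) ∈ P ∧ ∃ g : SL, inGL g ∈ P ∧ conjSL (inGL jS) g ≠ g := by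
  classical
  have hJ4 : (inGL (F := F) jS) ^ 4 = 1 := by
    refine Units.ext ?_
    rw [Units.val_pow_eq_pow_val, inGL_val, jS_val]
    simp [pow_succ, Matrix.one_fin_two]
  have h4 : ∀ x : GL (Fin 2) F, x ^ 4 = 1 → IsPGroup 2 ↥(Subgroup.zpowers x) := by
    rintro x hx ⟨y, i, rfl⟩
    refine ⟨2, Subtype.ext ?_⟩
    show (x ^ i) ^ 2 ^ 2 = 1
    rw [← zpow_natCast, ← zpow_mul, mul_comm, zpow_mul, zpow_natCast, show (2 : ℕ) ^ 2 = 4 by norm_num, hx,
      one_zpow]
  let D := diagU (-1 : Fˣ)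
  have hD2 : D * D = 1 := Units.ext (by simp [D, diagU, Matrix.one_fin_two])
  have hDJ : D * inGL jS * D⁻¹ = (inGL jS)⁻¹ := by
    refine eq_inv_of_mul_eq_one_left (Units.ext ?_)
    rw [Units.val_mul, Units.val_mul, Units.val_mul, inGL_val, jS_val]
    simp [D, diagU, Matrix.one_fin_two]
  have hsup : IsPGroup 2 ↥(Subgroup.zpowers D ⊔ Subgroup.zpowers (inGL (F := F) jS)) := by
    refine IsPGroup.to_sup_of_normal_right' (h4 D (by rw [pow_succ, pow_succ, pow_succ, pow_one, hD2]; simp [hD2]))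
      (h4 _ hJ4) (Subgroup.zpowers_le.2 ?_)
    have key : ∀ y ∈ Subgroup.zpowers (inGL (F := F) jS), D * y * D⁻¹ ∈ Subgroup.zpowers (inGL (F := F) jS) := by
      rintro _ ⟨i, rfl⟩
      exact ⟨-i, by
        show inGL jS ^ (-i) = _
        rw [← conj_zpow, hDJ, inv_zpow, zpow_neg]⟩
    refine Subgroup.mem_normalizer_iff.2 fun y => ⟨key y, fun hy => ?_⟩
    have hD : D⁻¹ = D := inv_eq_of_mul_eq_one_right hD2
    have e : y = D * (D * y * D⁻¹) * D⁻¹ := by
      rw [hD]
      calc y = D * D * y * (D * D) := by rw [hD2]; group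
        _ = _ := by group
    rw [e]
    exact key _ hy
  obtain ⟨P, hP⟩ := hsup.exists_le_sylow
  refine ⟨P, P.isPGroup', hP (le_sup_right (a := Subgroup.zpowers D) (Subgroup.mem_zpowers _)),
    hP (le_sup_left (b := Subgroup.zpowers (inGL (F := F) jS)) (Subgroup.mem_zpowers D)), ?_⟩
  by_contra hcon
  push Not at hcon
  -- a quaternion group, conjugated into `P`
  obtain ⟨a, b, hab⟩ := exists_neg_one_sq_add (F := F)
  let K : SL := ⟨!![a, b; b, -a], by rw [Matrix.det_fin_two_of]; linear_combination -hab⟩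
  have hK4 : inGL K ^ 4 = 1 := by
    refine Units.ext ?_
    have e : K.1 * K.1 = -1 := by
      simp only [K, Matrix.one_fin_two]
      ext i j
      fin_cases i <;> fin_cases j <;> simp <;> first | linear_combination hab | linear_combination -hab | ring
    rw [Units.val_pow_eq_pow_val, inGL_val, show (4 : ℕ) = 2 + 2 from rfl, pow_add, pow_two, e]
    simp
  have hKJ : conjSL (inGL K) jS = jS⁻¹ := by
    refine inGL_injective (mul_right_cancel (b := inGL K) ?_)
    rw [inGL_conjSL, inv_mul_cancel_right, map_inv, eq_inv_mul_iff_mul_eq]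
    refine Units.ext ?_
    rw [Units.val_mul, Units.val_mul, inGL_val, inGL_val, jS_val]
    simp only [K]
    ext i j
    fin_cases i <;> fin_cases j <;> simp
  have hQ : IsPGroup 2 ↥(Subgroup.zpowers (inGL K) ⊔ Subgroup.zpowers (inGL (F := F) jS)) := by
    refine IsPGroup.to_sup_of_normal_right' (h4 _ hK4) (h4 _ hJ4) (Subgroup.zpowers_le.2 ?_)
    have hk : inGL K * inGL jS * (inGL K)⁻¹ = (inGL jS)⁻¹ := by rw [← inGL_conjSL, hKJ, map_inv]
    refine Subgroup.mem_normalizer_iff.2 fun y => ⟨?_, ?_⟩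
    · rintro ⟨i, rfl⟩
      exact ⟨-i, by
        show inGL jS ^ (-i) = _
        rw [← conj_zpow, hk, inv_zpow, zpow_neg]⟩
    · rintro ⟨i, hi⟩
      refine ⟨-i, ?_⟩
      show inGL jS ^ (-i) = y
      change inGL jS ^ i = _ at hi
      have hk' : (inGL K)⁻¹ * inGL jS * ((inGL K)⁻¹)⁻¹ = (inGL jS)⁻¹ := by
        rw [inv_inv, ← inv_inj, inv_inv]
        calc ((inGL K)⁻¹ * inGL jS * inGL K)⁻¹ = (inGL K)⁻¹ * (inGL jS)⁻¹ * inGL K := by group
          _ = inGL jS := by rw [← hk]; group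
      rw [zpow_neg, ← inv_zpow, ← hk', conj_zpow, hi]
      group
  obtain ⟨Q, hQ'⟩ := hQ.exists_le_sylow
  obtain ⟨x, hx⟩ := MulAction.exists_smul_eq (GL (Fin 2) F) Q P
  have hmem : ∀ g : SL, inGL g ∈ (Q : Subgroup (GL (Fin 2) F)) → inGL (conjSL x g) ∈ (P : Subgroup (GL (Fin 2) F)) := by
    intro g hg
    rw [← hx, Sylow.coe_subgroup_smul, inGL_conjSL]
    exact Subgroup.smul_mem_pointwise_smul _ (MulAut.conj x) _ hg
  have cJ : ∀ g : SL, conjSL (inGL jS) g = g → g.1 1 1 = g.1 0 0 ∧ g.1 1 0 = -(g.1 0 1) := by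
    intro g hg
    have e : inGL jS * inGL g = inGL g * inGL jS := by
      have := congrArg inGL hg
      rwa [inGL_conjSL, mul_inv_eq_iff_eq_mul] at this
    have e' : (jS : SL).1 * g.1 = g.1 * (jS : SL).1 := congrArg Units.val e
    obtain ⟨p, q, r, s, hv⟩ : ∃ p q r s, g.1 = !![p, q; r, s] := ⟨_, _, _, _, Matrix.eta_fin_two _⟩
    rw [hv, jS_val] at e'
    rw [hv]
    have h00 := congrFun (congrFun e' 0) 0
    have h01 := congrFun (congrFun e' 0) 1
    simp at h00 h01
    exact ⟨by simpa using h01, by simpa using h00⟩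
  have hc : ∀ g g' : SL, conjSL (inGL jS) g = g → conjSL (inGL jS) g' = g' → g * g' = g' * g := by
    intro g g' hg hg'
    obtain ⟨u1, u2⟩ := cJ g hg
    obtain ⟨v1, v2⟩ := cJ g' hg'
    refine Subtype.ext ?_
    show g.1 * g'.1 = g'.1 * g.1
    ext i j
    fin_cases i <;> fin_cases j <;> simp [Matrix.mul_apply, Fin.sum_univ_two, u1, u2, v1, v2] <;> ring
  have hjK := hc _ _
    (hcon (conjSL x jS) (hmem _ (hQ' (le_sup_right (a := Subgroup.zpowers (inGL K)) (Subgroup.mem_zpowers _)))))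
    (hcon (conjSL x K) (hmem _ (hQ' (le_sup_left (b := Subgroup.zpowers (inGL (F := F) jS))
      (Subgroup.mem_zpowers _)))))
  have e : jS * K = K * jS := by
    refine inGL_injective ?_
    have := congrArg inGL hjK
    simp only [map_mul, inGL_conjSL] at this ⊢
    have h' := congrArg (fun w => x⁻¹ * w * x) this
    simpa [mul_assoc] using h'
  have e' : (jS : SL).1 * K.1 = K.1 * (jS : SL).1 := congrArg Subtype.val e
  rw [jS_val] at e'
  have h00 := congrFun (congrFun e' 0) 0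
  have h01 := congrFun (congrFun e' 0) 1
  simp [K] at h00 h01
  have ha : a = 0 := by
    have : (2 : F) * a = 0 := by first | linear_combination h01 | linear_combination -h01
    exact (mul_eq_zero.1 this).resolve_left h2
  have hb : b = 0 := by
    have : (2 : F) * b = 0 := by first | linear_combination h00 | linear_combination -h00
    exact (mul_eq_zero.1 this).resolve_left h2
  rw [ha, hb] at hab
  simp at hab

end Cfsg.Agent.TwoCentralSq
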