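import Cfsg.Agent.Lib.TwoCentralSq.ChevCommon
import Cfsg.Agent.Lib.TwoCentralSq.Monomial
import Cfsg.Agent.Lib.TwoCentralSq.SL2Kill

/-!
The criterion for simply laced adjoint groups: the involutions centralising a certain two-subgroup are torus elements
with decompositions.
-/

set_option autoImplicit false

namespace Cfsg.Agent.TwoCentralSq

open Cfsg.Lie Cfsg.Agent.Chev Cfsg.Agent.Chev.Tab Cfsg.Agent.Chev.Tab.BTi Cfsg.Agent.ChevOdd
open SL2Pres (up low diagS)
open Matrix (SpecialLinearGroup)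

variable {T : Tab} {F : Type*} [Field F]

/-! ### The checks -/

/-- Roots are combinations of the fundamental ones by their coroot coefficients. -/
def checkLin (T : Tab) : Bool :=
  Chev.allBelow (fun j => Chev.allBelow (fun s =>
    T.A j s == sumBelow (fun i => T.c s i * T.A j (T.smp i)) T.l) T.n) T.l

/-- Some Cartan integer at each root is odd. -/
def checkSep (T : Tab) : Bool :=
  Chev.allBelow (fun s => anyBelow (fun j => T.A j s % 2 == 1) T.l) T.n

/-- The parities of the Cartan integers determine a fundamental root up to sign. -/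
def checkUniq (T : Tab) : Bool :=
  Chev.allBelow (fun i => Chev.allBelow (fun s =>
    anyBelow (fun j => !(T.A j s % 2 == T.A j (T.smp i) % 2)) T.l || Nat.beq s (T.smp i) ||
      Nat.beq s (T.neg (T.smp i))) T.n) T.l

/-- Linked fundamental roots cannot change their signs differently. -/
def checkMixed (T : Tab) : Bool :=
  Chev.allBelow (fun i => Chev.allBelow (fun j => T.A j (T.smp i) == 0 || Chev.allBelow (fun s =>
    anyBelow (fun k => !(T.A k s == -T.A k (T.smp i) - T.A j (T.smp i) * T.A k (T.smp j))) T.l) T.n) T.l) T.l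

/-- The diagram is connected. -/
def checkConn (T : Tab) : Bool :=
  Chev.allBelow (fun M => Nat.beq M 0 || Nat.beq (M + 1) (2 ^ T.l) || anyBelow (fun i => anyBelow (fun j =>
    Nat.testBit M i && !Nat.testBit M j && !(T.A j (T.smp i) == 0)) T.l) T.l) (2 ^ T.l)

/-- The parity at a root of the weights of mask `e` on the fundamental roots. -/
def eP (T : Tab) (e s : ℕ) : ℤ := sumBelow (fun i => bif Nat.testBit e i then T.c s i else 0) T.l

/-- Certificate: each weight mask even on `G` is the weight of a product of coroots even at it. -/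
def checkEps (T : Tab) (G : List ℕ) (C : List (List ℕ)) : Bool :=
  Chev.allBelow (fun e => G.any (fun j => Nat.testBit e j) ||
    ((C.getD e []).all (fun r => Nat.blt r T.n && eP T e r % 2 == 0) &&
      Chev.allBelow (fun i => Nat.testBit e i ==
        (sumBelow (fun j => ((C.getD e []).map fun r => T.c r j).sum * T.A j (T.smp i)) T.l % 2 == 1)) T.l))
    (2 ^ T.l)

/-- The auxiliary fundamental reflections are mutually orthogonal and orthogonal to `i₀`. -/
def checkGens (T : Tab) (G : List ℕ) (i₀ : ℕ) : Bool :=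
  G.all (fun j => Nat.blt j T.l && !Nat.beq j i₀ && T.A i₀ (T.smp j) == 0 && T.A j (T.smp i₀) == 0 &&
    G.all fun k => Nat.beq j k || T.A j (T.smp k) == 0)

/-! ### Weights -/

theorem wt_eq_of_tor_eq (g : T.Good) {c d : ℕ → Fˣ} (e : tor T F c = tor T F d) {s : ℕ} (hs : s < T.n) :
    wt T F c s = wt T F d s := by
  have := congrArg (fun X : GL T.D.Idx F => (X : Matrix T.D.Idx T.D.Idx F)
    (Sum.inr ⟨s, by rw [g.nroots_eq]; exact hs⟩) (Sum.inr ⟨s, by rw [g.nroots_eq]; exact hs⟩)) e
  exact Units.ext (by simpa [tor_apply, dg_val, dgv] using this)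

theorem wt_lin (hl : checkLin T = true) (c : ℕ → Fˣ) {s : ℕ} (hs : s < T.n) :
    wt T F c s = ∏ i ∈ Finset.range T.l, wt T F c (T.smp i) ^ T.c s i := by
  simp only [checkLin, allBelow_eq_true, beq_iff_eq, sumBelow_eq_sum] at hl
  simp only [wt, ← Finset.prod_zpow, ← zpow_mul]
  rw [Finset.prod_comm]
  refine Finset.prod_congr rfl fun j hj => ?_
  rw [prod_zpow_sum, hl j (Finset.mem_range.1 hj) s hs]
  congr 1
  exact Finset.sum_congr rfl fun i _ => mul_comm _ _

theorem tor_eq_of_smp (g : T.Good) (hl : checkLin T = true) {c d : ℕ → Fˣ}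
    (h : ∀ i < T.l, wt T F c (T.smp i) = wt T F d (T.smp i)) : tor T F c = tor T F d := by
  rw [tor_apply, tor_apply]
  refine dg_congr g fun s hs => ?_
  rw [wt_lin hl c hs, wt_lin hl d hs]
  exact Finset.prod_congr rfl fun i hi => by rw [h i (Finset.mem_range.1 hi)]

theorem neg_one_zpow_ite (k : ℤ) : (-1 : Fˣ) ^ k = if (k % 2 == 1) = true then -1 else 1 := by
  by_cases h : k % 2 = 1
  · rw [if_pos (by simpa using h)]
    exact (Int.odd_iff.2 h).neg_one_zpow
  · rw [if_neg (by simpa using h)]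
    exact (Int.even_iff.2 (by omega)).neg_one_zpow

theorem list_prod_cR (T : Tab) (L : List ℕ) (u : Fˣ) (j : ℕ) :
    (L.map fun r => cR T r u).prod j = u ^ (L.map fun r => T.c r j).sum := by
  induction L with
  | nil => simp
  | cons r L ih => rw [List.map_cons, List.prod_cons, List.map_cons, List.sum_cons, Pi.mul_apply, ih,
      _root_.zpow_add, cR]

theorem inSq_eps (g : T.Good) (hl : checkLin T = true) (h2 : (2 : F) ≠ 0) {G : List ℕ} {C : List (List ℕ)}
    (hC : checkEps T G C = true) {z : T.D.group F} {c : ℕ → Fˣ} (hz : (z : GL T.D.Idx F) = tor T F c)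
    (hw : ∀ i < T.l, wt T F c (T.smp i) = 1 ∨ wt T F c (T.smp i) = -1)
    (hG : ∀ j ∈ G, j < T.l ∧ wt T F c (T.smp j) = 1) : InSq z := by
  classical
  obtain ⟨e, he⟩ : ∃ e, e = Nat.ofBits fun i : Fin T.l => decide (wt T F c (T.smp i) = -1) := ⟨_, rfl⟩
  have hbit : ∀ i < T.l, Nat.testBit e i = decide (wt T F c (T.smp i) = -1) := fun i hi => by
    rw [he, Nat.testBit_ofBits_lt _ _ hi]
  have hwe : ∀ i < T.l, wt T F c (T.smp i) = bif Nat.testBit e i then -1 else 1 := fun i hi => by
    rw [hbit i hi]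
    rcases hw i hi with h | h
    · simp [h, (neg_one_ne h2).symm]
    · simp [h]
  have h := allBelow_eq_true.1 hC e (he ▸ Nat.ofBits_lt_two_pow _)
  simp only [Bool.or_eq_true, List.any_eq_true, Bool.and_eq_true, List.all_eq_true, nat_blt, allBelow_eq_true,
    beq_iff_eq, sumBelow_eq_sum] at h
  rcases h with ⟨j, hj, hje⟩ | ⟨hL, hbits⟩
  · obtain ⟨hjl, hj1⟩ := hG j hj
    rw [hbit j hjl, hj1, decide_eq_true_eq] at hje
    exact absurd hje.symm (neg_one_ne h2)
  refine inSq_tor g hz (C.getD e []) (fun r hr => ⟨(hL r hr).1, ?_⟩) (tor_eq_of_smp g hl fun i hi => ?_)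
  · have hp : wt T F c r = (-1 : Fˣ) ^ eP T e r := by
      rw [wt_lin hl c (hL r hr).1, eP, sumBelow_eq_sum, ← prod_zpow_sum]
      refine Finset.prod_congr rfl fun i hi => ?_
      rw [hwe i (Finset.mem_range.1 hi)]
      cases Nat.testBit e i <;> simp
    rw [hp]
    exact (Int.even_iff.2 (hL r hr).2).neg_one_zpow
  · have hp : wt T F (((C.getD e []).map fun r => cR T r (-1 : Fˣ)).prod) (T.smp i) =
        (-1 : Fˣ) ^ ∑ j ∈ Finset.range T.l, ((C.getD e []).map fun r => T.c r j).sum * T.A j (T.smp i) := by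
      rw [wt, ← prod_zpow_sum]
      refine Finset.prod_congr rfl fun j _ => ?_
      rw [list_prod_cR, ← zpow_mul]
    rw [hp, neg_one_zpow_ite, ← hbits i hi, hwe i hi]
    cases Nat.testBit e i <;> simp

/-! ### The two-subgroup -/

variable (T F) in
/-- The torus elements of the group squaring to one. -/
def tor2 : Subgroup (T.D.group F) where
  carrier := {y | ∃ c, (y : GL T.D.Idx F) = tor T F c ∧ tor T F (c * c) = 1}
  one_mem' := ⟨1, by simp, by simp⟩
  mul_mem' := by
    rintro y y' ⟨c, hy, hc⟩ ⟨d, hy', hd⟩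
    refine ⟨c * d, by rw [Subgroup.coe_mul, hy, hy', map_mul], ?_⟩
    rw [mul_mul_mul_comm, map_mul, hc, hd, one_mul]
  inv_mem' := by
    rintro y ⟨c, hy, hc⟩
    refine ⟨c⁻¹, by rw [Subgroup.coe_inv, hy, map_inv], ?_⟩
    rw [← mul_inv, map_inv, hc, inv_one]

theorem tor2_sq {y : T.D.group F} (hy : y ∈ tor2 T F) : y * y = 1 := by
  obtain ⟨c, hy, hc⟩ := hy
  refine Subtype.ext ?_
  rw [Subgroup.coe_mul, hy, ← map_mul, hc]
  rfl

theorem tor2_isPGroup : IsPGroup 2 ↥(tor2 T F) := fun y => ⟨1, Subtype.ext (by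
  rw [pow_one, pow_two]; exact tor2_sq y.2)⟩

theorem hS_mem_tor2 (g : T.Good) {i : ℕ} (hi : i < T.l) :
    (⟨hS T F i (-1), hS_mem_group g hi _⟩ : T.D.group F) ∈ tor2 T F :=
  ⟨Pi.mulSingle i (-1), hS_eq_tor i _, by rw [← Pi.mulSingle_mul, neg_one_mul, _root_.neg_neg,
    Pi.mulSingle_one, map_one]⟩

/-- The representatives of fundamental reflections inside the group. -/
noncomputable def nGg (g : T.Good) (F : Type*) [Field F] (j : ℕ) : T.D.group F := ⟨nG g F j, nG_mem_group g j⟩

theorem nGg_normalizes (g : T.Good) {j : ℕ} (hj : j < T.l) :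
    nGg g F j ∈ Subgroup.normalizer (tor2 T F : Set (T.D.group F)) := by
  have hsq : nGg g F j * nGg g F j ∈ tor2 T F := by
    have : nGg g F j * nGg g F j = ⟨hS T F j (-1), hS_mem_group g hj _⟩ := Subtype.ext (nG_sq g hj)
    rw [this]; exact hS_mem_tor2 g hj
  have key : ∀ y ∈ tor2 T F, nGg g F j * y * (nGg g F j)⁻¹ ∈ tor2 T F := by
    rintro y ⟨c, hy, hc⟩
    obtain ⟨d, hd⟩ := torus_conj_le g hj c
    refine ⟨d, ?_, ?_⟩
    · show nG g F j * (y : GL T.D.Idx F) * (nG g F j)⁻¹ = _
      rw [hy, hd]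
    · rw [map_mul, ← hd]
      calc _ = nG g F j * (tor T F c * tor T F c) * (nG g F j)⁻¹ := by group
        _ = 1 := by rw [← map_mul, hc]; group
  refine Subgroup.mem_normalizer_iff.2 fun y => ⟨key y, fun hy => ?_⟩
  have e : y = (nGg g F j * nGg g F j)⁻¹ * (nGg g F j * (nGg g F j * y * (nGg g F j)⁻¹) * (nGg g F j)⁻¹) *
      (nGg g F j * nGg g F j) := by group
  rw [e]
  exact mul_mem (mul_mem (inv_mem hsq) (key _ hy)) hsq

/-- The torus part extended by some reflections. -/
noncomputable def gN (g : T.Good) (F : Type*) [Field F] : List ℕ → Subgroup (T.D.group F)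
  | [] => tor2 T F
  | j :: G => Subgroup.zpowers (nGg g F j) ⊔ gN g F G

theorem tor2_le_gN (g : T.Good) : ∀ G : List ℕ, tor2 T F ≤ gN g F G
  | [] => le_rfl
  | _ :: G => le_trans (tor2_le_gN g G) le_sup_right

theorem nGg_mem_gN (g : T.Good) : ∀ {G : List ℕ} {j : ℕ}, j ∈ G → nGg g F j ∈ gN g F G
  | k :: G, j, h => by
    rcases List.mem_cons.1 h with rfl | h
    · exact le_sup_left (b := gN g F G) (Subgroup.mem_zpowers _)
    · exact le_sup_right (a := Subgroup.zpowers (nGg g F k)) (nGg_mem_gN g h)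

theorem gN_normal (g : T.Good) {x : T.D.group F}
    (hx : x ∈ Subgroup.normalizer (tor2 T F : Set (T.D.group F))) :
    ∀ {G : List ℕ}, (∀ j ∈ G, Commute x (nGg g F j)) →
      x ∈ Subgroup.normalizer (gN g F G : Set (T.D.group F))
  | [], _ => hx
  | j :: G, h => by
    have i1 := Subgroup.mem_normalizer_iff.1 (gN_normal g hx (G := G) fun k hk => h k (List.mem_cons_of_mem _ hk))
    have hc := h j List.mem_cons_self
    have key : ∀ u : T.D.group F, (∀ y ∈ gN g F G, u * y * u⁻¹ ∈ gN g F G) → Commute u (nGg g F j) →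
        ∀ y ∈ gN g F (j :: G), u * y * u⁻¹ ∈ gN g F (j :: G) := by
      intro u hu hcu y hy
      have : gN g F (j :: G) ≤ (gN g F (j :: G)).comap (MulAut.conj u).toMonoidHom := by
        refine sup_le (Subgroup.zpowers_le.2 ?_) fun y hy => ?_
        · show u * nGg g F j * u⁻¹ ∈ gN g F (j :: G)
          rw [hcu.eq, mul_inv_cancel_right]
          exact nGg_mem_gN g List.mem_cons_self
        · exact le_sup_right (a := Subgroup.zpowers (nGg g F j)) (hu y hy)
      exact this hy
    refine Subgroup.mem_normalizer_iff.2 fun y => ⟨key x (fun y hy => (i1 y).1 hy) hc y, fun hy => ?_⟩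
    have := key x⁻¹ (fun y hy => (i1 _).2 (by simpa [mul_assoc] using hy)) hc.inv_left _ hy
    simpa [mul_assoc] using this

theorem gN_isPGroup (g : T.Good) : ∀ {G : List ℕ}, (∀ j ∈ G, j < T.l) →
    G.Pairwise (fun j k => Commute (nGg g F j) (nGg g F k)) → IsPGroup 2 ↥(gN g F G)
  | [], _, _ => tor2_isPGroup
  | j :: G, h, hp => by
    obtain ⟨h1, h2⟩ := List.pairwise_cons.1 hp
    refine IsPGroup.to_sup_of_normal_right' ?_ (gN_isPGroup g (fun k hk => h k (List.mem_cons_of_mem _ hk)) h2)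
      (Subgroup.zpowers_le.2 (gN_normal g (nGg_normalizes g (h j List.mem_cons_self)) h1))
    rintro ⟨y, i, rfl⟩
    refine ⟨2, Subtype.ext ?_⟩
    show (nGg g F j ^ i) ^ 2 ^ 2 = 1
    rw [← zpow_natCast, ← zpow_mul, mul_comm, zpow_mul, zpow_natCast]
    have e : nGg g F j ^ (2 ^ 2) = 1 := by
      have hsq : nGg g F j * nGg g F j = ⟨hS T F j (-1), hS_mem_group g (h j List.mem_cons_self) _⟩ :=
        Subtype.ext (nG_sq g (h j List.mem_cons_self))
      rw [show (2 : ℕ) ^ 2 = 2 * 2 by norm_num, pow_mul, pow_two, pow_two, hsq]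
      exact tor2_sq (hS_mem_tor2 g (h j List.mem_cons_self))
    rw [e, one_zpow]

/-! ### The Weyl group element of a centralising involution -/

theorem monomial_of_comm (g : T.GoodA) (h2 : (2 : F) ≠ 0) (hsep : checkSep T = true) {x : GL T.D.Idx F}
    (hx : x ∈ T.D.group F) (hc : ∀ i < T.l, hS T F i (-1) * x = x * hS T F i (-1)) :
    ∃ L, T.Wd L ∧ (∃ c, x = tor T F c * nWd g.toGood F L) ∧
      ∀ i < T.l, ∀ s < T.n, T.A i (T.rw' L s) % 2 = T.A i s % 2 := by
  have hpar : ∀ i < T.l, ∀ r, par T (2 ^ i) r = T.A i r := fun i hi r => by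
    rw [par, sumBelow_eq_sum]
    simp [Nat.testBit_two_pow, Bool.cond_decide, hi]
  obtain ⟨L, hL, hxc, hp⟩ := monomial_of_masks g h2 ((List.range T.l).map (2 ^ ·)) (fun s hs => by
    obtain ⟨i, hi, hodd⟩ := anyBelow_eq_true.1 (allBelow_eq_true.1 hsep s hs)
    rw [beq_iff_eq] at hodd
    refine ⟨2 ^ i, List.mem_map.2 ⟨i, List.mem_range.2 hi, rfl⟩, ?_⟩
    simp [inH, hpar i hi, hodd]) hx fun m hm => by
    obtain ⟨i, hi, rfl⟩ := List.mem_map.1 hm
    have e : hM T F (2 ^ i) = hS T F i (-1) := by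
      rw [hM, hS_eq_tor]
      refine tor_congr g.toGood fun j _ => ?_
      unfold sgn
      rw [Nat.testBit_two_pow]
      by_cases e : i = j
      · subst e; simp
      · simp [e]
    rw [e]
    exact hc i (List.mem_range.1 hi)
  refine ⟨L, hL, hxc, fun i hi s hs => ?_⟩
  have h4 := hp (2 ^ i) (List.mem_map.2 ⟨i, List.mem_range.2 hi, rfl⟩) s hs
  simp only [inH, hpar i hi] at h4
  rw [Bool.eq_iff_iff, beq_iff_eq, beq_iff_eq] at h4
  omega

/-- Such a Weyl group element is `±1`. -/
theorem weyl_pm (g : T.Good) (hu : checkUniq T = true) (hmx : checkMixed T = true) (hcn : checkConn T = true)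
    {L : List ℕ} (hL : T.Wd L) (h : ∀ i < T.l, ∀ s < T.n, T.A i (T.rw' L s) % 2 = T.A i s % 2) :
    (∀ i < T.l, T.rw' L (T.smp i) = T.smp i) ∨ ∀ i < T.l, T.rw' L (T.smp i) = T.neg (T.smp i) := by
  classical
  have pm : ∀ i < T.l, T.rw' L (T.smp i) = T.smp i ∨ T.rw' L (T.smp i) = T.neg (T.smp i) := by
    intro i hi
    have h' := allBelow_eq_true.1 (allBelow_eq_true.1 hu i hi) _ (rw'_lt g hL (g.smp_lt hi))
    simp only [Bool.or_eq_true, nat_beq, anyBelow_eq_true, Bool.not_eq_true', beq_eq_false_iff_ne] at h'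
    rcases h' with (⟨j, hj, hne⟩ | e) | e
    · exact absurd (h j hj _ (g.smp_lt hi)) hne
    · exact Or.inl e
    · exact Or.inr e
  have link : ∀ i < T.l, ∀ j < T.l, T.rw' L (T.smp i) = T.neg (T.smp i) → T.rw' L (T.smp j) = T.smp j →
      T.A j (T.smp i) = 0 := by
    intro i hi j hj e1 e2
    have h' := allBelow_eq_true.1 (allBelow_eq_true.1 hmx i hi) j hj
    simp only [Bool.or_eq_true, allBelow_eq_true, beq_iff_eq, anyBelow_eq_true, Bool.not_eq_true',
      beq_eq_false_iff_ne] at h'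
    rcases h' with h' | h'
    · exact h'
    exfalso
    have ht := g.ref_lt hj (g.smp_lt hi)
    obtain ⟨k, hk, hne⟩ := h' _ (rw'_lt g hL ht)
    have hlin : IsLin T fun r => ((T.A k (T.rw' L r) : ℤ) : ℝ) := by
      refine IsLin.comp_rw' g hL (φ := fun r => ((T.A k r : ℤ) : ℝ)) ⟨Pi.single k 1, fun r _ => ?_⟩
      simp [lin, Pi.single_apply, hk]
    have e := hlin.lincomb (t := T.ref j (T.smp i)) (i := 1) (j := -T.A j (T.smp i))
      (g.smp_lt hi) (g.smp_lt hj) ht fun m hm => by
        rw [A_ref g hj hm (g.smp_lt hi)]; ring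
    simp only [e1, e2] at e
    rw [((g.sign' (g.smp_lt hi)).1 k hk).2.2.2] at e
    refine hne ?_
    have e' : T.A k (T.rw' L (T.ref j (T.smp i))) =
        1 * -T.A k (T.smp i) + -T.A j (T.smp i) * T.A k (T.smp j) := by exact_mod_cast e
    rw [e']; ring
  obtain ⟨M, hM⟩ : ∃ M, M = Nat.ofBits fun i : Fin T.l => decide (T.rw' L (T.smp i) = T.neg (T.smp i)) :=
    ⟨_, rfl⟩
  have hbit : ∀ i < T.l, Nat.testBit M i = decide (T.rw' L (T.smp i) = T.neg (T.smp i)) := fun i hi => by
    rw [hM, Nat.testBit_ofBits_lt _ _ hi]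
  have h' := allBelow_eq_true.1 hcn M (hM ▸ Nat.ofBits_lt_two_pow _)
  simp only [Bool.or_eq_true, nat_beq, anyBelow_eq_true, Bool.and_eq_true, Bool.not_eq_true',
    beq_eq_false_iff_ne] at h'
  rcases h' with (h0 | hall) | ⟨i, hi, j, hj, ⟨hbi, hbj⟩, hne⟩
  · refine Or.inl fun i hi => (pm i hi).resolve_right fun e => ?_
    have := hbit i hi
    rw [h0, Nat.zero_testBit, decide_eq_true e] at this
    exact Bool.false_ne_true this
  · refine Or.inr fun i hi => ?_
    have := hbit i hi
    rw [show M = 2 ^ T.l - 1 by omega, Nat.testBit_two_pow_sub_one, decide_eq_true hi] at this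
    exact of_decide_eq_true this.symm
  · rw [hbit i hi, decide_eq_true_eq] at hbi
    rw [hbit j hj, decide_eq_false_iff_not] at hbj
    exact absurd (link i hi j hj hbi ((pm j hj).resolve_right hbj)) hne

/-! ### A fundamental root subgroup -/

/-- The `SL₂` of a fundamental root with a Cartan integer that is odd at some root. -/
theorem exists_smpHom {K : List (List ℕ)} {W : List (ℕ × ℕ × ℕ)} (gW : T.GoodW K W) (h2 : (2 : F) ≠ 0) {i : ℕ} (hi : i < T.l)
    (hodd : anyBelow (fun s => T.A i s % 2 == 1) T.n = true) :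
    ∃ φ : SpecialLinearGroup (Fin 2) F →* T.D.group F, Function.Injective φ ∧
      (∀ t, ((φ (up t) : T.D.group F) : GL T.D.Idx F) = xg gW.toGood (T.smp i) t) ∧
      (∀ t, ((φ (low t) : T.D.group F) : GL T.D.Idx F) = xg gW.toGood (T.neg (T.smp i)) t) := by
  have g := gW.toGoodA
  have hg := g.toGood
  have hr := hg.smp_lt hi
  have hrel : ∀ s < T.n, ∀ t u : F, t ≠ 0 →
      (xg hg s t * xg hg (T.neg s) (-t⁻¹) * xg hg s t) * xg hg s u *
        (xg hg s t * xg hg (T.neg s) (-t⁻¹) * xg hg s t)⁻¹ = xg hg (T.neg s) (-(t⁻¹ ^ 2 * u)) :=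
    fun s hs t u ht => by
      have h := congrArg (Tab.Cov.θ0 g F) (Tab.Cov.sn_conj_self gW s hs t u ht)
      simpa [Tab.Cov.sn, Tab.Cov.θ0_sx] using h
  let D : SL2Pres.SData F (GL T.D.Idx F) :=
    { X := xg hg (T.smp i)
      Y := xg hg (T.neg (T.smp i))
      addX := xg_add hg _
      addY := xg_add hg _
      relX := hrel _ hr
      relY := fun t u ht => by
        have h := hrel _ (neg_lt hr) t u ht
        rwa [Tab.neg_neg hr] at h }
  obtain ⟨f, hX, hY⟩ := SL2Pres.exists_hom' D (fun s t hs ht =>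
    (hE_mul hg hr (Units.mk0 s hs) (Units.mk0 t ht)).symm)
  have hG : ∀ γ, f γ ∈ T.D.group F := fun γ => by
    have hle : Subgroup.closure (Set.range (up (K := F)) ∪ Set.range (low (K := F))) ≤
        (T.D.group F).comap f := by
      rw [Subgroup.closure_le]
      rintro z (⟨b, rfl⟩ | ⟨b, rfl⟩) <;> simp only [SetLike.mem_coe, Subgroup.mem_comap, hX, hY]
      · exact xg_mem_group hg _ b
      · exact xg_mem_group hg _ b
    exact hle (SL2Pres.closure_up_low (K := F) ▸ Subgroup.mem_top γ)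
  have hd : f (diagS F (-1)) = hS T F i (-1) := by
    rw [← hE_smp hg hi, ChevOdd.diagS_eq]
    simp only [map_mul, hX, hY, hE, nE, Units.val_neg, Units.val_one]
    rfl
  have hm : f (diagS F (-1)) ≠ 1 := by
    intro e
    rw [hd, hS_eq_tor, ← map_one (tor T F)] at e
    obtain ⟨s, hs, hodd⟩ := anyBelow_eq_true.1 hodd
    rw [beq_iff_eq] at hodd
    have := wt_eq_of_tor_eq hg e hs
    rw [wt_single hg hi, (Int.odd_iff.2 hodd).neg_one_zpow, wt] at this
    exact ChevOdd.neg_one_ne h2 (this.trans (by simp))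
  have hinj : Function.Injective f := by
    refine ChevOdd.sl2_injective f (fun z c e => ?_) hm
    rw [hX, hY] at e
    have hneg : T.neg (T.smp i) < T.N := (T.neg_lt_N_iff hr).2 (hg.smp_ge hi)
    have h1 : xg hg (T.neg (T.smp i)) c = 1 := borel_inf_neg hg (by
        rw [show xg hg (T.neg (T.smp i)) c = xg hg (T.smp i) z from e]
        exact genS_pos_le_borel hg (fun r hr => hr)
          (xg_mem_genS hg (S := Set.Ico T.N T.n) ⟨hg.smp_ge hi, hr⟩ z))
      (xg_mem_genS hg (S := Set.Iio T.N) hneg c)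
    exact xg_injective hg (neg_lt hr) (h1.trans (xg_zero hg _).symm)
  exact ⟨f.codRestrict _ hG, fun x y e => hinj (congrArg Subtype.val e), hX, hY⟩

/-! ### The criterion -/

/-- All the checks. -/
structure AdjOK (T : Tab) (K : List (List ℕ)) (W : List (ℕ × ℕ × ℕ)) (G : List ℕ) (C : List (List ℕ))
    (i₀ : ℕ) : Prop where
  goodW : T.GoodW K W
  pairs : checkPairs T = true
  lin : checkLin T = true
  sep : checkSep T = true
  uniq : checkUniq T = true
  mixed : checkMixed T = true
  conn : checkConn T = true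
  eps : checkEps T G C = true
  gens : checkGens T G i₀ = true
  lt : i₀ < T.l
  odd : ∀ j < T.l, anyBelow (fun s => T.A j s % 2 == 1) T.n = true

/-- The criterion for simply laced adjoint groups. -/
theorem crit_adj [Finite F] {K : List (List ℕ)} {W : List (ℕ × ℕ × ℕ)} {G : List ℕ} {C : List (List ℕ)}
    {i₀ : ℕ} (H : AdjOK T K W G C i₀) (h2 : (2 : F) ≠ 0) :
    Crit ↥(T.D.group F) := by
  have g := H.goodW.toGoodA
  have hg := g.toGood
  have hi := H.lt
  obtain ⟨φ, hinj, hup, hlow⟩ := exists_smpHom H.goodW h2 hi (H.odd i₀ hi)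
  obtain ⟨P, hP, hJ, hD, g₀, hg₀, hne⟩ := exists_kill_group (F := F) h2
  let P' : Subgroup (SpecialLinearGroup (Fin 2) F) := P.comap inGL
  have hP' : IsPGroup 2 ↥(P'.map φ) := (hP.comap_of_injective inGL inGL_injective).map φ
  have hgens : ∀ j ∈ G, (j < T.l ∧ Orth T i₀ j) ∧ ∀ k ∈ G, j ≠ k → Orth T j k := by
    have h := H.gens
    simp only [checkGens, List.all_eq_true, Bool.and_eq_true, nat_blt, Bool.not_eq_true', nat_beq_false,
      beq_iff_eq, Bool.or_eq_true, nat_beq] at h
    intro j hj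
    obtain ⟨⟨⟨⟨h1, h2'⟩, h3⟩, h4⟩, h5⟩ := h j hj
    refine ⟨⟨h1, orth_of_check H.pairs hi h1 (Ne.symm h2') (by rw [h3]; decide) (by rw [h4]; decide)⟩,
      fun k hk hne => ?_⟩
    have e1 := (h5 k hk).resolve_left hne
    have e2 := ((h k hk).2 j hj).resolve_left (Ne.symm hne)
    exact orth_of_check H.pairs h1 (h k hk).1.1.1.1 hne (by rw [e1]; decide) (by rw [e2]; decide)
  have hcomm : ∀ j ∈ G, ∀ γ, Commute (nGg hg F j) (φ γ) := by
    intro j hj γ
    obtain ⟨⟨hjl, ho⟩, -⟩ := hgens j hj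
    have e : (MulAut.conj (nGg hg F j)).toMonoidHom.comp φ = φ := by
      refine hom_ext_up_low (fun t => Subtype.ext ?_) fun t => Subtype.ext ?_
      · show nG hg F j * ((φ (up t) : T.D.group F) : GL T.D.Idx F) * (nG hg F j)⁻¹ = _
        rw [hup, (nG_comm_xg g hi hjl ho t).1.eq, mul_inv_cancel_right]
      · show nG hg F j * ((φ (low t) : T.D.group F) : GL T.D.Idx F) * (nG hg F j)⁻¹ = _
        rw [hlow, (nG_comm_xg g hi hjl ho t).2.eq, mul_inv_cancel_right]
    have := congrArg (fun f : SpecialLinearGroup (Fin 2) F →* T.D.group F => f γ) e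
    exact mul_inv_eq_iff_eq_mul.1 this
  have hpw : ∀ G' : List ℕ, (∀ j ∈ G', j ∈ G) →
      G'.Pairwise fun j k => Commute (nGg hg F j) (nGg hg F k) := by
    intro G' hG'
    induction G' with
    | nil => exact List.Pairwise.nil
    | cons j G' ih =>
      refine List.pairwise_cons.2 ⟨fun k hk => ?_, ih fun x hx => hG' x (List.mem_cons_of_mem _ hx)⟩
      by_cases e : j = k
      · subst e; exact Commute.refl _
      obtain ⟨⟨hjl, -⟩, ho⟩ := hgens j (hG' j List.mem_cons_self)
      have hkG := hG' k (List.mem_cons_of_mem _ hk)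
      have ho' := ho k hkG e
      have hx := fun t : F => nG_comm_xg g hjl (hgens k hkG).1.1 ho' t
      exact Subtype.ext (((hx 1).1.mul_right (hx (-1)).2).mul_right (hx 1).1).symm.eq
  have hN : gN hg F G ≤ Subgroup.normalizer (P'.map φ : Set (T.D.group F)) := by
    have hgen : ∀ G' : List ℕ, (∀ j ∈ G', j ∈ G) →
        gN hg F G' ≤ Subgroup.normalizer (P'.map φ : Set (T.D.group F)) := by
      intro G'
      induction G' with
      | nil =>
        intro _ y hy
        obtain ⟨c, hyc, hc⟩ := hy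
        have hu : wt T F c (T.smp i₀) * wt T F c (T.smp i₀) = 1 := by
          have := wt_eq_of_tor_eq hg (hc.trans (map_one _).symm) (hg.smp_lt hi)
          rw [wt_mul] at this
          rw [this, wt]; simp
        obtain ⟨w, hw⟩ : ∃ w, w = wt T F c (T.smp i₀) := ⟨_, rfl⟩
        rw [← hw] at hu
        have hinv : w⁻¹ = w := inv_eq_of_mul_eq_one_right hu
        have hconj : ∀ γ, y * φ γ * y⁻¹ = φ (conjSL (diagU w) γ) := conj_eq φ y (diagU w)
          (fun t => Subtype.ext (by
            show (y : GL T.D.Idx F) * (φ (up t) : T.D.group F) * (y : GL T.D.Idx F)⁻¹ = _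
            rw [diagU_up, hup, hup, hyc, tor_xg hg c (hg.smp_lt hi), hw]))
          (fun t => Subtype.ext (by
            show (y : GL T.D.Idx F) * (φ (low t) : T.D.group F) * (y : GL T.D.Idx F)⁻¹ = _
            rw [diagU_low, hlow, hlow, hyc, tor_xg hg c (neg_lt (hg.smp_lt hi)), wt_neg hg (hg.smp_lt hi), hw]))
        have hwP : diagU w ∈ P := by
          rcases mul_self_eq_one_iff.1 (show (w : F) * w = 1 by simpa using congrArg Units.val hu) with e | e
          · rw [show w = 1 from Units.ext e]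
            rw [show diagU (1 : Fˣ) = 1 from Units.ext (by simp [diagU, Matrix.one_fin_two])]
            exact one_mem _
          · rw [show w = -1 from Units.ext (by rw [e, Units.val_neg, Units.val_one])]
            exact hD
        have key : ∀ x ∈ P'.map φ, y * x * y⁻¹ ∈ P'.map φ := by
          rintro _ ⟨γ, hγ, rfl⟩
          refine ⟨_, ?_, (hconj γ).symm⟩
          show inGL (conjSL (diagU w) γ) ∈ P
          rw [inGL_conjSL]
          exact mul_mem (mul_mem hwP hγ) (inv_mem hwP)
        refine Subgroup.mem_normalizer_iff.2 fun x => ⟨key x, fun hx => ?_⟩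
        have hy2 : y⁻¹ = y := inv_eq_of_mul_eq_one_right (tor2_sq ⟨c, hyc, hc⟩)
        have e : x = y * (y * x * y⁻¹) * y⁻¹ := by
          rw [hy2]
          calc x = y * y * x * (y * y) := by rw [tor2_sq ⟨c, hyc, hc⟩]; group
            _ = _ := by group
        rw [e]
        exact key _ hx
      | cons j G' ih =>
        intro hG'
        refine sup_le (Subgroup.zpowers_le.2 (Subgroup.mem_normalizer_iff.2 fun x => ?_))
          (ih fun x hx => hG' x (List.mem_cons_of_mem _ hx))
        have hc := hcomm j (hG' j List.mem_cons_self)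
        constructor
        · rintro ⟨γ, hγ, rfl⟩
          exact ⟨γ, hγ, by rw [(hc γ).eq, mul_inv_cancel_right]⟩
        · rintro ⟨γ, hγ, e⟩
          refine ⟨γ, hγ, ?_⟩
          calc φ γ = (nGg hg F j)⁻¹ * (φ γ * nGg hg F j) := by rw [← (hc γ).eq, inv_mul_cancel_left]
            _ = _ := by rw [e]; group
    exact hgen G fun j hj => hj
  have hR : IsPGroup 2 ↥(gN hg F G ⊔ P'.map φ) :=
    IsPGroup.to_sup_of_normal_right' (gN_isPGroup hg (fun j hj => (hgens j hj).1.1) (hpw G fun j hj => hj))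
      hP' hN
  refine ⟨_, hR, fun z hz hc => ?_⟩
  have hz' : (z : GL T.D.Idx F) * z = 1 := congrArg Subtype.val hz
  obtain ⟨L, hL, ⟨c, hzc⟩, hpar⟩ := monomial_of_comm g h2 H.sep z.2 fun i hil => congrArg Subtype.val
    (hc _ (le_sup_left (b := P'.map φ) (tor2_le_gN hg G (hS_mem_tor2 hg hil))))
  rcases weyl_pm hg H.uniq H.mixed H.conn hL hpar with hid | hneg
  · obtain ⟨⟨d, hd⟩, -⟩ := nWd_torus_of_pos (F := F) hg _ le_rfl hL (rw'_id_of_simple hg hL fun i hil => by
      rw [hid i hil]; exact hg.smp_ge hil)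
    rw [hd, ← map_mul] at hzc
    have hw : ∀ s < T.n, wt T F (c * d) s = 1 ∨ wt T F (c * d) s = -1 := by
      intro s hs
      have e : tor T F (c * d * (c * d)) = tor T F 1 := by rw [map_mul, ← hzc, hz', map_one]
      have := wt_eq_of_tor_eq hg e hs
      rw [wt_mul, show wt T F (1 : ℕ → Fˣ) s = 1 by simp [wt]] at this
      rcases mul_self_eq_one_iff.1 (show (wt T F (c * d) s : F) * wt T F (c * d) s = 1 by
        simpa using congrArg Units.val this) with e | e
      · exact Or.inl (Units.ext e)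
      · exact Or.inr (Units.ext (by rw [e, Units.val_neg, Units.val_one]))
    refine inSq_eps hg H.lin h2 H.eps hzc (fun i hil => hw _ (hg.smp_lt hil)) fun j hj => ?_
    obtain ⟨⟨hjl, -⟩, -⟩ := hgens j hj
    refine ⟨hjl, ?_⟩
    have e : nG hg F j * tor T F (c * d) = tor T F (c * d) * nG hg F j := by
      have := congrArg Subtype.val (hc _ (le_sup_left (b := P'.map φ) (nGg_mem_gN hg hj)))
      rw [← hzc]
      exact this
    rw [ChevOdd.nG_tor hg hjl, map_mul, mul_assoc, mul_right_inj] at e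
    have e1 : tor T F (Pi.mulSingle j (wt T F (c * d) (T.smp j))⁻¹) = tor T F 1 := by
      rw [map_one]; exact mul_eq_right.1 e
    obtain ⟨s, hs, hodd⟩ := anyBelow_eq_true.1 (H.odd j hjl)
    rw [beq_iff_eq] at hodd
    have := wt_eq_of_tor_eq hg e1 hs
    rw [wt_single hg hjl, show wt T F (1 : ℕ → Fˣ) s = 1 by simp [wt]] at this
    rcases hw _ (hg.smp_lt hjl) with h | h
    · exact h
    · rw [h, inv_neg, inv_one, (Int.odd_iff.2 hodd).neg_one_zpow] at this
      exact absurd this (ChevOdd.neg_one_ne h2)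
  · exfalso
    obtain ⟨k, hk⟩ := mono_conj (F := F) hg hL c (hg.smp_lt hi)
    rw [hneg i₀ hi] at hk
    have hzi : (z : GL T.D.Idx F)⁻¹ = z := inv_eq_of_mul_eq_one_right hz'
    have hk' : ∀ t, (z : GL T.D.Idx F) * xg hg (T.neg (T.smp i₀)) t * (z : GL T.D.Idx F)⁻¹ =
        xg hg (T.smp i₀) ((↑k⁻¹ : F) * t) := by
      intro t
      have e := hk ((↑k⁻¹ : F) * t)
      rw [← hzc, ← mul_assoc, Units.mul_inv, one_mul] at e
      rw [← e, hzi]
      calc _ = (z : GL T.D.Idx F) * z * xg hg (T.smp i₀) ((↑k⁻¹ : F) * t) * ((z : GL T.D.Idx F) * z) := by group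
        _ = _ := by rw [hz', one_mul, mul_one]
    have hconj : ∀ γ, z * φ γ * z⁻¹ = φ (conjSL (swapU k) γ) := conj_eq φ z (swapU k)
      (fun t => Subtype.ext (by
        show (z : GL T.D.Idx F) * (φ (up t) : T.D.group F) * (z : GL T.D.Idx F)⁻¹ = _
        rw [swapU_up, hup, hlow, hzc, hk]))
      (fun t => Subtype.ext (by
        show (z : GL T.D.Idx F) * (φ (low t) : T.D.group F) * (z : GL T.D.Idx F)⁻¹ = _
        rw [swapU_low, hup, hlow, hk']))
    have fix : ∀ γ, inGL γ ∈ P → conjSL (swapU k) γ = γ := fun γ hγ => hinj (by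
      rw [← hconj, ← hc _ (le_sup_right (a := gN hg F G) ⟨γ, hγ, rfl⟩), mul_inv_cancel_right])
    have hk1 : k = -1 := by
      have e := fix jS hJ
      have e' : inGL (F := F) jS = swapU (-1) := (swapU_neg_one).symm
      have h := congrArg inGL e
      rw [inGL_conjSL, mul_inv_eq_iff_eq_mul, e'] at h
      have hh : ((swapU k * swapU (-1) : GL (Fin 2) F) : Matrix (Fin 2) (Fin 2) F) =
          ((swapU (-1) * swapU k : GL (Fin 2) F) : Matrix (Fin 2) (Fin 2) F) := congrArg Units.val h
      rw [Units.val_mul, Units.val_mul] at hh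
      have h10 := congrFun (congrFun hh 0) 0
      simp [swapU] at h10
      exact Units.ext (by rw [Units.val_neg, Units.val_one]; first | linear_combination h10 | linear_combination -h10)
    subst hk1
    exact hne (by rw [← swapU_neg_one]; exact fix g₀ hg₀)

end Cfsg.Agent.TwoCentralSq
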