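import Cfsg.Agent.Lib.TwoCentralSq.ChevAdj
import Cfsg.Agent.Lib.Lie.GoodW

/-!
The criterion for the Chevalley groups of types E6 and E7 over fields of odd order.
-/

set_option autoImplicit false
set_option maxRecDepth 20000

namespace Cfsg.Agent.TwoCentralSq

open Cfsg.Lie Cfsg.Agent.Chev

/-- Decompositions for the weight masks of E6. -/
def epsCertE6 : List (List ℕ) := [
  [], [42, 46], [36, 39, 56], [36, 61], [56], [46, 57], [36, 39], [36, 50],
  [46], [42], [36, 47, 56], [36, 58], [46, 56], [57], [36, 47], [36, 43],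
  [36], [36, 42, 46], [39, 56], [39, 48, 59], [36, 56], [36, 46, 57], [39], [39, 44, 48],
  [36, 46], [36, 42], [47, 56], [58], [36, 46, 56], [36, 57], [47], [43],
  [37, 46], [37, 42], [49, 56], [60], [37, 46, 56], [37, 57], [49], [45],
  [37], [37, 42, 46], [41, 56], [41, 47, 58], [37, 56], [37, 46, 57], [41], [41, 43, 47],
  [38, 46], [38, 42], [48, 56], [59], [38, 46, 56], [38, 57], [48], [44],
  [38], [38, 42, 46], [40, 56], [40, 47, 58], [38, 56], [38, 46, 57], [40], [40, 43, 47]]

theorem adjOKE6 : AdjOK E6Data.tab [[4, 3, 5, 6, 4, 2], [3, 6, 6, 9, 6, 3], [5, 6, 10, 12, 8, 4], [6, 9, 12, 18, 12, 6], [4, 6, 8, 12, 10, 5], [2, 3, 4, 6, 5, 4]]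
    [(16, 66, 0), (1, 71, 0), (5, 69, 0), (2, 70, 0), (3, 69, 0), (4, 68, 0)] [] epsCertE6 0 where
  goodW := ⟨⟨⟨E6Data.good, by decide +kernel⟩, by decide +kernel⟩, by decide +kernel⟩
  pairs := by decide +kernel
  lin := by decide +kernel
  sep := by decide +kernel
  uniq := by decide +kernel
  mixed := by decide +kernel
  conn := by decide +kernel
  eps := by decide +kernel
  gens := by decide +kernel
  lt := by decide +kernel
  odd := by decide +kernel

/-- The criterion for E6. -/
theorem crit_chevE6 {F : Type*} [Field F] [Finite F] (h2 : (2 : F) ≠ 0) : Crit ↥(chevE6.group F) :=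
  crit_adj adjOKE6 h2

/-- Decompositions for the weight masks of E7. -/
def epsCertE7 : List (List ℕ) := [
  [], [63, 66, 73], [], [], [93], [63, 66, 94], [], [],
  [63, 66], [73], [], [], [63, 66, 93], [94], [], [],
  [], [], [], [], [], [], [], [],
  [], [], [], [], [], [], [], [],
  [63], [66, 73], [], [], [63, 93], [66, 94], [], [],
  [66], [63, 73], [], [], [66, 93], [63, 94], [], [],
  [], [], [], [], [], [], [], [],
  [], [], [], [], [], [], [], [],
  [], [], [], [], [], [], [], [],
  [], [], [], [], [], [], [], [],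
  [], [], [], [], [], [], [], [],
  [], [], [], [], [], [], [], [],
  [], [], [], [], [], [], [], [],
  [], [], [], [], [], [], [], [],
  [], [], [], [], [], [], [], [],
  [], [], [], [], [], [], [], []]

theorem adjOKE7 : AdjOK E7Data.tab [[4, 4, 6, 8, 6, 4, 2], [4, 7, 8, 12, 9, 6, 3], [6, 8, 12, 16, 12, 8, 4], [8, 12, 16, 24, 18, 12, 6], [6, 9, 12, 18, 15, 10, 5], [4, 6, 8, 12, 10, 8, 4], [2, 3, 4, 6, 5, 4, 3]]
    [(1, 125, 0), (7, 122, 0), (2, 124, 0), (3, 123, 0), (4, 122, 0), (5, 121, 0), (6, 120, 0)] [1, 4, 6] epsCertE7 0 where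
  goodW := ⟨⟨⟨E7Data.good, by decide +kernel⟩, by decide +kernel⟩, by decide +kernel⟩
  pairs := by decide +kernel
  lin := by decide +kernel
  sep := by decide +kernel
  uniq := by decide +kernel
  mixed := by decide +kernel
  conn := by decide +kernel
  eps := by decide +kernel
  gens := by decide +kernel
  lt := by decide +kernel
  odd := by decide +kernel

/-- The criterion for E7. -/
theorem crit_chevE7 {F : Type*} [Field F] [Finite F] (h2 : (2 : F) ≠ 0) : Crit ↥(chevE7.group F) :=
  crit_adj adjOKE7 h2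

end Cfsg.Agent.TwoCentralSq
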