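import Cfsg.Agent.Lib.TwoCentralSq.Crit
import Cfsg.Agent.Lib.ChevOdd.Cent
import Cfsg.Agent.Lib.ChevOdd.Torus

/-!
Torus involutions of Chevalley groups as products of squares of elements centralising them.
-/

set_option autoImplicit false

namespace Cfsg.Agent.TwoCentralSq

open Cfsg.Lie Cfsg.Agent.Chev Cfsg.Agent.Chev.Tab Cfsg.Agent.ChevOdd

variable {T : Tab} {F : Type*} [Field F]

/-- The torus parameters of `h_r(u)`. -/
def cR (T : Tab) (r : ℕ) (u : Fˣ) : ℕ → Fˣ := fun j => u ^ T.c r j

theorem c_ref (g : T.Good) {i s j : ℕ} (hi : i < T.l) (hs : s < T.n) (hj : j < T.l) :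
    T.c (T.ref i s) j = if j = i then T.c s j - ∑ k ∈ Finset.range T.l, T.c s k * T.A k (T.smp i) else T.c s j := by
  have h := g.refl
  simp only [checkRef, allBelow_eq_true, Bool.and_eq_true, beq_iff_eq] at h
  have := ((h i hi s hs).2 j hj).2
  rw [this, sumBelow_eq_sum]
  by_cases e : j = i
  · subst e
    rw [show Nat.beq j j = true from Nat.beq_refl j, cond_true, if_pos rfl]
  · rw [show Nat.beq j i = false from Bool.eq_false_iff.2 fun h' => e (Nat.eq_of_beq_eq_true h'), cond_false,
      if_neg e]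

/-- `h_r(u)` in the coordinates of the fundamental coroots. -/
theorem hE_tor (g : T.Good) {r : ℕ} (hr : r < T.n) (u : Fˣ) : hE g r (u : F) = tor T F (cR T r u) := by
  refine root_induction g (P := fun r => hE g r (u : F) = tor T F (cR T r u)) ?_ ?_ r hr
  · intro i hi
    rw [hE_smp g hi, hS_eq_tor]
    refine tor_congr g fun j hj => ?_
    rw [cR, c_smp g hi hj]
    by_cases e : j = i
    · subst e; simp
    · simp [e]
  · intro i hi s hs ih
    rw [← hE_ref g hi hs, ih, ChevOdd.nG_tor g hi, mul_inv_cancel_right]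
    refine tor_congr g fun j hj => ?_
    simp only [Pi.mul_apply, cR, c_ref g hi hs hj]
    by_cases e : j = i
    · subst e
      rw [Pi.mulSingle_eq_same, if_pos rfl, wt, zpow_sub, ← prod_zpow_sum]
      congr 2
      refine Finset.prod_congr rfl fun k _ => ?_
      rw [cR, ← zpow_mul]
    · rw [Pi.mulSingle_eq_of_ne e, if_neg e, mul_one]

/-- An element with trivial weight at a root commutes with the representative of its reflection. -/
theorem nE_comm (g : T.Good) {c : ℕ → Fˣ} {r : ℕ} (hr : r < T.n) (h : wt T F c r = 1) (a : F) :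
    Commute (nE g r a) (tor T F c) := by
  have h1 : ∀ s, s < T.n → wt T F c s = 1 → ∀ t : F, Commute (xg g s t) (tor T F c) := fun s hs hw t => by
    have := tor_xg g c hs t
    rw [hw, Units.val_one, one_mul, mul_inv_eq_iff_eq_mul] at this
    exact this.symm
  have hn := neg_lt (T := T) hr
  have hw : wt T F c (T.neg r) = 1 := by rw [wt_neg g hr, h, inv_one]
  exact ((h1 r hr h a).mul_left (h1 _ hn hw _)).mul_left (h1 r hr h a)

/-- A torus element that is a product of `h_r(-1)` over roots on which it is trivial. -/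
theorem inSq_tor (g : T.Good) {c : ℕ → Fˣ} {z : T.D.group F} (hz : (z : GL T.D.Idx F) = tor T F c) (L : List ℕ)
    (hL : ∀ r ∈ L, r < T.n ∧ wt T F c r = 1)
    (he : tor T F c = tor T F (L.map fun r => cR T r (-1 : Fˣ)).prod) : InSq z := by
  have key : ∀ M : List ℕ, (∀ r ∈ M, r ∈ L) → ∃ y : T.D.group F,
      (y : GL T.D.Idx F) = tor T F (M.map fun r => cR T r (-1 : Fˣ)).prod ∧
        y ∈ Subgroup.closure {y : T.D.group F | ∃ h, h * z = z * h ∧ h * h = y} := by
    intro M
    induction M with
    | nil => exact fun _ => ⟨1, by simp, one_mem _⟩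
    | cons r M ih =>
      intro hM
      obtain ⟨y, hy, hm⟩ := ih fun s hs => hM s (List.mem_cons_of_mem _ hs)
      obtain ⟨hr, hw⟩ := hL r (hM r List.mem_cons_self)
      have hn : nE g r (1 : F) ∈ T.D.group F :=
        mul_mem (mul_mem (xg_mem_group g _ _) (xg_mem_group g _ _)) (xg_mem_group g _ _)
      refine ⟨⟨_, hn⟩ * ⟨_, hn⟩ * y, ?_, mul_mem (Subgroup.subset_closure ⟨⟨_, hn⟩, Subtype.ext ?_, rfl⟩) hm⟩
      · have e := nE_mul_nE_eq_hE g hr (1 : Fˣ) 1
        simp only [Units.val_one, inv_one, mul_one] at e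
        rw [List.map_cons, List.prod_cons, map_mul, ← hE_tor g hr]
        show nE g r (1 : F) * nE g r (1 : F) * (y : GL T.D.Idx F) = _
        rw [hy, e, Units.val_neg, Units.val_one]
      · show nE g r (1 : F) * (z : GL T.D.Idx F) = z * nE g r (1 : F)
        rw [hz]
        exact (nE_comm g hr hw 1).eq
  obtain ⟨y, hy, hm⟩ := key L fun r h => h
  have e : y = z := Subtype.ext (by rw [hy, hz, he])
  rw [e] at hm
  exact hm

end Cfsg.Agent.TwoCentralSq
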