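import Cfsg.Agent.Lib.TwoCentralSq.ChevCommon

/-!
Chevalley groups with freely parametrised torus: every involution is a product of squares in its centraliser.
-/

set_option autoImplicit false

namespace Cfsg.Agent.TwoCentralSq

open Cfsg.Lie Cfsg.Agent.Chev Cfsg.Agent.Chev.Tab Cfsg.Agent.ChevOdd

variable {T : Tab} {F : Type*} [Field F]

/-- Certificate: each mask is the parity sum of coroots even at it. -/
def checkMasks (T : Tab) (C : List (List ℕ)) : Bool :=
  Chev.allBelow (fun m => (C.getD m []).all (fun r => Nat.blt r T.n && inH T m r) &&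
    Chev.allBelow (fun j => Nat.testBit m j == (((C.getD m []).map fun r => T.c r j).sum % 2 == 1)) T.l) (2 ^ T.l)

theorem prod_cR (T : Tab) (L : List ℕ) (u : Fˣ) (j : ℕ) :
    (L.map fun r => cR T r u).prod j = u ^ (L.map fun r => T.c r j).sum := by
  induction L with
  | nil => simp
  | cons r L ih => rw [List.map_cons, List.prod_cons, List.map_cons, List.sum_cons, Pi.mul_apply, ih,
      _root_.zpow_add, cR]

theorem neg_one_zpow_eq (k : ℤ) : (-1 : Fˣ) ^ k = if (k % 2 == 1) = true then -1 else 1 := by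
  by_cases h : k % 2 = 1
  · rw [if_pos (by simpa using h)]
    exact (Int.odd_iff.2 h).neg_one_zpow
  · rw [if_neg (by simpa using h)]
    exact (Int.even_iff.2 (by omega)).neg_one_zpow

/-- The criterion for a freely parametrised torus. -/
theorem crit_mask [Fintype F] (g : T.GoodA) (hp : checkPairs T = true) {M : ℕ → ℕ → ℤ}
    (hinv : checkInv T M = true) {C : List (List ℕ)} (hC : checkMasks T C = true)
    (hodd : Odd (Fintype.card F)) : Crit ↥(T.D.group F) := by
  have hg := g.toGood
  have hi : InjT T F := injT hg hinv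
  have h2 : (2 : F) ≠ 0 := by
    refine Ring.two_ne_zero fun e2 => ?_
    have := FiniteField.even_card_of_char_two e2
    rw [Nat.odd_iff] at hodd
    omega
  refine ⟨⊥, IsPGroup.of_bot, fun z hz _ => ?_⟩
  have hz' : (z : GL T.D.Idx F) * z = 1 := congrArg Subtype.val hz
  obtain ⟨k, hk, c, hc⟩ := exists_conj_tor g hp hi hodd z.2 hz'
  have hc2 : tor T F (c * c) = tor T F 1 := by
    rw [map_mul, ← hc, map_one]
    calc k * (z : GL T.D.Idx F) * k⁻¹ * (k * z * k⁻¹) = k * (z * z) * k⁻¹ := by group
      _ = 1 := by rw [hz']; group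
  classical
  obtain ⟨m, hm, hcm⟩ : ∃ m < 2 ^ T.l, tor T F c = hM T F m := by
    refine ⟨Nat.ofBits fun i : Fin T.l => decide (c i = -1), Nat.ofBits_lt_two_pow _, ?_⟩
    refine tor_congr hg fun j hj => ?_
    have h := hi _ _ hc2 j hj
    unfold sgn
    rw [Nat.testBit_ofBits_lt _ _ hj]
    by_cases hneg : c j = -1
    · simp [hneg]
    · rcases mul_self_eq_one_iff.1 (show (c j : F) * c j = 1 by simpa using congrArg Units.val h) with e | e
      · simp [Units.val_eq_one.1 e, (neg_one_ne h2).symm]
      · exact absurd (Units.ext (by rw [e, Units.val_neg, Units.val_one])) hneg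
  let w : T.D.group F := ⟨k, hk⟩ * z * ⟨k, hk⟩⁻¹
  have hw : InSq w := by
    have h := allBelow_eq_true.1 hC m hm
    simp only [Bool.and_eq_true, List.all_eq_true, nat_blt, allBelow_eq_true, beq_iff_eq] at h
    refine inSq_tor hg (z := w) (c := sgn F m) (hc.trans hcm) (C.getD m [])
      (fun r hr => ⟨(h.1 r hr).1, by rw [wt_sgn_eq, if_pos (h.1 r hr).2]⟩) (tor_congr hg fun j hj => ?_)
    rw [prod_cR, neg_one_zpow_eq, ← h.2 j hj]
    unfold sgn
    cases Nat.testBit m j <;> simp
  have := inSq_map (MulAut.conj (⟨k, hk⟩ : T.D.group F)⁻¹).toMonoidHom hw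
  rwa [show (MulAut.conj (⟨k, hk⟩ : T.D.group F)⁻¹).toMonoidHom w = z by simp [w, mul_assoc]] at this

end Cfsg.Agent.TwoCentralSq
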