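import Cfsg.Agent.Lib.TwoCentralSq.ChevMask
import Cfsg.Agent.Lib.ChevOdd.ChecksG2
import Cfsg.Agent.Lib.ChevOdd.ChecksF4
import Cfsg.Agent.Lib.ChevOdd.ChecksE8

/-!
The criterion for the Chevalley groups of types G2, F4 and E8 over fields of odd order.
-/

set_option autoImplicit false
set_option maxRecDepth 20000

namespace Cfsg.Agent.TwoCentralSq

open Cfsg.Lie Cfsg.Agent.Chev

/-- Decompositions for the masks of G2. -/
def masksG2 : List (List ℕ) := [
  [], [7], [6], [8]]

theorem checkMasksG2 : checkMasks G2Data.tab masksG2 = true := by decide +kernel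

/-- The criterion for G2. -/
theorem crit_chevG2 {F : Type*} [Field F] [Fintype F] (hodd : Odd (Fintype.card F)) :
    Crit ↥(chevG2.group F) :=
  crit_mask (M := G2Data.cert.M) ChevOdd.G2.goodK.toGoodA ChevOdd.G2.pairs (by decide +kernel)
    checkMasksG2 hodd

/-- Decompositions for the masks of F4. -/
def masksF4 : List (List ℕ) := [
  [], [33], [27], [34], [25], [25, 33], [25, 29], [25, 36],
  [24], [24, 33], [24, 27], [24, 34], [26], [26, 33], [26, 28], [26, 35]]

theorem checkMasksF4 : checkMasks F4Data.tab masksF4 = true := by decide +kernel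

/-- The criterion for F4. -/
theorem crit_chevF4 {F : Type*} [Field F] [Fintype F] (hodd : Odd (Fintype.card F)) :
    Crit ↥(chevF4.group F) :=
  crit_mask (M := F4Data.cert.M) ChevOdd.F4.goodK.toGoodA ChevOdd.F4.pairs (by decide +kernel)
    checkMasksF4 hodd

/-- Decompositions for the masks of E8. -/
def masksE8 : List (List ℕ) := [
  [], [162], [141], [141, 162], [135], [163], [135, 141], [141, 163],
  [130], [130, 162], [142], [142, 162], [136], [164], [130, 137, 143], [130, 143, 165],
  [126], [126, 162], [126, 141], [126, 141, 162], [126, 135], [126, 163], [126, 135, 141], [126, 141, 163],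
  [131], [131, 162], [143], [143, 162], [137], [165], [131, 136, 142], [131, 142, 164],
  [123], [123, 162], [123, 141], [123, 141, 162], [123, 135], [123, 163], [123, 135, 141], [123, 141, 163],
  [123, 130], [123, 130, 162], [123, 142], [123, 142, 162], [123, 136], [123, 164], [123, 130, 139, 145], [123, 130, 145, 167],
  [127], [127, 162], [127, 141], [127, 141, 162], [127, 135], [127, 163], [127, 135, 141], [127, 141, 163],
  [132], [132, 162], [144], [144, 162], [138], [166], [132, 136, 142], [132, 142, 164],
  [121], [121, 162], [121, 141], [121, 141, 162], [121, 135], [121, 163], [121, 135, 141], [121, 141, 163],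
  [121, 130], [121, 130, 162], [121, 142], [121, 142, 162], [121, 136], [121, 164], [121, 130, 137, 143], [121, 130, 143, 165],
  [121, 126], [121, 126, 162], [121, 126, 141], [121, 126, 141, 162], [121, 126, 135], [121, 126, 163], [121, 126, 135, 141], [121, 126, 141, 163],
  [121, 131], [121, 131, 162], [121, 143], [121, 143, 162], [121, 137], [121, 165], [121, 131, 136, 142], [121, 131, 142, 164],
  [124], [124, 162], [124, 141], [124, 141, 162], [124, 135], [124, 163], [124, 135, 141], [124, 141, 163],
  [124, 130], [124, 130, 162], [124, 142], [124, 142, 162], [124, 136], [124, 164], [124, 130, 138, 144], [124, 130, 144, 166],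
  [128], [128, 162], [128, 141], [128, 141, 162], [128, 135], [128, 163], [128, 135, 141], [128, 141, 163],
  [133], [133, 162], [145], [145, 162], [139], [167], [133, 136, 142], [133, 142, 164],
  [120], [120, 162], [120, 141], [120, 141, 162], [120, 135], [120, 163], [120, 135, 141], [120, 141, 163],
  [120, 130], [120, 130, 162], [120, 142], [120, 142, 162], [120, 136], [120, 164], [120, 130, 137, 143], [120, 130, 143, 165],
  [120, 126], [120, 126, 162], [120, 126, 141], [120, 126, 141, 162], [120, 126, 135], [120, 126, 163], [120, 126, 135, 141], [120, 126, 141, 163],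
  [120, 131], [120, 131, 162], [120, 143], [120, 143, 162], [120, 137], [120, 165], [120, 131, 136, 142], [120, 131, 142, 164],
  [120, 123], [120, 123, 162], [120, 123, 141], [120, 123, 141, 162], [120, 123, 135], [120, 123, 163], [120, 123, 135, 141], [120, 123, 141, 163],
  [120, 123, 130], [120, 123, 130, 162], [120, 123, 142], [120, 123, 142, 162], [120, 123, 136], [120, 123, 164], [120, 123, 147], [120, 123, 169],
  [120, 127], [120, 127, 162], [120, 127, 141], [120, 127, 141, 162], [120, 127, 135], [120, 127, 163], [120, 127, 135, 141], [120, 127, 141, 163],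
  [120, 132], [120, 132, 162], [120, 144], [120, 144, 162], [120, 138], [120, 166], [120, 132, 136, 142], [120, 132, 142, 164],
  [122], [122, 162], [122, 141], [122, 141, 162], [122, 135], [122, 163], [122, 135, 141], [122, 141, 163],
  [122, 130], [122, 130, 162], [122, 142], [122, 142, 162], [122, 136], [122, 164], [122, 130, 137, 143], [122, 130, 143, 165],
  [122, 126], [122, 126, 162], [122, 126, 141], [122, 126, 141, 162], [122, 126, 135], [122, 126, 163], [122, 126, 135, 141], [122, 126, 141, 163],
  [122, 131], [122, 131, 162], [122, 143], [122, 143, 162], [122, 137], [122, 165], [122, 131, 136, 142], [122, 131, 142, 164],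
  [125], [125, 162], [125, 141], [125, 141, 162], [125, 135], [125, 163], [125, 135, 141], [125, 141, 163],
  [125, 130], [125, 130, 162], [125, 142], [125, 142, 162], [125, 136], [125, 164], [125, 130, 138, 144], [125, 130, 144, 166],
  [129], [129, 162], [129, 141], [129, 141, 162], [129, 135], [129, 163], [129, 135, 141], [129, 141, 163],
  [134], [134, 162], [146], [146, 162], [140], [168], [134, 136, 142], [134, 142, 164]]

theorem checkMasksE8 : checkMasks E8Data.tab masksE8 = true := by decide +kernel

/-- The criterion for E8. -/
theorem crit_chevE8 {F : Type*} [Field F] [Fintype F] (hodd : Odd (Fintype.card F)) :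
    Crit ↥(chevE8.group F) :=
  crit_mask (M := E8Data.cert.M) ChevOdd.E8.goodK.toGoodA ChevOdd.E8.pairs (by decide +kernel)
    checkMasksE8 hodd

end Cfsg.Agent.TwoCentralSq
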