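import Cfsg.Agent.Lib.TwoCentralSq.Crit
import Cfsg.Prelude.Def_TwoFusion

/-!
The transfer argument: if `C(t) = ⟨t⟩ × F` with `t` central in a Sylow two-subgroup and `F` satisfying the criterion,
there is a subgroup of index two not containing `t`.
-/

set_option autoImplicit false

namespace Cfsg.Agent.TwoCentralSq

/-- Signs are 1 or -1. -/
theorem int_units_sq (u : ℤˣ) : u * u = 1 := Int.units_mul_self u

/-- The parity map of a subgroup of relative index two. -/
theorem exists_parity {G : Type*} [Group G] {S M : Subgroup G} (h : M.relIndex S = 2) :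
    ∃ φ : ↥S →* ℤˣ, ∀ x : ↥S, φ x = 1 ↔ (x : G) ∈ M := by
  classical
  have hi : (M.subgroupOf S).index = 2 := h
  refine ⟨MonoidHom.mk' (fun x => if x ∈ M.subgroupOf S then 1 else -1) (fun x y => ?_), fun x => ?_⟩
  · have := Subgroup.mul_mem_iff_of_index_two hi (a := x) (b := y)
    by_cases hx : x ∈ M.subgroupOf S <;> by_cases hy : y ∈ M.subgroupOf S <;> simp [hx, hy, this]
  · show (if x ∈ M.subgroupOf S then (1 : ℤˣ) else -1) = 1 ↔ _
    by_cases hx : x ∈ M.subgroupOf S
    · simpa [hx] using Subgroup.mem_subgroupOf.1 hx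
    · simpa [hx] using fun e => hx (Subgroup.mem_subgroupOf.2 e)

/-- **Transfer at a central involution**: when every conjugate of `t` under the normaliser of the Sylow subgroup
avoids a subgroup of index two of it, some subgroup of index two of the group avoids `t`. -/
theorem exists_index_two {G : Type*} [Group G] [Finite G] (S : Sylow 2 G) {t : G} (h2 : t * t = 1)
    (hc : ∀ s ∈ (S : Subgroup G), s * t = t * s) (M : Subgroup G)
    (hM : M.relIndex (S : Subgroup G) = 2)
    (h : ∀ g ∈ Subgroup.normalizer ((S : Subgroup G) : Set G), g⁻¹ * t * g ∉ M) :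
    ∃ H : Subgroup G, H.index = 2 ∧ t ∉ H := by
  classical
  obtain ⟨φ, hφ⟩ := exists_parity hM
  have key : MonoidHom.transfer φ t = -1 := by
    let Z := Subgroup.zpowers t
    let O := Quotient (MulAction.orbitRel ↥Z (G ⧸ (S : Subgroup G)))
    haveI : Fintype O := Fintype.ofFinite O
    rw [MonoidHom.transfer_eq_prod_quotient_orbitRel_zpowers_quot]
    -- the cosets fixed by `t`
    let Fx := {x : G ⧸ (S : Subgroup G) // t • x = x}
    haveI : Fintype Fx := Fintype.ofFinite Fx
    have conj_mem : ∀ x : G ⧸ (S : Subgroup G), t • x = x → x.out⁻¹ * t * x.out ∈ (S : Subgroup G) := by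
      intro x hx
      have h' : ((t * x.out : G) : G ⧸ (S : Subgroup G)) = ((x.out : G) : G ⧸ (S : Subgroup G)) := by
        rw [QuotientGroup.out_eq']
        conv_rhs => rw [← hx, ← QuotientGroup.out_eq' x]
        rfl
      have := (QuotientGroup.eq).1 h'.symm
      rwa [← mul_assoc] at this
    let val : Fx → ℤˣ := fun x => φ ⟨x.1.out⁻¹ * t * x.1.out, conj_mem x.1 x.2⟩
    have hper : ∀ x : G ⧸ (S : Subgroup G),
        Function.minimalPeriod (t • ·) x = if t • x = x then 1 else 2 := by
      intro x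
      split_ifs with hx
      · exact Function.minimalPeriod_eq_one_iff_isFixedPt.2 hx
      · refine Function.minimalPeriod_eq_prime (p := 2) ?_ hx
        show t • t • x = x
        rw [smul_smul, h2, one_smul]
    -- orbits of a fixed coset are the coset
    have hprod : (∏ q : O, φ ⟨q.out.out⁻¹ * t ^ Function.minimalPeriod (t • ·) q.out * q.out.out,
        QuotientGroup.out_conj_pow_minimalPeriod_mem _ t q.out⟩) = ∏ x : Fx, val x := by
      let e : Fx → O := fun x => Quotient.mk'' x.1
      have einj : Function.Injective e := by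
        intro a b hab
        obtain ⟨⟨z, i, rfl⟩, hz⟩ := Quotient.eq''.1 hab
        apply Subtype.ext
        have hfix : ∀ j : ℤ, t ^ j • b.1 = b.1 := fun j => by
          have hb : t ∈ MulAction.stabilizer G b.1 := b.2
          exact (MulAction.stabilizer G b.1).zpow_mem hb j
        exact hz.symm.trans (hfix i)
      have hout : ∀ x : Fx, (e x).out = x.1 := by
        intro x
        obtain ⟨⟨z, i, rfl⟩, hz⟩ := Quotient.mk_out (s := MulAction.orbitRel ↥Z (G ⧸ (S : Subgroup G))) x.1
        have hb : t ∈ MulAction.stabilizer G x.1 := x.2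
        exact hz.symm.trans ((MulAction.stabilizer G x.1).zpow_mem hb i)
      rw [← Finset.prod_subset (Finset.subset_univ (Finset.univ.map ⟨e, einj⟩))]
      · rw [Finset.prod_map]
        refine Finset.prod_congr rfl fun x _ => congrArg φ (Subtype.ext ?_)
        show (e x).out.out⁻¹ * t ^ Function.minimalPeriod (t • ·) (e x).out * (e x).out.out =
          x.1.out⁻¹ * t * x.1.out
        rw [hout, hper, if_pos x.2, pow_one]
      · intro q _ hq
        have hnf : ¬ t • q.out = q.out := fun hf => hq (Finset.mem_map.2 ⟨⟨q.out, hf⟩, Finset.mem_univ _,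
          Quotient.out_eq' q⟩)
        rw [← map_one φ]
        refine congrArg φ (Subtype.ext ?_)
        show q.out.out⁻¹ * t ^ Function.minimalPeriod (t • ·) q.out * q.out.out = 1
        rw [hper, if_neg hnf, pow_two, h2, mul_one, inv_mul_cancel]
    refine hprod.trans ?_
    -- the value is constant on the orbits of the Sylow subgroup
    letI : MulAction ↥(S : Subgroup G) Fx :=
      { smul := fun s x => ⟨(s : G) • x.1, by rw [smul_smul, ← hc s s.2, ← smul_smul, x.2]⟩
        one_smul := fun x => Subtype.ext (one_smul G x.1)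
        mul_smul := fun a b x => Subtype.ext (mul_smul (a : G) (b : G) x.1) }
    have hval : ∀ (s : ↥(S : Subgroup G)) (x : Fx), val (s • x) = val x := by
      intro s x
      have h' : (((s • x).1.out : G) : G ⧸ (S : Subgroup G)) = (((s : G) * x.1.out : G) : G ⧸ (S : Subgroup G)) := by
        rw [QuotientGroup.out_eq']
        show (s : G) • x.1 = _
        conv_lhs => rw [← QuotientGroup.out_eq' x.1]
        rfl
      obtain ⟨r, hr⟩ : ∃ r : ↥(S : Subgroup G), (s • x).1.out = (s : G) * x.1.out * r :=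
        ⟨⟨((s : G) * x.1.out)⁻¹ * (s • x).1.out, QuotientGroup.eq.1 h'.symm⟩, by rw [mul_inv_cancel_left]⟩
      show φ _ = φ _
      have e : (⟨(s • x).1.out⁻¹ * t * (s • x).1.out, conj_mem _ (s • x).2⟩ : ↥(S : Subgroup G)) =
          r⁻¹ * ⟨x.1.out⁻¹ * t * x.1.out, conj_mem _ x.2⟩ * r := by
        refine Subtype.ext ?_
        show (s • x).1.out⁻¹ * t * (s • x).1.out = (r : G)⁻¹ * (x.1.out⁻¹ * t * x.1.out) * r
        rw [hr]
        calc ((s : G) * x.1.out * r)⁻¹ * t * ((s : G) * x.1.out * r)
            = (r : G)⁻¹ * x.1.out⁻¹ * ((s : G)⁻¹ * (t * s)) * x.1.out * r := by group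
          _ = _ := by rw [← hc s s.2]; group
      rw [e, map_mul, map_mul, map_inv, mul_comm (φ r)⁻¹, mul_assoc, inv_mul_cancel, mul_one]
    let D := {x : Fx // val x = -1}
    have hv : (∏ x : Fx, val x) = (-1) ^ Nat.card D := by
      rw [← Finset.prod_filter_ne_one, Nat.card_eq_fintype_card, Fintype.card_subtype, ← Finset.prod_const]
      refine Finset.prod_congr (Finset.filter_congr fun x _ => ?_) fun x hx => (Finset.mem_filter.1 hx).2
      rcases Int.units_eq_one_or (val x) with e | e <;> simp [e]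
    rw [hv]
    letI : MulAction ↥(S : Subgroup G) D :=
      { smul := fun s x => ⟨s • x.1, (hval s x.1).trans x.2⟩
        one_smul := fun x => Subtype.ext (one_smul _ x.1)
        mul_smul := fun a b x => Subtype.ext (mul_smul a b x.1) }
    have hmod := S.isPGroup'.card_modEq_card_fixedPoints D
    have hmod' := S.isPGroup'.card_modEq_card_fixedPoints (G ⧸ (S : Subgroup G))
    have hfx : Nat.card (MulAction.fixedPoints ↥(S : Subgroup G) D) =
        Nat.card (MulAction.fixedPoints ↥(S : Subgroup G) (G ⧸ (S : Subgroup G))) := by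
      refine Nat.card_congr (Equiv.ofBijective (fun x => (⟨x.1.1.1, fun s =>
        congrArg (fun d : D => d.1.1) (x.2 s)⟩ : MulAction.fixedPoints ↥(S : Subgroup G) (G ⧸ (S : Subgroup G))))
        ⟨fun a b e => Subtype.ext (Subtype.ext (Subtype.ext (congrArg (fun y :
          MulAction.fixedPoints ↥(S : Subgroup G) (G ⧸ (S : Subgroup G)) => y.1) e))), fun y => ?_⟩)
      have hts : t ∈ (S : Subgroup G) := by
        have ht : IsPGroup 2 ↥(Subgroup.zpowers t ⊔ (S : Subgroup G)) := by
          refine IsPGroup.to_sup_of_normal_right' ?_ S.isPGroup' (Subgroup.zpowers_le.2 ?_)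
          · intro ⟨z, i, hz⟩
            refine ⟨1, Subtype.ext ?_⟩
            show z ^ 2 ^ 1 = 1
            rw [pow_one, ← hz, ← zpow_natCast, ← zpow_mul, mul_comm, zpow_mul, zpow_natCast, pow_two, h2, one_zpow]
          · refine Subgroup.mem_normalizer_iff.2 fun s => ⟨fun hs => ?_, fun hs => ?_⟩
            · rwa [← hc s hs, mul_inv_cancel_right]
            · have e : s = t * s * t⁻¹ := by
                have e' := hc _ hs
                calc s = t⁻¹ * (t * s * t⁻¹ * t) := by group
                  _ = _ := by rw [e']; group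
              rwa [e]
        rw [← S.3 ht le_sup_right]
        exact le_sup_left (α := Subgroup G) (Subgroup.mem_zpowers t)
      have hy : t • y.1 = y.1 := y.2 ⟨t, hts⟩
      have hn : y.1.out ∈ Subgroup.normalizer ((S : Subgroup G) : Set G) := by
        have hy2 : ((y.1.out : G) : G ⧸ (S : Subgroup G)) ∈
            MulAction.fixedPoints ↥(S : Subgroup G) (G ⧸ (S : Subgroup G)) := by
          rw [QuotientGroup.out_eq']; exact y.2
        exact Sylow.mem_fixedPoints_mul_left_cosets_iff_mem_normalizer.1 hy2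
      have hm : val ⟨y.1, hy⟩ = -1 := (Int.units_eq_one_or _).resolve_left fun e =>
        h _ hn ((hφ _).1 e)
      exact ⟨⟨⟨⟨y.1, hy⟩, hm⟩, fun s => Subtype.ext (Subtype.ext (y.2 s))⟩, rfl⟩
    have hodd : ¬ 2 ∣ Nat.card D := by
      intro h'
      rw [hfx] at hmod
      have := (hmod.trans hmod'.symm)
      rw [Nat.ModEq] at this
      refine S.not_dvd_index ?_
      rw [Subgroup.index]
      exact Nat.dvd_of_mod_eq_zero (this ▸ Nat.mod_eq_zero_of_dvd h' ▸ rfl)
    exact Odd.neg_one_pow (Nat.not_even_iff_odd.1 fun e => hodd (even_iff_two_dvd.1 e))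
  refine ⟨(MonoidHom.transfer φ).ker, ?_, fun ht => ?_⟩
  · refine Subgroup.index_ker _ |>.trans ?_
    have hr : (MonoidHom.transfer φ).range = ⊤ := eq_top_iff.2 fun u _ => by
      rcases Int.units_eq_one_or u with rfl | rfl
      · exact one_mem _
      · exact ⟨t, key⟩
    rw [hr, Subgroup.card_top, Nat.card_eq_fintype_card]
    rfl
  · rw [MonoidHom.mem_ker, key] at ht
    exact absurd ht (by decide)

/-- A product of squares in the centraliser lies in every subgroup of index two of a Sylow subgroup containing it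
centrally. -/
theorem inSq_mem {G : Type*} [Group G] [Finite G] (S : Sylow 2 G) {z : G} (hz : InSq z)
    (hS : z ∈ (S : Subgroup G)) (hc : ∀ s ∈ (S : Subgroup G), s * z = z * s) (K : Subgroup G)
    (hK : K.relIndex (S : Subgroup G) = 2) : z ∈ K := by
  classical
  obtain ⟨φ, hφ⟩ := exists_parity hK
  let C := Subgroup.centralizer ({z} : Set G)
  have hle : (S : Subgroup G) ≤ C := fun s hs => Subgroup.mem_centralizer_singleton_iff.2 (hc s hs)
  let SC := (S : Subgroup G).subgroupOf C
  let ψ : ↥SC →* ℤˣ := φ.comp (Subgroup.subgroupOfEquivOfLe hle).toMonoidHom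
  let zC : ↥C := ⟨z, hle hS⟩
  have hV : ∀ x : G, x ∈ Subgroup.closure {y : G | ∃ h : G, h * z = z * h ∧ h * h = y} →
      ∃ hx : x ∈ C, MonoidHom.transfer ψ ⟨x, hx⟩ = 1 := by
    intro x hx
    induction hx using Subgroup.closure_induction with
    | mem y hy =>
      obtain ⟨a, ha, rfl⟩ := hy
      have haC : a ∈ C := Subgroup.mem_centralizer_singleton_iff.2 ha
      refine ⟨mul_mem haC haC, ?_⟩
      rw [show (⟨a * a, mul_mem haC haC⟩ : ↥C) = ⟨a, haC⟩ * ⟨a, haC⟩ from rfl, map_mul, Int.units_mul_self]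
    | one => exact ⟨one_mem C, map_one _⟩
    | mul a b _ _ ha hb =>
      obtain ⟨h1, e1⟩ := ha
      obtain ⟨h2, e2⟩ := hb
      exact ⟨mul_mem h1 h2, by
        rw [show (⟨a * b, mul_mem h1 h2⟩ : ↥C) = ⟨a, h1⟩ * ⟨b, h2⟩ from rfl, map_mul, e1, e2, one_mul]⟩
    | inv a _ ha =>
      obtain ⟨h1, e1⟩ := ha
      exact ⟨inv_mem h1, by rw [show (⟨a⁻¹, inv_mem h1⟩ : ↥C) = ⟨a, h1⟩⁻¹ from rfl, map_inv, e1, inv_one]⟩
  obtain ⟨hzC, h1⟩ := hV z hz
  have hcen : ∀ (k : ℕ) (g₀ : ↥C), g₀⁻¹ * zC ^ k * g₀ ∈ SC → g₀⁻¹ * zC ^ k * g₀ = zC ^ k := fun k g₀ _ => by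
    have hg : Commute (g₀ : G) z := Subgroup.mem_centralizer_singleton_iff.1 g₀.2
    refine Subtype.ext ?_
    show (g₀ : G)⁻¹ * z ^ k * g₀ = z ^ k
    rw [mul_assoc, ← (hg.pow_right k).eq, inv_mul_cancel_left]
  have hmem : zC ^ SC.index ∈ SC := pow_mem (Subgroup.mem_subgroupOf.2 hS) _
  have hodd : Odd SC.index := by
    rw [← Nat.not_even_iff_odd, even_iff_two_dvd]
    intro h
    exact S.not_dvd_index (h.trans (Subgroup.relIndex_dvd_index_of_le hle))
  have e2 : MonoidHom.transfer ψ zC = ψ ⟨zC, Subgroup.mem_subgroupOf.2 hS⟩ ^ SC.index := by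
    rw [MonoidHom.transfer_eq_pow ψ zC hcen, ← map_pow]
    rfl
  rw [show (⟨z, hzC⟩ : ↥C) = zC from rfl, e2] at h1
  have : ψ ⟨zC, Subgroup.mem_subgroupOf.2 hS⟩ = 1 := by
    rcases Int.units_eq_one_or (ψ ⟨zC, Subgroup.mem_subgroupOf.2 hS⟩) with e | e
    · exact e
    · rw [e, hodd.neg_one_pow] at h1
      exact absurd h1 (by decide)
  exact (hφ _).1 this

variable {G : Type*} [Group G] [Finite G] {t : G} {S : Sylow 2 G} {F : Subgroup G}

/-- The data of the statement. -/
structure Setting (t : G) (S : Sylow 2 G) (F : Subgroup G) : Prop where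
  ht : orderOf t = 2
  hc : ∀ s ∈ (S : Subgroup G), s * t = t * s
  hF : Cfsg.IsInternalDirectProduct (Subgroup.zpowers t) F (Subgroup.centralizer ({t} : Set G))

namespace Setting

variable (D : Setting t S F)
include D

theorem t_sq : t * t = 1 := by rw [← pow_two, ← D.ht, pow_orderOf_eq_one]

theorem t_not : t ∉ F := fun h => by
  have h' : t ∈ Subgroup.zpowers t ⊓ F := Subgroup.mem_inf.2 ⟨Subgroup.mem_zpowers t, h⟩
  rw [D.hF.2.2.2.1, Subgroup.mem_bot] at h'
  have := D.ht
  rw [h', orderOf_one] at this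
  omega

theorem S_le : (S : Subgroup G) ≤ Subgroup.centralizer ({t} : Set G) := fun s hs =>
  Subgroup.mem_centralizer_singleton_iff.2 (D.hc s hs)

theorem decomp {x : G} (hx : x ∈ Subgroup.centralizer ({t} : Set G)) : x ∈ F ∨ t * x ∈ F := by
  rw [← D.hF.2.2.2.2] at hx
  have htf : ∀ f ∈ F, t * f = f * t := fun f hf => D.hF.2.2.1 t (Subgroup.mem_zpowers t) f hf
  let U : Subgroup G :=
    { carrier := {y | y ∈ F ∨ t * y ∈ F}
      one_mem' := Or.inl F.one_mem
      mul_mem' := by
        rintro y y' (hy | hy) (hy' | hy')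
        · exact Or.inl (F.mul_mem hy hy')
        · refine Or.inr ?_
          rw [← mul_assoc, htf y hy, mul_assoc]
          exact F.mul_mem hy hy'
        · refine Or.inr ?_
          rw [← mul_assoc]
          exact F.mul_mem hy hy'
        · refine Or.inl ?_
          have e : y * y' = (t * y) * (t * y') := by
            have e1 : y * t = t * y := by
              calc y * t = t * (t * y * t) := by rw [← mul_assoc, ← mul_assoc, D.t_sq, one_mul]
                _ = t * (t * (t * y)) := by rw [← htf _ hy]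
                _ = _ := by rw [← mul_assoc t t, D.t_sq, one_mul]
            calc y * y' = t * t * (y * y') := by rw [D.t_sq, one_mul]
              _ = t * (t * y) * y' := by group
              _ = t * (y * t) * y' := by rw [e1]
              _ = _ := by group
          rw [e]
          exact F.mul_mem hy hy'
      inv_mem' := by
        rintro y (hy | hy)
        · exact Or.inl (F.inv_mem hy)
        · refine Or.inr ?_
          have e : t * y⁻¹ = (t * y)⁻¹ := by
            have h1 := htf _ (F.inv_mem hy)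
            have ti : t⁻¹ = t := inv_eq_of_mul_eq_one_right D.t_sq
            rw [mul_inv_rev, ti] at h1 ⊢
            calc t * y⁻¹ = t * (y⁻¹ * t) * t := by rw [mul_assoc, mul_assoc, D.t_sq, mul_one]
              _ = y⁻¹ * t * t * t := by rw [h1]
              _ = _ := by rw [mul_assoc _ t t, D.t_sq, mul_one]
          rw [e]
          exact F.inv_mem hy }
  have hU : Subgroup.zpowers t ⊔ F ≤ U := sup_le (Subgroup.zpowers_le.2 (Or.inr (by rw [D.t_sq]; exact F.one_mem)))
    fun f hf => Or.inl hf
  exact hU hx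

/-- The Sylow subgroup meets `F` in a subgroup of index two. -/
theorem relIndex : ((S : Subgroup G) ⊓ F).relIndex (S : Subgroup G) = 2 := by
  have ht : t ∈ (S : Subgroup G) := by
    by_contra hn
    have hZ : IsPGroup 2 ↥(Subgroup.zpowers t) :=
      IsPGroup.of_card (n := 1) (by rw [Nat.card_zpowers, D.ht, pow_one])
    have hle : (S : Subgroup G) ≤ Subgroup.normalizer (Subgroup.zpowers t : Set G) := fun s hs =>
      Subgroup.mem_normalizer_iff.2 fun z => by
        constructor
        · rintro ⟨i, rfl⟩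
          refine ⟨i, ?_⟩
          show t ^ i = s * t ^ i * s⁻¹
          rw [(Commute.zpow_right (D.hc s hs) i).eq, mul_inv_cancel_right]
        · rintro ⟨i, e⟩
          have e' : z = t ^ i := by
            calc z = s⁻¹ * (s * z * s⁻¹) * s := by group
              _ = s⁻¹ * t ^ i * s := by rw [← e]
              _ = _ := by rw [mul_assoc, ← (Commute.zpow_right (D.hc s hs) i).eq, inv_mul_cancel_left]
          exact ⟨i, e'.symm⟩
    exact hn (S.3 (hZ.to_sup_of_normal_left' S.isPGroup' hle) le_sup_right ▸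
      le_sup_left (α := Subgroup G) (Subgroup.mem_zpowers t))
  refine Subgroup.relIndex_eq_two_iff.2 ⟨t, ht, fun s hs => ?_⟩
  have hts := (S : Subgroup G).mul_mem hs ht
  have hsF := D.decomp (D.S_le hs)
  rcases hsF with h | h
  · refine Or.inr ⟨⟨hs, h⟩, fun h' => D.t_not ?_⟩
    simpa using F.mul_mem (F.inv_mem h) h'.2
  · refine Or.inl ⟨⟨hts, ?_⟩, fun h' => D.t_not ?_⟩
    · rw [D.hc s hs]; exact h
    · have := F.mul_mem h (F.inv_mem h'.2)
      rwa [mul_inv_cancel_right] at this

/-- **The generic case**: under the criterion there is a subgroup of index two avoiding `t`. -/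
theorem of_crit (hF : Crit ↥F) : ∃ H : Subgroup G, H.index = 2 ∧ t ∉ H := by
  obtain ⟨R, hR, hRz⟩ := hF
  refine exists_index_two S D.t_sq D.hc ((S : Subgroup G) ⊓ F) D.relIndex fun g hg hu => ?_
  have hu2 : g⁻¹ * t * g * (g⁻¹ * t * g) = 1 := by
    rw [show g⁻¹ * t * g * (g⁻¹ * t * g) = g⁻¹ * (t * t) * g by group, D.t_sq]; group
  have hcen : ∀ s ∈ (S : Subgroup G), s * (g⁻¹ * t * g) = g⁻¹ * t * g * s := fun s hs => by
    have hs' : g * s * g⁻¹ ∈ (S : Subgroup G) := (Subgroup.mem_normalizer_iff.1 hg s).1 hs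
    calc s * (g⁻¹ * t * g) = g⁻¹ * (g * s * g⁻¹ * t) * g := by group
      _ = _ := by rw [D.hc _ hs']; group
  -- the Sylow subgroup of `F`
  let P : Subgroup ↥F := (S : Subgroup G).subgroupOf F
  have hP : IsPGroup 2 ↥P := S.isPGroup'.comap_subtype
  have hPi : ¬ 2 ∣ P.index := by
    intro h
    have e : P.index = ((S : Subgroup G) ⊓ F).relIndex F := by
      rw [Subgroup.inf_relIndex_right]
      rfl
    rw [e] at h
    have hle : (S : Subgroup G) ≤ Subgroup.centralizer ({t} : Set G) := D.S_le
    have hFle : F ≤ Subgroup.centralizer ({t} : Set G) := D.hF.2.1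
    have h1 := Subgroup.relIndex_mul_relIndex ((S : Subgroup G) ⊓ F) (S : Subgroup G)
      (Subgroup.centralizer ({t} : Set G)) inf_le_left hle
    have h2 := Subgroup.relIndex_mul_relIndex ((S : Subgroup G) ⊓ F) F
      (Subgroup.centralizer ({t} : Set G)) inf_le_right hFle
    have h3 : F.relIndex (Subgroup.centralizer ({t} : Set G)) = 2 := by
      refine Subgroup.relIndex_eq_two_iff.2 ⟨t, Subgroup.mem_centralizer_singleton_iff.2 rfl, fun c hc => ?_⟩
      rcases D.decomp hc with hd | hd
      · exact Or.inr ⟨hd, fun h' => D.t_not (by simpa using F.mul_mem (F.inv_mem hd) h')⟩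
      · refine Or.inl ⟨?_, fun h' => D.t_not ?_⟩
        · rwa [Subgroup.mem_centralizer_singleton_iff.1 hc]
        · have := F.mul_mem hd (F.inv_mem h')
          rwa [mul_inv_cancel_right] at this
    rw [D.relIndex, ← h2, h3, mul_comm] at h1
    have h4 : (S : Subgroup G).relIndex (Subgroup.centralizer ({t} : Set G)) =
        ((S : Subgroup G) ⊓ F).relIndex F := Nat.eq_of_mul_eq_mul_right (by norm_num) h1
    exact S.not_dvd_index (h.trans (h4 ▸ Subgroup.relIndex_dvd_index_of_le hle))
  let P' : Sylow 2 ↥F := hP.toSylow hPi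
  let z : ↥F := ⟨g⁻¹ * t * g, hu.2⟩
  have hzc : ∀ s ∈ (P' : Subgroup ↥F), s * z = z * s := fun s hs => Subtype.ext (hcen _ hs)
  have hzP : z ∈ (P' : Subgroup ↥F) := hu.1
  -- `z` is a product of squares in its centraliser
  have hzS : InSq z := by
    obtain ⟨T, hT⟩ := hR.exists_le_sylow
    obtain ⟨k, hk⟩ := MulAction.exists_smul_eq ↥F T P'
    have h' := hRz (k⁻¹ * z * k) (by
      have hz2 : z * z = 1 := Subtype.ext hu2
      rw [show k⁻¹ * z * k * (k⁻¹ * z * k) = k⁻¹ * (z * z) * k by group, hz2]; group) fun r hr => by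
      have hs : k * r * k⁻¹ ∈ ((k • T : Sylow 2 ↥F) : Subgroup ↥F) := by
        rw [Sylow.coe_subgroup_smul]
        exact Subgroup.smul_mem_pointwise_smul _ (MulAut.conj k) (T : Subgroup ↥F) (hT hr)
      rw [hk] at hs
      calc r * (k⁻¹ * z * k) = k⁻¹ * (k * r * k⁻¹ * z) * k := by group
        _ = _ := by rw [hzc _ hs]; group
    have := inSq_map (MulAut.conj k).toMonoidHom h'
    rwa [show (MulAut.conj k).toMonoidHom (k⁻¹ * z * k) = z by simp [mul_assoc]] at this
  -- the second subgroup of index two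
  have hK : ∃ K : Subgroup ↥F, K.relIndex (P' : Subgroup ↥F) = 2 ∧ z ∉ K := by
    refine ⟨((S : Subgroup G) ⊓ F.map (MulAut.conj g⁻¹).toMonoidHom).subgroupOf F, ?_, ?_⟩
    · have hKt : ∀ x : G, x ∈ F.map (MulAut.conj g⁻¹).toMonoidHom ↔ g * x * g⁻¹ ∈ F := fun x =>
        ⟨fun ⟨f, hf, e⟩ => by rw [← e]; simpa [mul_assoc] using hf, fun hx => ⟨_, hx, by simp [mul_assoc]⟩⟩
      refine Subgroup.relIndex_eq_two_iff.2 ⟨z, hzP, fun s hs => ?_⟩
      have hs' : g * s * g⁻¹ ∈ (S : Subgroup G) := (Subgroup.mem_normalizer_iff.1 hg _).1 hs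
      have e : g * (s * z : ↥F) * g⁻¹ = g * s * g⁻¹ * t := by
        show g * ((s : G) * (g⁻¹ * t * g)) * g⁻¹ = _
        group
      rcases D.decomp (D.S_le hs') with h | h
      · refine Or.inr ⟨Subgroup.mem_subgroupOf.2 ⟨hs, (hKt _).2 h⟩, fun h' => ?_⟩
        have := (hKt _).1 (Subgroup.mem_subgroupOf.1 h').2
        rw [e] at this
        have h'' := F.mul_mem (F.inv_mem h) this
        rw [inv_mul_cancel_left] at h''
        exact D.t_not h''
      · refine Or.inl ⟨Subgroup.mem_subgroupOf.2 ⟨(S : Subgroup G).mul_mem hs hu.1, (hKt _).2 ?_⟩, fun h' => ?_⟩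
        · rw [e, D.hc _ hs']; exact h
        · have := F.mul_mem h (F.inv_mem ((hKt _).1 (Subgroup.mem_subgroupOf.1 h').2))
          rw [mul_inv_cancel_right] at this
          exact D.t_not this
    · intro h'
      obtain ⟨f, hf, e⟩ := (Subgroup.mem_subgroupOf.1 h').2
      refine D.t_not ?_
      have e' : g⁻¹ * f * g = g⁻¹ * t * g := by simpa [z] using e
      exact (mul_left_cancel (mul_right_cancel e')) ▸ hf
  obtain ⟨K, hK2, hzK⟩ := hK
  exact hzK (inSq_mem P' hzS hzP hzc K hK2)

end Setting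

end Cfsg.Agent.TwoCentralSq
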