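import Mathlib

/-!
The criterion used for `S3226`: involutions centralising some two-subgroup are products of squares in their own
centralisers.
-/

set_option autoImplicit false

namespace Cfsg.Agent.TwoCentralSq

variable {F : Type*} [Group F]

/-- A product of squares of elements commuting with it. -/
def InSq (z : F) : Prop := z ∈ Subgroup.closure {y : F | ∃ h : F, h * z = z * h ∧ h * h = y}

/-- Some two-subgroup centralises no involution other than such products. -/
def Crit (F : Type*) [Group F] : Prop :=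
  ∃ R : Subgroup F, IsPGroup 2 R ∧ ∀ z : F, z * z = 1 → (∀ r ∈ R, r * z = z * r) → InSq z

theorem inSq_of_sq {z a : F} (h : a * a = z) : InSq z :=
  Subgroup.subset_closure ⟨a, by rw [← h, mul_assoc], h⟩

theorem inSq_one : InSq (1 : F) := inSq_of_sq (one_mul 1)

theorem inSq_of_comm {z a b : F} (ha : a * z = z * a) (hb : b * z = z * b) (h : a * b * a⁻¹ * b⁻¹ = z) :
    InSq z := by
  let S := {y : F | ∃ c : F, c * z = z * c ∧ c * c = y}
  have m : ∀ c : F, c * z = z * c → c * c ∈ Subgroup.closure S := fun c hc => Subgroup.subset_closure ⟨c, hc, rfl⟩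
  have ca : Commute a z := ha
  have cb : Commute b z := hb
  have e : a * b * a⁻¹ * b⁻¹ = a * a * (a⁻¹ * b * (a⁻¹ * b)) * (b⁻¹ * b⁻¹) := by group
  rw [InSq]
  show z ∈ Subgroup.closure S
  rw [← h, e]
  exact mul_mem (mul_mem (m a ha) (m _ (ca.inv_left.mul_left cb).eq)) (m _ cb.inv_left.eq)

theorem inSq_map {E : Type*} [Group E] (f : F →* E) {z : F} (h : InSq z) : InSq (f z) := by
  have : f z ∈ (Subgroup.closure {y : F | ∃ h : F, h * z = z * h ∧ h * h = y}).map f :=
    Subgroup.mem_map_of_mem f h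
  rw [MonoidHom.map_closure] at this
  refine Subgroup.closure_mono ?_ this
  rintro _ ⟨y, ⟨a, ha, rfl⟩, rfl⟩
  exact ⟨f a, by rw [← map_mul, ha, map_mul], (map_mul f a a).symm⟩

theorem crit_congr {E : Type*} [Group E] (e : F ≃* E) (h : Crit F) : Crit E := by
  obtain ⟨R, hR, hz⟩ := h
  refine ⟨R.map e.toMonoidHom, hR.map e.toMonoidHom, fun z h2 hc => ?_⟩
  obtain ⟨z, rfl⟩ := e.surjective z
  refine inSq_map e.toMonoidHom (hz z (e.injective (by rw [map_mul, map_one]; exact h2)) fun r hr => e.injective ?_)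
  rw [map_mul, map_mul]
  exact hc (e r) (Subgroup.mem_map_of_mem e.toMonoidHom hr)

/-- The criterion in a quotient: the two-group and the elements are lifted. -/
theorem crit_quot {H : Type*} [Group H] (N : Subgroup H) [N.Normal] (R : Subgroup H) (hR : IsPGroup 2 R)
    (h : ∀ x : H, x * x ∈ N → (∀ r ∈ R, x * r * x⁻¹ * r⁻¹ ∈ N) → InSq (QuotientGroup.mk x : H ⧸ N)) :
    Crit (H ⧸ N) := by
  refine ⟨R.map (QuotientGroup.mk' N), hR.map _, fun z h2 hc => ?_⟩
  obtain ⟨x, rfl⟩ := QuotientGroup.mk'_surjective N z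
  refine h x ((QuotientGroup.eq_one_iff _).1 (by rw [QuotientGroup.mk_mul]; exact h2)) fun r hr => ?_
  have e := hc _ (Subgroup.mem_map_of_mem (QuotientGroup.mk' N) hr)
  rw [← QuotientGroup.eq_one_iff]
  simp only [QuotientGroup.mk'_apply] at e
  rw [QuotientGroup.mk_mul, QuotientGroup.mk_mul, QuotientGroup.mk_mul, QuotientGroup.mk_inv, QuotientGroup.mk_inv,
    ← e, mul_inv_cancel_right, mul_inv_cancel]

end Cfsg.Agent.TwoCentralSq
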