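import Cfsg.Agent.Lib.TwoCentralSq.MonoGroup

/-!
Degree four.
-/

set_option autoImplicit false
set_option linter.unusedSectionVars false

namespace Cfsg.Agent.TwoCentralSq

open Matrix

variable {F : Type*} [Field F] {H : Type*} [Group H]

/-- The double transposition. -/
def nuFour : Equiv.Perm (Fin 4) where
  toFun := ![1, 0, 3, 2]
  invFun := ![1, 0, 3, 2]
  left_inv := by decide
  right_inv := by decide

/-- A four-cycle squaring to it. -/
def cycFour : Equiv.Perm (Fin 4) where
  toFun := ![2, 3, 1, 0]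
  invFun := ![3, 2, 0, 1]
  left_inv := by decide
  right_inv := by decide

theorem nuFour_inv : ∀ i, nuFour (nuFour i) = i := by decide

theorem cycFour_sq : cycFour * cycFour = nuFour := by decide

theorem sign_nuFour : Equiv.Perm.sign nuFour = 1 := by decide

theorem sign_cycFour : Equiv.Perm.sign cycFour = -1 := by decide

/-- Degree four. -/
theorem MonoGroup.crit_four {f : H →* Matrix (Fin 4) (Fin 4) F} (M : MonoGroup f) (h2 : (2 : F) ≠ 0) :
    Crit (H ⧸ Subgroup.center H) := by
  refine crit_quot _ (pairGroup f M.inj nuFour nuFour_inv) (pairGroup_isPGroup _ _ _ _) fun x hx2 hc => ?_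
  set A := f x with hA
  obtain ⟨ra, hra⟩ := M.mem_rot (a := 0) (b := 1) (by decide)
  obtain ⟨rb, hrb⟩ := M.mem_rot (a := 2) (b := 3) (by decide)
  obtain ⟨re, hre⟩ := M.mem_signs (a := 0) (b := 2) (by decide)
  have hz : ∀ a : F, -a = a → a = 0 := fun a h =>
    (mul_eq_zero.1 (show (2 : F) * a = 0 by linear_combination -h)).resolve_left h2
  obtain ⟨w, hw⟩ := twisted M.center (hc ra ⟨_, _, (show InPairs nuFour (Equiv.swap 0 1) by
    constructor <;> decide), isSgn_neg _, hra⟩)
  rw [hra] at hw
  have ent : ∀ i j, A (Equiv.swap 0 1 i) (Equiv.swap 0 1 j) * (neg {0} : Fin 4 → F) j =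
      w * ((neg {0} : Fin 4 → F) i * A i j) := fun i j => by
    have := congrFun (congrFun hw (Equiv.swap 0 1 i)) j
    rwa [mul_mono, Matrix.smul_apply, smul_eq_mul, mono_mul_apply] at this
  have e22 : ∀ i j : Fin 4, i = 2 ∨ i = 3 → j = 2 ∨ j = 3 → A i j = w * A i j := fun i j hi hj => by
    have := ent i j
    rcases hi with rfl | rfl <;> rcases hj with rfl | rfl <;>
      simpa [neg, Equiv.swap_apply_of_ne_of_ne] using this
  have e0 : ∀ j : Fin 4, j = 2 ∨ j = 3 → A 1 j = -(w * A 0 j) ∧ A 0 j = w * A 1 j := fun j hj => by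
    have h0 := ent 0 j
    have h1 := ent 1 j
    rcases hj with rfl | rfl <;> simp [neg, Equiv.swap_apply_of_ne_of_ne] at h0 h1 <;> exact ⟨h0, h1⟩
  have hw1 : w = 1 := by
    by_contra hne
    have hz' : ∀ i j : Fin 4, i = 2 ∨ i = 3 → j = 2 ∨ j = 3 → A i j = 0 := fun i j hi hj => by
      by_contra h0
      exact hne ((mul_eq_right₀ h0).1 (e22 i j hi hj).symm)
    let v : Fin 4 → F := fun k => if k = 2 then A 0 3 else if k = 3 then -A 0 2 else 0
    have h0 : A *ᵥ v = 0 := funext fun i => by
      simp only [Matrix.mulVec, dotProduct, Fin.sum_univ_four, v, Pi.zero_apply]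
      fin_cases i
      · simp; ring
      · simp only [Fin.reduceFinMk, (e0 2 (Or.inl rfl)).1, (e0 3 (Or.inr rfl)).1, Fin.reduceEq, if_false, if_true]
        ring
      · simp [hz' 2 2 (Or.inl rfl) (Or.inl rfl), hz' 2 3 (Or.inl rfl) (Or.inr rfl)]
      · simp [hz' 3 2 (Or.inr rfl) (Or.inl rfl), hz' 3 3 (Or.inr rfl) (Or.inr rfl)]
    have hv : v = 0 := by
      rw [← Matrix.one_mulVec v, ← f_inv_mul f x, ← Matrix.mulVec_mulVec, h0, Matrix.mulVec_zero]
    have h03 : A 0 3 = 0 := by simpa [v] using congrFun hv 2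
    obtain ⟨i, hi⟩ := exists_entry (f_inv_mul f x) 3
    apply hi
    fin_cases i
    · exact h03
    · show A 1 3 = 0
      rw [(e0 3 (Or.inr rfl)).1, h03, mul_zero, neg_zero]
    · exact hz' 2 3 (Or.inl rfl) (Or.inr rfl)
    · exact hz' 3 3 (Or.inr rfl) (Or.inr rfl)
  simp only [hw1, one_mul] at e0 ent
  have o1 : ∀ j : Fin 4, j = 2 ∨ j = 3 → A 0 j = 0 ∧ A 1 j = 0 := fun j hj => by
    obtain ⟨a, b⟩ := e0 j hj
    have : A 0 j = 0 := hz _ (by linear_combination -a - b)
    exact ⟨this, by rw [← b, this]⟩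
  have o2 : ∀ i : Fin 4, i = 2 ∨ i = 3 → A i 0 = 0 ∧ A i 1 = 0 := fun i hi => by
    have h0 := ent i 0
    have h1 := ent i 1
    rcases hi with rfl | rfl <;> simp [neg, Equiv.swap_apply_of_ne_of_ne] at h0 h1 <;>
      exact ⟨hz _ (by linear_combination h0 - h1), hz _ (by linear_combination h0 + h1)⟩
  have b11 : A 1 1 = A 0 0 := by
    have := ent 0 0; simp [neg] at this; linear_combination this
  have b01 : A 0 1 = -A 1 0 := by
    have := ent 0 1; simp [neg] at this; linear_combination this
  obtain ⟨w', hw'⟩ := twisted M.center (hc rb ⟨_, _, (show InPairs nuFour (Equiv.swap 2 3) by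
    constructor <;> decide), isSgn_neg _, hrb⟩)
  rw [hrb] at hw'
  have ent' : ∀ i j, A (Equiv.swap 2 3 i) (Equiv.swap 2 3 j) * (neg {2} : Fin 4 → F) j =
      w' * ((neg {2} : Fin 4 → F) i * A i j) := fun i j => by
    have := congrFun (congrFun hw' (Equiv.swap 2 3 i)) j
    rwa [mul_mono, Matrix.smul_apply, smul_eq_mul, mono_mul_apply] at this
  have hne0 : A 0 0 ≠ 0 ∨ A 1 0 ≠ 0 := by
    obtain ⟨i, hi⟩ := exists_entry (f_inv_mul f x) 0
    fin_cases i
    · exact Or.inl hi
    · exact Or.inr hi
    · exact absurd (o2 2 (Or.inl rfl)).1 hi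
    · exact absurd (o2 3 (Or.inr rfl)).1 hi
  have hw'1 : w' = 1 := by
    have h00 := ent' 0 0
    have h10 := ent' 1 0
    simp [neg, Equiv.swap_apply_of_ne_of_ne] at h00 h10
    rcases hne0 with h | h
    · exact (mul_eq_right₀ h).1 h00.symm
    · exact (mul_eq_right₀ h).1 h10.symm
  simp only [hw'1, one_mul] at ent'
  have b33 : A 3 3 = A 2 2 := by
    have := ent' 2 2; simp [neg] at this; linear_combination this
  have b23 : A 2 3 = -A 3 2 := by
    have := ent' 2 3; simp [neg] at this; linear_combination this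
  obtain ⟨w'', hw''⟩ := twisted M.center (hc re ⟨1, _, ⟨fun _ => Or.inl rfl, fun _ => rfl⟩, isSgn_neg _, hre⟩)
  rw [hre] at hw''
  have d00 : A 0 0 = w'' * A 0 0 := by
    have := twisted_diag hw'' 0 0; simp [neg] at this; linear_combination this
  have d10 : -A 1 0 = w'' * A 1 0 := by
    have := twisted_diag hw'' 1 0; simp [neg] at this; linear_combination this
  have d22 : A 2 2 = w'' * A 2 2 := by
    have := twisted_diag hw'' 2 2; simp [neg] at this; linear_combination this
  have d32 : -A 3 2 = w'' * A 3 2 := by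
    have := twisted_diag hw'' 3 2; simp [neg] at this; linear_combination this
  obtain ⟨lam, hlam⟩ := M.center _ hx2
  rcases hne0 with h | h
  · -- diagonal, constant on the pairs
    have hw'' : w'' = 1 := (mul_eq_right₀ h).1 d00.symm
    rw [hw'', one_mul] at d10 d32
    have z10 := hz _ d10
    have z32 := hz _ d32
    have hfx : A = mono 1 ![A 0 0, A 0 0, A 2 2, A 2 2] := by
      rw [mono_diag]
      ext i j
      fin_cases i <;> fin_cases j <;>
        simp [b11, b33, b01, b23, z10, z32, (o1 2 (Or.inl rfl)).1, (o1 2 (Or.inl rfl)).2, (o1 3 (Or.inr rfl)).1,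
          (o1 3 (Or.inr rfl)).2, (o2 2 (Or.inl rfl)).1, (o2 2 (Or.inl rfl)).2, (o2 3 (Or.inr rfl)).1,
          (o2 3 (Or.inr rfl)).2]
    rw [map_mul, ← hA, hfx, mono_mul] at hlam
    have hs0 : A 0 0 * A 0 0 = lam := by simpa [mono_apply] using congrFun (congrFun hlam 0) 0
    have hs2 : A 2 2 * A 2 2 = lam := by simpa [mono_apply] using congrFun (congrFun hlam 2) 2
    rcases mul_self_eq_mul_self_iff.1 (hs2.trans hs0.symm) with e | e
    · have hs : x ∈ Subgroup.center H := scalar_center M.inj (c := A 0 0) (by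
        rw [← hA, hfx, e, mono_diag]
        ext i j
        fin_cases i <;> fin_cases j <;> simp)
      rw [(QuotientGroup.eq_one_iff x).2 hs]
      exact inSq_one
    · have hrr : f (rb * rb) = mono 1 (neg {2, 3}) := by
        rw [map_mul, hrb, mono_mul, Equiv.swap_mul_self]
        congr 1
        funext j
        fin_cases j <;> simp [neg, Equiv.swap_apply_of_ne_of_ne]
      have hxr : x * (rb * rb)⁻¹ ∈ Subgroup.center H := scalar_center M.inj (c := A 0 0) (by
        have e' : f x = (A 0 0 • (1 : Matrix (Fin 4) (Fin 4) F)) * f (rb * rb) := by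
          rw [Matrix.smul_mul, one_mul, hrr, ← hA]
          conv_lhs => rw [hfx, e]
          rw [mono_diag, mono_diag]
          ext i j
          fin_cases i <;> fin_cases j <;> simp [neg]
        rw [map_mul, e', mul_assoc, ← map_mul, mul_inv_cancel, map_one, mul_one])
      have hxy : (QuotientGroup.mk x : H ⧸ Subgroup.center H) = QuotientGroup.mk rb * QuotientGroup.mk rb := by
        have := (QuotientGroup.eq_one_iff _).2 hxr
        rwa [QuotientGroup.mk_mul, QuotientGroup.mk_inv, mul_inv_eq_one, QuotientGroup.mk_mul] at this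
      exact inSq_of_sq hxy.symm
  · -- exchanging within the pairs
    have hwm : w'' = -1 := mul_right_cancel₀ h (by linear_combination -d10)
    rw [hwm] at d00 d22
    have z00 := hz _ (show -A 0 0 = A 0 0 by linear_combination -d00)
    have z22 := hz _ (show -A 2 2 = A 2 2 by linear_combination -d22)
    set v := A 1 0 with hv
    set u := A 3 2 with hu
    have hfx : A = mono nuFour ![v, -v, u, -u] := by
      ext i j
      fin_cases i <;> fin_cases j <;>
        simp [mono_apply, nuFour, b11, b33, b01, b23, z00, z22, hv, hu, (o1 2 (Or.inl rfl)).1, (o1 2 (Or.inl rfl)).2,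
          (o1 3 (Or.inr rfl)).1, (o1 3 (Or.inr rfl)).2, (o2 2 (Or.inl rfl)).1, (o2 2 (Or.inl rfl)).2,
          (o2 3 (Or.inr rfl)).1, (o2 3 (Or.inr rfl)).2]
    rw [map_mul, ← hA, hfx, mono_mul] at hlam
    have hs0 : -(v * v) = lam := by simpa [mono_apply, nuFour] using congrFun (congrFun hlam 0) 0
    have hs2 : -(u * u) = lam := by simpa [mono_apply, nuFour] using congrFun (congrFun hlam 2) 2
    obtain ⟨ε, hε, hue⟩ : ∃ ε : F, (ε = 1 ∨ ε = -1) ∧ u = ε * v := by
      rcases mul_self_eq_mul_self_iff.1 (neg_injective (hs2.trans hs0.symm)) with e | e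
      · exact ⟨1, Or.inl rfl, by rw [one_mul, e]⟩
      · exact ⟨-1, Or.inr rfl, by rw [neg_one_mul, e]⟩
    obtain ⟨k, hk⟩ := M.mem cycFour ![1, ε, 1, -ε] (fun i => by
      fin_cases i <;> rcases hε with rfl | rfl <;> simp) (by
      rw [mono_det, sign_cycFour]
      simp [Fin.prod_univ_four]
      rcases hε with rfl | rfl <;> simp)
    have hkk : f (k * k) = mono nuFour ![1, -1, ε, -ε] := by
      rw [map_mul, hk, mono_mul, cycFour_sq]
      congr 1
      funext j
      fin_cases j <;> rcases hε with rfl | rfl <;> simp [cycFour]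
    have hxr : x * (k * k)⁻¹ ∈ Subgroup.center H := scalar_center M.inj (c := v) (by
      have e' : f x = (v • (1 : Matrix (Fin 4) (Fin 4) F)) * f (k * k) := by
        rw [Matrix.smul_mul, one_mul, hkk, ← hA]
        conv_lhs => rw [hfx, hue]
        ext i j
        fin_cases i <;> fin_cases j <;> simp [mono_apply, nuFour] <;> ring
      rw [map_mul, e', mul_assoc, ← map_mul, mul_inv_cancel, map_one, mul_one])
    have hxy : (QuotientGroup.mk x : H ⧸ Subgroup.center H) = QuotientGroup.mk k * QuotientGroup.mk k := by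
      have := (QuotientGroup.eq_one_iff _).2 hxr
      rwa [QuotientGroup.mk_mul, QuotientGroup.mk_inv, mul_inv_eq_one, QuotientGroup.mk_mul] at this
    exact inSq_of_sq hxy.symm

/-- Every degree at least three. -/
theorem MonoGroup.crit {n : ℕ} {f : H →* Matrix (Fin n) (Fin n) F} (M : MonoGroup f) (h2 : (2 : F) ≠ 0)
    (hn : 3 ≤ n) : Crit (H ⧸ Subgroup.center H) := by
  rcases (show n = 3 ∨ n = 4 ∨ 5 ≤ n by omega) with rfl | rfl | h
  · exact M.crit_three h2
  · exact M.crit_four h2
  · exact (M.frame h).crit h2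

end Cfsg.Agent.TwoCentralSq
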