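import Cfsg.Agent.Lib.TwoCentralSq.Mono

/-!
The criterion for a matrix group with enough signed permutations on at least five coordinates.
-/

set_option autoImplicit false
set_option linter.unusedSectionVars false

namespace Cfsg.Agent.TwoCentralSq

open Matrix

variable {ι : Type*} [Fintype ι] [DecidableEq ι] {F : Type*} [Field F] {H : Type*} [Group H]

/-- The sign vector of a set of coordinates. -/
def neg (S : Finset ι) : ι → F := fun i => if i ∈ S then -1 else 1

theorem isSgn_neg (S : Finset ι) : IsSgn (neg S : ι → F) := fun i => by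
  by_cases h : i ∈ S <;> simp [neg, h]

theorem neg_mem {S : Finset ι} {i : ι} (h : i ∈ S) : (neg S : ι → F) i = -1 := if_pos h

theorem neg_not_mem {S : Finset ι} {i : ι} (h : i ∉ S) : (neg S : ι → F) i = 1 := if_neg h

/-- A set of at least five coordinates paired off, and signed permutations in the group. -/
structure Frame (f : H →* Matrix ι ι F) where
  inj : Function.Injective f
  center : ∀ x ∈ Subgroup.center H, ∃ c : F, f x = c • (1 : Matrix ι ι F)
  K : Finset ι
  five : 5 ≤ K.card
  out : ∀ i j, i ∉ K → j ∉ K → i = j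
  ν : Equiv.Perm ι
  inv : ∀ i, ν (ν i) = i
  ν_out : ∀ i, i ∉ K → ν i = i
  one_fixed : ∀ a ∈ K, ∀ b ∈ K, ν a = a → ν b = b → a = b
  sign_mem : ∀ a ∈ K, ∀ b ∈ K, a ≠ b → ∃ x : H, f x = mono 1 (neg {a, b})
  turn_mem : ∀ a ∈ K, ∀ b ∈ K, ∀ c ∈ K, ∀ d ∈ K, [a, b, c, d].Nodup →
    ∃ x : H, f x = mono (Equiv.swap a b * Equiv.swap c d) (neg {a, c})
  root_mem : ∀ a ∈ K, ∀ b ∈ K, ∀ c ∈ K, ∀ d ∈ K, ∀ e ∈ K, [a, b, c, d, e].Nodup →
    ∃ x : H, f x = mono (Equiv.swap a b * Equiv.swap c d) (neg {a, e})
  outer : (∀ i, i ∈ K) ∨ ∀ (x : H) (d : ι → F), f x = mono 1 d → (∀ i, d i * d i = 1) ∧ ∏ i, d i = 1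

namespace Frame

variable {f : H →* Matrix ι ι F} (P : Frame f) (h2 : (2 : F) ≠ 0)

include h2

theorem neg_one_ne : (-1 : F) ≠ 1 := fun e => h2 (by linear_combination -e)

omit h2 in
theorem mem_pair {a : ι} (ha : a ∈ P.K) : P.ν a ∈ P.K := by
  by_contra h
  have e : a = P.ν a := (P.inv a).symm.trans (P.ν_out _ h)
  exact h (e ▸ ha)

/-- An element commuting up to centre with the pair group is diagonal. -/
theorem diag_of_twisted {x : H} (hc : ∀ r ∈ pairGroup f P.inj P.ν P.inv, x * r * x⁻¹ * r⁻¹ ∈ Subgroup.center H) :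
    ∀ i j, i ≠ j → f x i j = 0 := by
  have key : ∀ a ∈ P.K, ∀ b ∈ P.K, a ≠ b → ∀ i j,
      f x i j * (neg {a, b} : ι → F) j = (neg {a, b} : ι → F) i * f x i j := by
    intro a ha b hb hab
    obtain ⟨r, hr⟩ := P.sign_mem a ha b hb hab
    obtain ⟨w, hw⟩ := twisted P.center (hc r ⟨1, _, ⟨fun _ => Or.inl rfl, fun _ => rfl⟩, isSgn_neg _, hr⟩)
    rw [hr] at hw
    suffices w = 1 by
      intro i j
      rw [twisted_diag hw i j, this, one_mul]
    by_contra hne
    -- the coordinates outside the pair would be sent into the pair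
    have hz : ∀ i, i ∉ ({a, b} : Finset ι) → ∀ j, j ∉ ({a, b} : Finset ι) → f x i j = 0 := by
      intro i hi j hj
      have := twisted_diag hw i j
      rw [neg_not_mem hi, neg_not_mem hj, mul_one, one_mul] at this
      by_contra h0
      exact hne (mul_eq_right₀ h0 |>.1 this.symm)
    have h3 : 3 ≤ (Finset.univ \ ({a, b} : Finset ι)).card := by
      have h5 : 5 ≤ Fintype.card ι := P.five.trans (Finset.card_le_univ _)
      rw [Finset.card_univ_sdiff, Finset.card_pair hab]
      omega
    let L : (↥(Finset.univ \ ({a, b} : Finset ι)) → F) →ₗ[F] (↥({a, b} : Finset ι) → F) :=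
      { toFun := fun v i => ∑ j : ↥(Finset.univ \ ({a, b} : Finset ι)), f x i j * v j
        map_add' := fun v w => funext fun i => by simp [mul_add, Finset.sum_add_distrib]
        map_smul' := fun c v => funext fun i => by
          simp only [Pi.smul_apply, smul_eq_mul, RingHom.id_apply, Finset.mul_sum]
          exact Finset.sum_congr rfl fun j _ => by ring }
    have hL : Function.Injective L := by
      rw [← LinearMap.ker_eq_bot, LinearMap.ker_eq_bot']
      intro v hv
      let v' : ι → F := fun j => if h : j ∈ Finset.univ \ ({a, b} : Finset ι) then v ⟨j, h⟩ else 0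
      have hsum : ∀ i, (f x *ᵥ v') i = ∑ j : ↥(Finset.univ \ ({a, b} : Finset ι)), f x i j * v j := fun i => by
        rw [Matrix.mulVec, dotProduct, ← Finset.sum_subset (Finset.subset_univ (Finset.univ \ ({a, b} : Finset ι)))
          (fun j _ hj => by simp only [v', dif_neg hj, mul_zero]), ← Finset.sum_coe_sort]
        exact Finset.sum_congr rfl fun j _ => by simp only [v', dif_pos j.2]
      have h0 : f x *ᵥ v' = 0 := funext fun i => by
        rw [hsum, Pi.zero_apply]
        by_cases hi : i ∈ ({a, b} : Finset ι)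
        · exact congrFun hv ⟨i, hi⟩
        · exact Finset.sum_eq_zero fun j _ => by rw [hz i hi j (Finset.mem_sdiff.1 j.2).2, zero_mul]
      have hv0 : v' = 0 := by
        rw [← Matrix.one_mulVec v', ← f_inv_mul f x, ← Matrix.mulVec_mulVec, h0, Matrix.mulVec_zero]
      funext j
      have := congrFun hv0 j
      simpa only [v', dif_pos j.2, Pi.zero_apply] using this
    have := LinearMap.finrank_le_finrank_of_injective hL
    rw [Module.finrank_fintype_fun_eq_card, Module.finrank_fintype_fun_eq_card, Fintype.card_coe, Fintype.card_coe,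
      Finset.card_pair hab] at this
    omega
  have sep : ∀ i ∈ P.K, ∀ j, i ≠ j → f x i j = 0 ∧ f x j i = 0 := by
    intro i hi j hij
    obtain ⟨b, hb, hbi, hbj⟩ : ∃ b ∈ P.K, b ≠ i ∧ b ≠ j := by
      have h : 0 < (P.K \ {i, j}).card := by
        have := Finset.le_card_sdiff ({i, j} : Finset ι) P.K
        have := Finset.card_le_two (a := i) (b := j)
        have := P.five
        omega
      obtain ⟨b, hb⟩ := Finset.card_pos.1 h
      simp only [Finset.mem_sdiff, Finset.mem_insert, Finset.mem_singleton, not_or] at hb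
      exact ⟨b, hb.1, hb.2.1, hb.2.2⟩
    have hi' : i ∈ ({i, b} : Finset ι) := by simp
    have hj' : j ∉ ({i, b} : Finset ι) := by simp [Ne.symm hij, Ne.symm hbj]
    have e1 := key i hi b hb (Ne.symm hbi) i j
    have e2 := key i hi b hb (Ne.symm hbi) j i
    rw [neg_mem hi', neg_not_mem hj'] at e1 e2
    constructor
    · refine (mul_eq_zero.1 (show (2 : F) * f x i j = 0 by linear_combination e1)).resolve_left h2
    · refine (mul_eq_zero.1 (show (2 : F) * f x j i = 0 by linear_combination -e2)).resolve_left h2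
  intro i j hij
  by_cases hi : i ∈ P.K
  · exact (sep i hi j hij).1
  · exact (sep j (by by_contra hj; exact hij (P.out i j hi hj)) i (Ne.symm hij)).2

omit h2 in
/-- The criterion. -/
theorem crit {f : H →* Matrix ι ι F} (P : Frame f) (h2 : (2 : F) ≠ 0) : Crit (H ⧸ Subgroup.center H) := by
  refine crit_quot _ (pairGroup f P.inj P.ν P.inv) (pairGroup_isPGroup _ _ _ _) fun x hx2 hc => ?_
  classical
  have hd := P.diag_of_twisted h2 hc
  set d : ι → F := fun i => f x i i with hddef
  have hfx : f x = mono 1 d := by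
    rw [mono_diag]
    ext i j
    by_cases h : i = j
    · subst h; rw [Matrix.diagonal_apply_eq]
    · rw [Matrix.diagonal_apply_ne _ h, hd i j h]
  have hd0 : ∀ i, d i ≠ 0 := fun i => by
    obtain ⟨k, hk⟩ := exists_entry (f_inv_mul f x) i
    by_cases h : k = i
    · exact h ▸ hk
    · exact absurd (hd k i h) hk
  obtain ⟨lam, hlam⟩ := P.center _ hx2
  have hsq : ∀ i, d i * d i = lam := fun i => by
    have := congrFun (congrFun hlam i) i
    rw [map_mul, hfx, mono_mul, mono_apply, Matrix.smul_apply, Matrix.one_apply_eq, smul_eq_mul, mul_one] at this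
    simpa using this
  -- three pairs' worth of coordinates
  have hmoved : ∀ a : ι, ∃ c ∈ P.K, P.ν c ≠ c ∧ c ∉ ({a, P.ν a} : Finset ι) ∧ P.ν c ∉ ({a, P.ν a} : Finset ι) := by
    intro a
    obtain ⟨c, hc'⟩ := Finset.card_pos.1 (show 0 < ((P.K \ {a, P.ν a}).filter fun c => P.ν c ≠ c).card by
      have h1 := Finset.le_card_sdiff ({a, P.ν a} : Finset ι) P.K
      have h3 := Finset.card_le_two (a := a) (b := P.ν a)
      have h2 : ((P.K \ {a, P.ν a}).filter fun c => ¬ P.ν c ≠ c).card ≤ 1 := Finset.card_le_one.2 fun a ha b hb => by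
        simp only [Finset.mem_filter, Finset.mem_sdiff, not_not] at ha hb
        exact P.one_fixed a ha.1.1 b hb.1.1 ha.2 hb.2
      have := Finset.card_filter_add_card_filter_not (s := P.K \ {a, P.ν a}) (fun c => P.ν c ≠ c)
      have := P.five
      omega)
    simp only [Finset.mem_filter, Finset.mem_sdiff] at hc'
    refine ⟨c, hc'.1.1, hc'.2, hc'.1.2, fun h => hc'.1.2 ?_⟩
    simp only [Finset.mem_insert, Finset.mem_singleton] at h ⊢
    rcases h with h | h
    · exact Or.inr (by rw [← h, P.inv])
    · exact Or.inl (P.ν.injective h)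
  -- constant on the pairs
  have hpair : ∀ a, d (P.ν a) = d a := by
    intro a
    by_cases ha : P.ν a = a
    · rw [ha]
    have haK : a ∈ P.K := by by_contra h; exact ha (P.ν_out a h)
    have haνK := P.mem_pair haK
    obtain ⟨c, hcK, hcν, hc1, hνc⟩ := hmoved a
    simp only [Finset.mem_insert, Finset.mem_singleton, not_or] at hc1 hνc
    obtain ⟨e, he⟩ := Finset.card_pos.1 (show 0 < (P.K \ {a, P.ν a, c, P.ν c}).card by
      have h1 := Finset.le_card_sdiff ({a, P.ν a, c, P.ν c} : Finset ι) P.K
      have h3 := Finset.card_le_four (a := a) (b := P.ν a) (c := c) (d := P.ν c)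
      have := P.five
      omega)
    simp only [Finset.mem_sdiff, Finset.mem_insert, Finset.mem_singleton, not_or] at he
    obtain ⟨r, hr⟩ := P.turn_mem a haK _ haνK c hcK _ (P.mem_pair hcK) (by
      simp [Ne.symm ha, Ne.symm hc1.1, Ne.symm hνc.1, Ne.symm hc1.2, Ne.symm hνc.2, Ne.symm hcν])
    set σ := Equiv.swap a (P.ν a) * Equiv.swap c (P.ν c) with hσ
    have hsw : ∀ y, y ≠ c → y ≠ P.ν c → σ y = Equiv.swap a (P.ν a) y := fun y h h' => by
      rw [hσ, Equiv.Perm.mul_apply, Equiv.swap_apply_of_ne_of_ne h h']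
    obtain ⟨w, hw⟩ := twisted P.center (hc r
      ⟨σ, _, (inPairs_swap P.inv a).mul P.inv (inPairs_swap P.inv c), isSgn_neg _, hr⟩)
    rw [hfx, hr, mono_mul, mono_mul] at hw
    have ent : ∀ j, d (σ j) = w * d j := fun j => by
      have := congrFun (congrFun hw (σ j)) j
      simp only [mono_apply, Matrix.smul_apply, one_mul, mul_one, Equiv.Perm.one_apply, smul_eq_mul, if_true] at this
      refine mul_right_cancel₀ (show (neg {a, c} : ι → F) j ≠ 0 from ?_) (this.trans (by ring))
      rcases isSgn_neg (F := F) {a, c} j with e | e <;> rw [e]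
      · exact one_ne_zero
      · exact neg_ne_zero.2 one_ne_zero
    have hw1 : w = 1 := by
      have := ent e
      rw [hsw e he.2.2.2.1 he.2.2.2.2, Equiv.swap_apply_of_ne_of_ne he.2.1 he.2.2.1] at this
      exact (mul_eq_right₀ (hd0 e)).1 this.symm
    have := ent a
    rwa [hsw a (Ne.symm hc1.1) (Ne.symm hνc.1), Equiv.swap_apply_left, hw1, one_mul] at this
  -- the common value at the unpaired coordinates
  obtain ⟨c₀, hc₀, hfixc⟩ : ∃ c₀ : F, c₀ * c₀ = lam ∧ ∀ i, P.ν i = i → d i = c₀ := by
    by_cases hex : ∃ i, P.ν i = i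
    · obtain ⟨u, hu⟩ := hex
      refine ⟨d u, hsq u, fun i hi => ?_⟩
      by_contra hne
      have hiu : i ≠ u := fun e => hne (by rw [e])
      rcases P.outer with hall | hout
      · exact hiu (P.one_fixed i (hall i) u (hall u) hi hu)
      · obtain ⟨h1, hprod⟩ := hout x d hfx
        have honly : ∀ y, P.ν y = y → y = i ∨ y = u := by
          intro y hy
          by_contra hcon
          push Not at hcon
          by_cases hyK : y ∈ P.K
          · by_cases hiK : i ∈ P.K
            · exact hcon.1 (P.one_fixed y hyK i hiK hy hi)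
            · by_cases huK : u ∈ P.K
              · exact hcon.2 (P.one_fixed y hyK u huK hy hu)
              · exact hiu (P.out i u hiK huK)
          · by_cases hiK : i ∈ P.K
            · by_cases huK : u ∈ P.K
              · exact hiu (P.one_fixed i hiK u huK hi hu)
              · exact hcon.2 (P.out y u hyK huK)
            · exact hcon.1 (P.out y i hyK hiK)
        have hrest : ∏ y ∈ Finset.univ \ ({i, u} : Finset ι), d y = 1 := by
          refine Finset.prod_involution (fun y _ => P.ν y) (fun y _ => by rw [hpair, h1]) (fun y hy _ h => ?_)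
            (fun y hy => ?_) (fun y _ => P.inv y)
          · simp only [Finset.mem_sdiff, Finset.mem_insert, Finset.mem_singleton, not_or] at hy
            exact (honly y h).elim hy.2.1 hy.2.2
          · simp only [Finset.mem_sdiff, Finset.mem_univ, true_and, Finset.mem_insert, Finset.mem_singleton,
              not_or] at hy ⊢
            exact ⟨fun e => hy.1 (P.ν.injective (e.trans hi.symm)), fun e => hy.2 (P.ν.injective (e.trans hu.symm))⟩
        rw [← Finset.prod_sdiff (Finset.subset_univ ({i, u} : Finset ι)), hrest, one_mul, Finset.prod_pair hiu]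
          at hprod
        refine hne ?_
        calc d i = d i * (d u * d u) := by rw [h1, mul_one]
          _ = d u := by rw [← mul_assoc, hprod, one_mul]
    · push Not at hex
      obtain ⟨u, -⟩ := Finset.card_pos.1 (lt_of_lt_of_le (by norm_num) P.five)
      exact ⟨d u, hsq u, fun i hi => absurd hi (hex i)⟩
  have hc0 : c₀ ≠ 0 := fun e => by
    obtain ⟨u, -⟩ := Finset.card_pos.1 (lt_of_lt_of_le (by norm_num) P.five)
    rw [e, mul_zero] at hc₀
    exact hd0 u (mul_self_eq_zero.1 ((hsq u).trans hc₀.symm))
  set S : Finset ι := Finset.univ.filter fun i => d i ≠ c₀ with hS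
  have hdS : d = fun i => c₀ * (neg S : ι → F) i := funext fun i => by
    by_cases h : d i = c₀
    · rw [neg_not_mem (by simp [hS, h]), mul_one, h]
    · rw [neg_mem (by simp [hS, h])]
      rcases mul_self_eq_mul_self_iff.1 ((hsq i).trans hc₀.symm) with e | e
      · exact absurd e h
      · rw [e, mul_neg, mul_one]
  -- the signs as a product of squares
  have hprodsq : ∀ S : Finset ι, (∀ i ∈ S, P.ν i ≠ i ∧ P.ν i ∈ S) →
      ∃ y : H, f y = mono 1 (neg S) ∧ (QuotientGroup.mk y : H ⧸ Subgroup.center H) ∈ Subgroup.closure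
        {u | ∃ v : H ⧸ Subgroup.center H, v * QuotientGroup.mk x = QuotientGroup.mk x * v ∧ v * v = u} := by
    intro S
    induction S using Finset.strongInduction with
    | _ S ih =>
      intro hS
      rcases S.eq_empty_or_nonempty with rfl | ⟨a, ha⟩
      · refine ⟨1, ?_, ?_⟩
        · rw [map_one, ← mono_one]
          congr 1
        · rw [QuotientGroup.mk_one]; exact one_mem _
      obtain ⟨haν, haS⟩ := hS a ha
      have haK : a ∈ P.K := by by_contra h; exact haν (P.ν_out a h)
      have hb := P.mem_pair haK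
      obtain ⟨c, hcK, hcν, hc1, hνc⟩ := hmoved a
      simp only [Finset.mem_insert, Finset.mem_singleton, not_or] at hc1 hνc
      obtain ⟨e, he⟩ := Finset.card_pos.1 (show 0 < (P.K \ {a, P.ν a, c, P.ν c}).card by
        have h1 := Finset.le_card_sdiff ({a, P.ν a, c, P.ν c} : Finset ι) P.K
        have h3 := Finset.card_le_four (a := a) (b := P.ν a) (c := c) (d := P.ν c)
        have := P.five
        omega)
      simp only [Finset.mem_sdiff, Finset.mem_insert, Finset.mem_singleton, not_or] at he
      obtain ⟨r, hr⟩ := P.root_mem a haK _ hb c hcK _ (P.mem_pair hcK) e he.1 (by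
        simp [Ne.symm haν, Ne.symm hc1.1, Ne.symm hνc.1, Ne.symm hc1.2, Ne.symm hνc.2, Ne.symm hcν, Ne.symm he.2.1,
          Ne.symm he.2.2.1, Ne.symm he.2.2.2.1, Ne.symm he.2.2.2.2])
      set σ := Equiv.swap a (P.ν a) * Equiv.swap c (P.ν c) with hσ
      have hsw : ∀ y, y ≠ c → y ≠ P.ν c → σ y = Equiv.swap a (P.ν a) y := fun y h h' => by
        rw [hσ, Equiv.Perm.mul_apply, Equiv.swap_apply_of_ne_of_ne h h']
      have hrr : f (r * r) = mono 1 (neg {a, P.ν a}) := by
        rw [map_mul, hr, mono_mul, ((inPairs_swap P.inv a).mul P.inv (inPairs_swap P.inv c)).sq P.inv]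
        congr 1
        funext j
        by_cases hja : j = a
        · subst hja
          rw [hsw _ (Ne.symm hc1.1) (Ne.symm hνc.1), Equiv.swap_apply_left, neg_mem (S := {j, e}) (i := j) (by simp),
            neg_not_mem (by simp [haν, Ne.symm he.2.2.1]), neg_mem (by simp), one_mul]
        by_cases hjb : j = P.ν a
        · subst hjb
          rw [hsw _ (Ne.symm hc1.2) (Ne.symm hνc.2), Equiv.swap_apply_right, neg_mem (S := {a, e}) (i := a) (by simp),
            neg_not_mem (by simp [haν, Ne.symm he.2.2.1]), neg_mem (by simp), mul_one]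
        rw [neg_not_mem (S := {a, P.ν a}) (i := j) (by simp [hja, hjb])]
        by_cases hjc : j = c
        · subst hjc
          rw [hσ, Equiv.Perm.mul_apply, Equiv.swap_apply_left, Equiv.swap_apply_of_ne_of_ne hνc.1 hνc.2,
            neg_not_mem (by simp [hνc.1, Ne.symm he.2.2.2.2]), neg_not_mem (by simp [hc1.1, Ne.symm he.2.2.2.1]),
            mul_one]
        by_cases hjd : j = P.ν c
        · subst hjd
          rw [hσ, Equiv.Perm.mul_apply, Equiv.swap_apply_right, Equiv.swap_apply_of_ne_of_ne hc1.1 hc1.2,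
            neg_not_mem (by simp [hc1.1, Ne.symm he.2.2.2.1]), neg_not_mem (by simp [hνc.1, Ne.symm he.2.2.2.2]),
            mul_one]
        rw [hsw j hjc hjd, Equiv.swap_apply_of_ne_of_ne hja hjb]
        exact (isSgn_neg _).sq j
      have hcomm : x * r = r * x := P.inj (by
        rw [map_mul, map_mul, hfx, hr, mono_mul, mono_mul, one_mul, mul_one]
        congr 1
        funext j
        have : d (σ j) = d j := by
          rcases ((inPairs_swap P.inv a).mul P.inv (inPairs_swap P.inv c)).1 j with e | e <;> rw [e]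
          exact hpair j
        rw [Equiv.Perm.one_apply, this, mul_comm])
      obtain ⟨y, hy, hmem⟩ := ih ((S.erase a).erase (P.ν a))
        (lt_of_le_of_lt (Finset.erase_subset _ _) (Finset.erase_ssubset ha)) fun i hi => by
          simp only [Finset.mem_erase] at hi ⊢
          refine ⟨(hS i hi.2.2).1, fun h => hi.2.1 (P.ν.injective h), fun h => hi.1 ?_, (hS i hi.2.2).2⟩
          rw [← h, P.inv]
      refine ⟨r * r * y, ?_, ?_⟩
      · rw [map_mul, hrr, hy, mono_mul, one_mul]
        congr 1
        funext j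
        rw [Equiv.Perm.one_apply]
        by_cases hja : j ∈ ({a, P.ν a} : Finset ι)
        · have : j ∈ S := by
            simp only [Finset.mem_insert, Finset.mem_singleton] at hja
            rcases hja with rfl | rfl <;> assumption
          rw [neg_mem hja, neg_mem this, neg_not_mem, mul_one]
          simp only [Finset.mem_insert, Finset.mem_singleton] at hja
          simp only [Finset.mem_erase]
          rcases hja with rfl | rfl <;> tauto
        · rw [neg_not_mem hja, one_mul]
          simp only [Finset.mem_insert, Finset.mem_singleton, not_or] at hja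
          by_cases hj : j ∈ S
          · rw [neg_mem hj, neg_mem (by simp [hja.1, hja.2, hj])]
          · rw [neg_not_mem hj, neg_not_mem (by simp [hj])]
      · rw [QuotientGroup.mk_mul, QuotientGroup.mk_mul]
        exact mul_mem (Subgroup.subset_closure
          ⟨QuotientGroup.mk r, by rw [← QuotientGroup.mk_mul, ← QuotientGroup.mk_mul, hcomm], rfl⟩) hmem
  obtain ⟨y, hy, hmem⟩ := hprodsq S fun i hi => by
    simp only [hS, Finset.mem_filter, Finset.mem_univ, true_and] at hi ⊢
    exact ⟨fun h => hi (hfixc i h), by rwa [hpair]⟩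
  have hscal : x * y⁻¹ ∈ Subgroup.center H := scalar_center P.inj (c := c₀) (by
    have e : f x = (c₀ • (1 : Matrix ι ι F)) * f y := by
      rw [Matrix.smul_mul, one_mul, hy, hfx, hdS]
      ext i j
      by_cases h : i = j <;> simp [mono_diag, h]
    rw [map_mul, e, mul_assoc, ← map_mul, mul_inv_cancel, map_one, mul_one])
  have hxy : (QuotientGroup.mk x : H ⧸ Subgroup.center H) = QuotientGroup.mk y := by
    have := (QuotientGroup.eq_one_iff _).2 hscal
    rwa [QuotientGroup.mk_mul, QuotientGroup.mk_inv, mul_inv_eq_one] at this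
  have h := hmem
  rw [← hxy] at h
  exact h

end Frame

end Cfsg.Agent.TwoCentralSq
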