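import Cfsg.Agent.Lib.TwoCentralSq.Four
import Cfsg.Agent.Lib.AutPSU.Basic

/-!
The linear and unitary groups of odd characteristic.
-/

set_option autoImplicit false
set_option linter.unusedSectionVars false

namespace Cfsg.Agent.TwoCentralSq

open Matrix

variable {F : Type*} [Field F] {n : ℕ}

theorem slToMat_apply (A : Matrix.SpecialLinearGroup (Fin n) F) : Cfsg.slToMat n F A = A.1 := rfl

/-- The special linear group. -/
theorem monoGroup_sl : MonoGroup (Cfsg.slToMat n F) where
  inj := fun _ _ h => Subtype.ext h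
  center := fun A hA => by
    obtain ⟨r, -, hr⟩ := Matrix.SpecialLinearGroup.mem_center_iff.1 hA
    refine ⟨r, ?_⟩
    rw [slToMat_apply, ← hr, Matrix.smul_one_eq_diagonal]
    rfl
  det := fun A => A.2
  mem := fun σ s _ h => ⟨⟨mono σ s, h⟩, rfl⟩

theorem crit_psl {F : Type*} [Field F] (h2 : (2 : F) ≠ 0) (n : ℕ) (hn : 3 ≤ n) :
    Crit (Matrix.ProjectiveSpecialLinearGroup (Fin n) F) :=
  (monoGroup_sl (F := F) (n := n)).crit h2 hn

/-- The special unitary group. -/
theorem monoGroup_su [Fintype F] {q : ℕ} (hF : Fintype.card F = q ^ 2) (h2 : (2 : F) ≠ 0) (hn : 2 ≤ n) :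
    MonoGroup ((Cfsg.slToMat n F).comp (Cfsg.SU n F q).subtype) where
  inj := fun _ _ h => Subtype.ext (Subtype.ext h)
  center := fun A hA => by
    obtain ⟨C⟩ := AutPSU.exists_conj hF
    obtain ⟨c, hc⟩ := (AutPSU.mem_center_iff C hn hF A).1 hA
    refine ⟨c, ?_⟩
    ext i j
    have := congrFun (hc (Pi.single j 1)) i
    simp only [AutPSU.act, Matrix.mulVec_single_one, Matrix.col_apply, Pi.smul_apply, smul_eq_mul] at this
    show (A.1.1 : Matrix (Fin n) (Fin n) F) i j = (c • (1 : Matrix (Fin n) (Fin n) F)) i j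
    rw [this]
    simp [Matrix.one_apply, Pi.single_apply]
  det := fun A => A.1.2
  mem := fun σ s hs h => by
    refine ⟨⟨⟨mono σ s, h⟩, fun u v => ?_⟩, rfl⟩
    show Cfsg.hermForm n F q (mono σ s *ᵥ u) (mono σ s *ᵥ v) = Cfsg.hermForm n F q u v
    simp only [Cfsg.hermForm]
    rw [← Equiv.sum_comp σ]
    refine Finset.sum_congr rfl fun i _ => ?_
    rw [mono_mulVec, mono_mulVec, mul_pow]
    have hodd : Odd q := by
      by_contra hc
      rw [Nat.not_odd_iff_even] at hc
      refine h2 ?_
      have h0 : Even (Fintype.card F) := by rw [hF]; exact hc.pow_of_ne_zero two_ne_zero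
      by_contra h2'
      have := FiniteField.odd_card_of_char_ne_two (F := F) (fun e => h2' (by have h := ringChar.Nat.cast_ringChar (R := F); rw [e] at h; exact_mod_cast h))
      rw [Nat.even_iff] at h0
      omega
    rcases hs i with e | e <;> rw [e]
    · rw [one_pow, one_mul, one_mul]
    · rw [hodd.neg_one_pow]; ring

theorem crit_psu {F : Type*} [Field F] [Fintype F] (h2 : (2 : F) ≠ 0) (n q : ℕ) (hn : 3 ≤ n)
    (hF : Fintype.card F = q ^ 2) : Crit (Cfsg.PSU n F q) :=
  (monoGroup_su hF h2 (by omega)).crit h2 hn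

end Cfsg.Agent.TwoCentralSq
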