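import Cfsg.Agent.Lib.TwoCentralSq.MonoGroup
import Cfsg.Agent.Lib.Orthogonal.POmega
import Cfsg.Agent.Lib.Orthogonal.OmegaIndex
import Cfsg.Agent.Lib.AutPOmega.Forms

/-!
The orthogonal groups of odd characteristic: sign changes in an orthogonal basis with all values one but one.
-/

set_option autoImplicit false
set_option linter.unusedSectionVars false
set_option linter.style.haveILetI false
set_option linter.unusedSimpArgs false

namespace Cfsg.Agent.TwoCentralSq.OrthOdd

open Matrix QuadraticMap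

variable {F : Type} [Field F] [Fintype F]

/-- An orthogonal family all of whose values but the first are one. -/
theorem exists_family {V : Type} [AddCommGroup V] [Module F V] [FiniteDimensional F V] (Q : QuadraticForm F V)
    (h2 : (2 : F) ≠ 0) : ∀ (n : ℕ) (P : Submodule F V),
      (∀ u ∈ P, (∀ w ∈ P, polar Q u w = 0) → u = 0) → Module.finrank F P = n + 1 →
      ∃ y : Fin (n + 1) → V, (∀ a, y a ∈ P) ∧ (∀ a b, a ≠ b → polar Q (y a) (y b) = 0) ∧
        (∀ a, a ≠ 0 → Q (y a) = 1) ∧ Q (y 0) ≠ 0 := by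
  intro n
  induction n with
  | zero =>
    intro P hP h1
    obtain ⟨⟨u, hu⟩, hu0, hspan⟩ := finrank_eq_one_iff'.1 h1
    refine ⟨fun _ => u, fun _ => hu, fun a b hab => absurd (Fin.ext (by omega)) hab,
      fun a ha => absurd (Fin.ext (by simp)) ha, fun e => hu0 (Subtype.ext (hP u hu fun w hw => ?_))⟩
    obtain ⟨c, hc⟩ := hspan ⟨w, hw⟩
    have hc' : c • u = w := congrArg Subtype.val hc
    rw [← hc', Orth.b_smul_right, Orth.b_self, show Q u = 0 from e, mul_zero, mul_zero]
  | succ n ih =>
    intro P hP h1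
    let QP : QuadraticForm F P := Q.comp P.subtype
    have hpol : ∀ v w : P, polar QP v w = polar Q (v : V) w := fun v w => rfl
    have hQP : (polarBilin QP).Nondegenerate := by
      refine ⟨fun v hv => Subtype.ext (hP v v.2 fun w hw => hv ⟨w, hw⟩), fun v hv => Subtype.ext (hP v v.2 fun w hw => ?_)⟩
      rw [Orth.b_comm]
      exact hv ⟨w, hw⟩
    obtain ⟨⟨x, hx⟩, hx1⟩ := Orth.exists_value hQP (by omega) (1 : F)
    change Q x = 1 at hx1
    have hxx : polar Q x x ≠ 0 := by rw [Orth.b_self, hx1, mul_one]; exact h2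
    set P' : Submodule F V := P ⊓ LinearMap.ker (polarBilin Q x) with hP'
    have hdec : ∀ p ∈ P, p - (polar Q x p / polar Q x x) • x ∈ P' := fun p hp => by
      refine Submodule.mem_inf.2 ⟨P.sub_mem hp (P.smul_mem _ hx), LinearMap.mem_ker.2 ?_⟩
      show polar Q x (p - _ • x) = 0
      rw [Orth.b_sub_right, Orth.b_smul_right, div_mul_cancel₀ _ hxx, sub_self]
    have hsup : P' ⊔ Submodule.span F {x} = P := by
      refine le_antisymm (sup_le inf_le_left (by rwa [Submodule.span_singleton_le_iff_mem])) fun p hp => ?_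
      rw [← sub_add_cancel p ((polar Q x p / polar Q x x) • x)]
      exact Submodule.add_mem_sup (hdec p hp) (Submodule.mem_span_singleton.2 ⟨_, rfl⟩)
    have hinf : P' ⊓ Submodule.span F {x} = ⊥ := by
      refine (Submodule.eq_bot_iff _).2 fun p hp => ?_
      obtain ⟨c, rfl⟩ := Submodule.mem_span_singleton.1 hp.2
      have h : polar Q x (c • x) = 0 := LinearMap.mem_ker.1 hp.1.2
      rw [Orth.b_smul_right, mul_eq_zero] at h
      rw [h.resolve_right hxx, zero_smul]
    have hrank : Module.finrank F P' = n + 1 := by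
      have h := Submodule.finrank_sup_add_finrank_inf_eq P' (Submodule.span F {x})
      rw [hsup, hinf, finrank_bot, finrank_span_singleton (fun e : x = 0 => hxx (by rw [e, Orth.b_zero_right])), h1]
        at h
      omega
    obtain ⟨y, hy, hyo, hy1, hy0⟩ := ih P' (fun u hu hperp => hP u hu.1 fun w hw => by
      have h := hperp _ (hdec w hw)
      rwa [Orth.b_sub_right, Orth.b_smul_right, Orth.b_comm u x,
        show polar Q x u = 0 from LinearMap.mem_ker.1 hu.2, mul_zero, sub_zero] at h) hrank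
    have hyx : ∀ a, polar Q x (y a) = 0 := fun a => LinearMap.mem_ker.1 (hy a).2
    refine ⟨Fin.snoc y x, fun a => ?_, fun a b hab => ?_, fun a ha => ?_, ?_⟩
    · induction a using Fin.lastCases with
      | last => rw [Fin.snoc_last]; exact hx
      | cast a => rw [Fin.snoc_castSucc]; exact (hy a).1
    · induction a using Fin.lastCases with
      | last =>
        induction b using Fin.lastCases with
        | last => exact absurd rfl hab
        | cast b => rw [Fin.snoc_last, Fin.snoc_castSucc]; exact hyx b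
      | cast a =>
        induction b using Fin.lastCases with
        | last => rw [Fin.snoc_last, Fin.snoc_castSucc, Orth.b_comm]; exact hyx a
        | cast b => rw [Fin.snoc_castSucc, Fin.snoc_castSucc]; exact hyo a b fun e => hab (by rw [e])
    · induction a using Fin.lastCases with
      | last => rw [Fin.snoc_last, hx1]
      | cast a => rw [Fin.snoc_castSucc]; exact hy1 a fun e => ha (by rw [e]; rfl)
    · rw [show (0 : Fin (n + 1 + 1)) = Fin.castSucc 0 from rfl, Fin.snoc_castSucc]
      exact hy0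

variable {ι : Type} [Fintype ι] [DecidableEq ι]

/-- The matrices in a basis. -/
def inBasis (Q : (ι → F) → F) (R : GL ι F) : ↥(Cfsg.isometryGroup F Q) →* Matrix ι ι F where
  toFun g := ((R⁻¹ * (g : GL ι F) * R : GL ι F) : Matrix ι ι F)
  map_one' := by simp
  map_mul' g h := by
    rw [← Units.val_mul]
    congr 1
    simp only [Subgroup.coe_mul]
    group

theorem inBasis_injective (Q : (ι → F) → F) (R : GL ι F) : Function.Injective (inBasis Q R) := fun g h e => by
  have e' : R⁻¹ * (g : GL ι F) * R = R⁻¹ * (h : GL ι F) * R := Units.ext e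
  exact Subtype.ext (mul_left_cancel (mul_right_cancel e'))

/-- The criterion for a non-degenerate form in dimension at least seven. -/
theorem crit (Q : QuadraticForm F (ι → F)) (hQ : (polarBilin Q).Nondegenerate) (h2 : (2 : F) ≠ 0)
    (hn : 7 ≤ Fintype.card ι) : Crit (Cfsg.POmega F (⇑Q)) := by
  classical
  obtain ⟨n, hn'⟩ : ∃ n, Fintype.card ι = n + 1 := ⟨Fintype.card ι - 1, by omega⟩
  obtain ⟨y, -, hyo, hy1, hy0⟩ := exists_family Q h2 n ⊤
    (fun u _ h => hQ.1 u fun w => h w Submodule.mem_top)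
    (by rw [finrank_top, Module.finrank_fintype_fun_eq_card, hn'])
  -- the coordinates: the odd one is last
  let e : Fin (n + 1) ≃ ι := (Fintype.equivFinOfCardEq hn').symm
  let z : ι → ι → F := fun i => y (e.symm i + 1)
  let w : ι → F := fun i => Q (z i)
  set o : ι := e (Fin.last n) with ho
  have hzo : ∀ i j, i ≠ j → polar Q (z i) (z j) = 0 := fun i j h => hyo _ _ fun e' =>
    h (e.symm.injective (add_right_cancel e'))
  have hw1 : ∀ i, i ≠ o → w i = 1 := fun i h => hy1 _ fun e' => h (by
    rw [ho, ← (add_right_cancel (e'.trans (Fin.last_add_one n).symm) : e.symm i = Fin.last n), e.apply_symm_apply])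
  have hwo : w o ≠ 0 := by
    show Q (y (e.symm (e (Fin.last n)) + 1)) ≠ 0
    rw [e.symm_apply_apply, Fin.last_add_one]
    exact hy0
  have hwne : ∀ i, w i ≠ 0 := fun i => by
    by_cases h : i = o
    · exact h ▸ hwo
    · rw [hw1 i h]; exact one_ne_zero
  let Rm : Matrix ι ι F := Matrix.of fun k i => z i k
  have hcomb : ∀ v : ι → F, Rm *ᵥ v = ∑ i, v i • z i := fun v => funext fun k => by
    simp [Rm, Matrix.mulVec, dotProduct, mul_comm]
  have hpol : ∀ v j, polar Q (Rm *ᵥ v) (z j) = v j * (2 * w j) := fun v j => by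
    rw [hcomb, show polar (⇑Q) (∑ i, v i • z i) (z j) = polarBilin Q (∑ i, v i • z i) (z j) from rfl, map_sum,
      LinearMap.sum_apply, Finset.sum_eq_single j (fun i _ h => by
        show polarBilin Q (v i • z i) (z j) = 0
        show polar Q (v i • z i) (z j) = 0
        rw [Orth.b_smul_left, hzo i j h, mul_zero]) (fun h => absurd (Finset.mem_univ j) h)]
    show polar Q (v j • z j) (z j) = _
    rw [Orth.b_smul_left, Orth.b_self]
  have hinj : Function.Injective fun v => Rm *ᵥ v := fun v v' h => funext fun j => by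
    refine mul_right_cancel₀ (mul_ne_zero h2 (hwne j)) ?_
    rw [← hpol, ← hpol, show Rm *ᵥ v = Rm *ᵥ v' from h]
  let R : GL ι F := (Matrix.mulVec_injective_iff_isUnit.1 hinj).unit
  have hR : (R : Matrix ι ι F) = Rm := rfl
  have hform : ∀ v, Q (Rm *ᵥ v) = ∑ i, w i * (v i * v i) := fun v => by
    refine mul_left_cancel₀ h2 ?_
    have : polar Q (Rm *ᵥ v) (Rm *ᵥ v) = ∑ j, v j * (v j * (2 * w j)) := by
      conv_lhs => arg 3; rw [hcomb]
      rw [show polar (⇑Q) (Rm *ᵥ v) (∑ i, v i • z i) = polarBilin Q (Rm *ᵥ v) (∑ i, v i • z i) from rfl, map_sum]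
      refine Finset.sum_congr rfl fun j _ => ?_
      show polar Q (Rm *ᵥ v) (v j • z j) = _
      rw [Orth.b_smul_right, hpol]
    rw [Orth.b_self] at this
    rw [this, Finset.mul_sum]
    exact Finset.sum_congr rfl fun j _ => by ring
  let f₀ := inBasis (⇑Q) R
  have hback : ∀ (g : Cfsg.isometryGroup F (⇑Q)) v, Q (Rm *ᵥ (f₀ g *ᵥ v)) = Q (Rm *ᵥ v) := fun g v => by
    show Q (Rm *ᵥ (((R⁻¹ * (g : GL ι F) * R : GL ι F) : Matrix ι ι F) *ᵥ v)) = _
    rw [Matrix.mulVec_mulVec, ← hR, ← Units.val_mul, show R * (R⁻¹ * (g : GL ι F) * R) = (g : GL ι F) * R by group,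
      Units.val_mul, ← Matrix.mulVec_mulVec]
    exact Orth.mem_isometryGroup.1 g.2 _
  have mk : ∀ (σ : Equiv.Perm ι) (s : ι → F), IsSgn s → (∀ i, w (σ i) = w i) →
      ∃ g : Cfsg.isometryGroup F (⇑Q), f₀ g = mono σ s := by
    intro σ s hs hσ
    have hu : mono σ s * mono σ⁻¹ (fun i => s (σ⁻¹ i)) = 1 := by
      rw [mono_mul, mul_inv_cancel, ← mono_one]
      congr 1
      funext j
      exact hs.sq _
    let M : GL ι F := ⟨mono σ s, mono σ⁻¹ (fun i => s (σ⁻¹ i)), hu, mul_eq_one_comm.1 hu⟩
    refine ⟨⟨R * M * R⁻¹, Orth.mem_isometryGroup.2 fun x => ?_⟩, ?_⟩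
    · obtain ⟨v, rfl⟩ : ∃ v, Rm *ᵥ v = x := ⟨((R⁻¹ : GL ι F) : Matrix ι ι F) *ᵥ x, by
        rw [Matrix.mulVec_mulVec, ← hR, ← Units.val_mul, mul_inv_cancel, Units.val_one, Matrix.one_mulVec]⟩
      rw [Matrix.mulVec_mulVec, ← hR, ← Units.val_mul, inv_mul_cancel_right, Units.val_mul, ← Matrix.mulVec_mulVec,
        hR, hform, hform, ← Equiv.sum_comp σ]
      refine Finset.sum_congr rfl fun i _ => ?_
      rw [show (M : Matrix ι ι F) = mono σ s from rfl, mono_mulVec, hσ, show s i * v i * (s i * v i) = s i * s i * (v i * v i) by ring,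
        hs.sq, one_mul]
    · show ((R⁻¹ * (R * M * R⁻¹) * R : GL ι F) : Matrix ι ι F) = _
      rw [show R⁻¹ * (R * M * R⁻¹) * R = M by group]
  have hinj₀ := inBasis_injective (⇑Q) R
  -- commutators
  have comm : ∀ (σ τ : Equiv.Perm ι) (s t : ι → F), IsSgn s → IsSgn t → (∀ i, w (σ i) = w i) →
      (∀ i, w (τ i) = w i) → mono σ s * mono σ s = 1 → mono τ t * mono τ t = 1 →
      ∃ c : Cfsg.Omega F (⇑Q), f₀ c = mono σ s * mono τ t * mono σ s * mono τ t := by
    intro σ τ s t hs ht hσ hτ hσ2 hτ2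
    obtain ⟨g, hg⟩ := mk σ s hs hσ
    obtain ⟨h, hh⟩ := mk τ t ht hτ
    have hg2 : g⁻¹ = g := inv_eq_of_mul_eq_one_right (hinj₀ (by rw [map_mul, map_one, hg, hσ2]))
    have hh2 : h⁻¹ = h := inv_eq_of_mul_eq_one_right (hinj₀ (by rw [map_mul, map_one, hh, hτ2]))
    refine ⟨⟨g * h * g⁻¹ * h⁻¹, ?_⟩, ?_⟩
    · rw [← commutatorElement_def]
      exact Subgroup.commutator_mem_commutator (Subgroup.mem_top g) (Subgroup.mem_top h)
    · show f₀ (g * h * g⁻¹ * h⁻¹) = _
      rw [hg2, hh2, map_mul, map_mul, map_mul, hg, hh]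
  have hone : IsSgn (fun _ : ι => (1 : F)) := fun _ => Or.inl rfl
  have swapw : ∀ a b, a ≠ o → b ≠ o → ∀ i, w (Equiv.swap a b i) = w i := fun a b ha hb i => by
    by_cases h : i = a
    · subst h; rw [Equiv.swap_apply_left, hw1 _ ha, hw1 _ hb]
    by_cases h' : i = b
    · subst h'; rw [Equiv.swap_apply_right, hw1 _ ha, hw1 _ hb]
    · rw [Equiv.swap_apply_of_ne_of_ne h h']
  have signs : ∀ a b, a ≠ o → b ≠ o → a ≠ b → ∃ c : Cfsg.Omega F (⇑Q), f₀ c = mono 1 (neg {a, b}) := by
    intro a b ha hb hab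
    obtain ⟨c, hc⟩ := comm 1 (Equiv.swap a b) (neg {a}) (fun _ => 1) (isSgn_neg _) hone (fun _ => rfl)
      (swapw a b ha hb) (by rw [mono_mul, one_mul, ← mono_one]; congr 1; funext j; exact (isSgn_neg _).sq j)
      (by rw [mono_mul, Equiv.swap_mul_self, ← mono_one]; congr 1; funext j; rw [one_mul])
    refine ⟨c, hc.trans ?_⟩
    rw [mono_mul, mono_mul, mono_mul, one_mul, mul_one, Equiv.swap_mul_self]
    congr 1
    funext j
    by_cases h : j = a
    · subst h; simp [neg, hab, Ne.symm hab]
    by_cases h' : j = b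
    · subst h'; simp [neg, hab, Ne.symm hab]
    · simp [neg, h, h', Equiv.swap_apply_of_ne_of_ne]
  have perms : ∀ a b c d, a ≠ o → b ≠ o → c ≠ o → d ≠ o → a ≠ b → a ≠ c → a ≠ d → b ≠ c → b ≠ d → c ≠ d →
      ∃ g : Cfsg.Omega F (⇑Q), f₀ g = mono (Equiv.swap a b * Equiv.swap c d) (fun _ => 1) := by
    intro a b c d ha hb hc hd hab hac had hbc hbd hcd
    set π := Equiv.swap a c * Equiv.swap b d with hπ
    have hπ2 : π * π = 1 := by
      rw [hπ]
      ext i
      simp only [Equiv.Perm.mul_apply, Equiv.Perm.one_apply]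
      by_cases h : i = a
      · subst h; simp [Equiv.swap_apply_of_ne_of_ne, hab, had, Ne.symm hbc, hcd]
      by_cases h1 : i = b
      · subst h1; simp [Equiv.swap_apply_of_ne_of_ne, Ne.symm had, Ne.symm hcd, Ne.symm hab, hbc]
      by_cases h2 : i = c
      · subst h2; simp [Equiv.swap_apply_of_ne_of_ne, Ne.symm hbc, hcd, hab, had]
      by_cases h3 : i = d
      · subst h3; simp [Equiv.swap_apply_of_ne_of_ne, Ne.symm hab, hbc, Ne.symm had, Ne.symm hcd]
      · simp [Equiv.swap_apply_of_ne_of_ne h h2, Equiv.swap_apply_of_ne_of_ne h1 h3]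
    obtain ⟨g, hg⟩ := comm (Equiv.swap a b) π (fun _ => 1) (fun _ => 1) hone hone (swapw a b ha hb)
      (fun i => by rw [hπ, Equiv.Perm.mul_apply, swapw a c ha hc, swapw b d hb hd])
      (by rw [mono_mul, Equiv.swap_mul_self, ← mono_one]; congr 1; funext j; rw [one_mul])
      (by rw [mono_mul, hπ2, ← mono_one]; congr 1; funext j; rw [one_mul])
    refine ⟨g, hg.trans ?_⟩
    simp only [mono_mul, one_mul]
    congr 1
    have hswap : π * Equiv.swap a b * π = Equiv.swap (π a) (π b) := by
      have := Equiv.swap_apply_apply π a b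
      rw [this, show π⁻¹ = π from inv_eq_of_mul_eq_one_right hπ2]
    rw [mul_assoc, mul_assoc, ← mul_assoc π, hswap]
    congr 1
    have e1 : π a = c := by rw [hπ, Equiv.Perm.mul_apply, Equiv.swap_apply_of_ne_of_ne hab had, Equiv.swap_apply_left]
    have e2 : π b = d := by
      rw [hπ, Equiv.Perm.mul_apply, Equiv.swap_apply_left, Equiv.swap_apply_of_ne_of_ne (Ne.symm had) (Ne.symm hcd)]
    rw [e1, e2]
  let f : ↥(Cfsg.Omega F (⇑Q)) →* Matrix ι ι F := f₀.comp (Cfsg.Omega F (⇑Q)).subtype
  have both : ∀ a b c d p q, a ≠ o → b ≠ o → c ≠ o → d ≠ o → p ≠ o → q ≠ o → a ≠ b → a ≠ c → a ≠ d → b ≠ c →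
      b ≠ d → c ≠ d → p ≠ q → ∃ g, f g = mono (Equiv.swap a b * Equiv.swap c d) (neg {p, q}) := by
    intro a b c d p q ha hb hc hd hp hq hab hac had hbc hbd hcd hpq
    obtain ⟨g, hg⟩ := perms a b c d ha hb hc hd hab hac had hbc hbd hcd
    obtain ⟨k, hk⟩ := signs p q hp hq hpq
    refine ⟨g * k, ?_⟩
    rw [map_mul, show f g = f₀ g from rfl, show f k = f₀ k from rfl, hg, hk, mono_mul, mul_one]
    congr 1
    funext j
    rw [one_mul]
  have hmemK : ∀ {a}, a ∈ Finset.univ.erase o ↔ a ≠ o := by simp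
  let P : Frame f :=
    { inj := fun g h e => Subtype.ext (hinj₀ e)
      center := fun x hx => by
        obtain ⟨a, -, ha⟩ := (Orth.center_omega_iff hQ hn x).1 hx
        refine ⟨a, ?_⟩
        show ((R⁻¹ * ((x.1 : Cfsg.isometryGroup F (⇑Q)) : GL ι F) * R : GL ι F) : Matrix ι ι F) = _
        rw [Units.val_mul, Units.val_mul, ha, Matrix.mul_smul, mul_one, Matrix.smul_mul, ← Units.val_mul,
          inv_mul_cancel, Units.val_one]
      K := Finset.univ.erase o
      five := by rw [Finset.card_erase_of_mem (Finset.mem_univ o), Finset.card_univ]; omega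
      out := fun i j hi hj => by
        simp only [hmemK, not_not] at hi hj
        rw [hi, hj]
      ν := e.symm.trans ((pairPerm n (n + 1) (Nat.le_succ n)).trans e)
      inv := fun i => by
        simp only [Equiv.trans_apply, Equiv.symm_apply_apply]
        rw [show pairPerm n (n + 1) (Nat.le_succ n) (pairPerm n (n + 1) (Nat.le_succ n) (e.symm i)) = e.symm i from
          Fin.ext (partner_invol n _), e.apply_symm_apply]
      ν_out := fun i hi => by
        simp only [hmemK, not_not] at hi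
        subst hi
        simp only [Equiv.trans_apply, ho, Equiv.symm_apply_apply]
        rw [show pairPerm n (n + 1) (Nat.le_succ n) (Fin.last n) = Fin.last n from
          Fin.ext (partner_out (by simp))]
      one_fixed := fun a ha b hb ea eb => by
        simp only [hmemK] at ha hb
        have ea' : pairPerm n (n + 1) (Nat.le_succ n) (e.symm a) = e.symm a :=
          e.injective ((Equiv.trans_apply _ _ _).symm.trans (ea.trans (e.apply_symm_apply a).symm))
        have eb' : pairPerm n (n + 1) (Nat.le_succ n) (e.symm b) = e.symm b :=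
          e.injective ((Equiv.trans_apply _ _ _).symm.trans (eb.trans (e.apply_symm_apply b).symm))
        have ha' : (e.symm a : ℕ) < n := Fin.val_lt_last fun h => ha (by rw [ho, ← h, e.apply_symm_apply])
        have hb' : (e.symm b : ℕ) < n := Fin.val_lt_last fun h => hb (by rw [ho, ← h, e.apply_symm_apply])
        have h1 := partner_fixed ha' (show partner n (e.symm a : ℕ) = e.symm a from congrArg Fin.val ea')
        have h2 := partner_fixed hb' (show partner n (e.symm b : ℕ) = e.symm b from congrArg Fin.val eb')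
        exact e.symm.injective (Fin.ext (by omega))
      sign_mem := fun a ha b hb h => signs a b (hmemK.1 ha) (hmemK.1 hb) h
      turn_mem := fun a ha b hb c hc d hd h => by
        simp only [List.nodup_cons, List.mem_cons, List.not_mem_nil, not_or, or_false] at h
        simp only [hmemK] at ha hb hc hd
        exact both a b c d a c ha hb hc hd ha hc h.1.1 h.1.2.1 h.1.2.2 h.2.1.1 h.2.1.2 h.2.2.1 h.1.2.1
      root_mem := fun a ha b hb c hc d hd k hk h => by
        simp only [List.nodup_cons, List.mem_cons, List.not_mem_nil, not_or, or_false] at h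
        simp only [hmemK] at ha hb hc hd hk
        exact both a b c d a k ha hb hc hd ha hk h.1.1 h.1.2.1 h.1.2.2.1 h.2.1.1 h.2.1.2.1 h.2.2.1.1 h.1.2.2.2
      outer := Or.inr fun x d hx => by
        refine ⟨fun i => ?_, ?_⟩
        · have h := hback x.1 (Pi.single i 1)
          rw [show f₀ x.1 = f x from rfl, hx, hform, hform] at h
          have hv : ∀ j, (mono 1 d *ᵥ Pi.single i (1 : F)) j = d j * (Pi.single i (1 : F) : ι → F) j := fun j => by
            simpa using mono_mulVec 1 d (Pi.single i (1 : F)) j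
          simp only [hv] at h
          rw [Finset.sum_eq_single i (fun j _ hj => by simp [Pi.single_eq_of_ne hj])
            (fun h => absurd (Finset.mem_univ i) h), Finset.sum_eq_single i (fun j _ hj => by simp [Pi.single_eq_of_ne hj])
            (fun h => absurd (Finset.mem_univ i) h)] at h
          simp only [Pi.single_eq_same, mul_one] at h
          exact (mul_eq_left₀ (hwne i)).1 h
        · have hdet : (f x).det = 1 := by
            show ((R⁻¹ * ((x.1 : Cfsg.isometryGroup F (⇑Q)) : GL ι F) * R : GL ι F) : Matrix ι ι F).det = 1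
            let D : ↥(Cfsg.isometryGroup F (⇑Q)) →* Fˣ :=
              Matrix.GeneralLinearGroup.det.comp (Cfsg.isometryGroup F (⇑Q)).subtype
            have h : Matrix.GeneralLinearGroup.det (((x.1 : Cfsg.isometryGroup F (⇑Q))) : GL ι F) = 1 :=
              Abelianization.commutator_subset_ker D x.2
            rw [← Matrix.GeneralLinearGroup.val_det_apply, map_mul, map_mul, h, mul_one, map_inv, inv_mul_cancel]
            rfl
          rw [hx, mono_diag, Matrix.det_diagonal] at hdet
          exact hdet }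
  exact P.crit h2

end Cfsg.Agent.TwoCentralSq.OrthOdd

namespace Cfsg.Agent.TwoCentralSq

variable {F : Type} [Field F] [Fintype F]

theorem crit_omega_odd (h2 : (2 : F) ≠ 0) (m : ℕ) (hm : 3 ≤ m) :
    Crit (Cfsg.POmega F (Cfsg.quadFormOdd m F)) := by
  rw [← Cfsg.Agent.Orth.coe_qOdd]
  exact OrthOdd.crit _ (Cfsg.Agent.Orth.qOdd_nondeg h2 m) h2 (by simp; omega)

theorem crit_omega_plus (h2 : (2 : F) ≠ 0) (m : ℕ) (hm : 4 ≤ m) :
    Crit (Cfsg.POmega F (Cfsg.quadFormPlus m F)) := by
  rw [← Cfsg.Agent.Orth.coe_qPlus]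
  exact OrthOdd.crit _ (Cfsg.Agent.Orth.qPlus_nondeg m) h2 (by simp; omega)

theorem crit_omega_minus (h2 : (2 : F) ≠ 0) (m : ℕ) (hm : 4 ≤ m) {a b : F}
    (hab : ∀ z₁ z₂ : F, z₁ ^ 2 + a * z₁ * z₂ + b * z₂ ^ 2 = 0 → z₁ = 0 ∧ z₂ = 0) :
    Crit (Cfsg.POmega F (Cfsg.quadFormMinus (m - 1) F a b)) := by
  rw [← Cfsg.Agent.Orth.coe_qMinus]
  exact OrthOdd.crit _ (Cfsg.Agent.Orth.qMinus_nondeg hab _) h2 (by simp; omega)

end Cfsg.Agent.TwoCentralSq
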