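import Cfsg.Agent.Lib.TwoCentralSq.Crit

/-!
The criterion for two-dimensional linear groups over fields in which two is a square: the group generated by an
element of order eight of the special linear group.
-/

set_option autoImplicit false

namespace Cfsg.Agent.TwoCentralSq

open Matrix

variable {F : Type*} [Field F]

/-- The element with trace `s`. -/
def gEl (s : F) : Matrix.SpecialLinearGroup (Fin 2) F := ⟨!![0, -1; 1, s], by simp [Matrix.det_fin_two]⟩

theorem gEl_sq {s : F} (hs : s * s = 2) :
    ((gEl s * gEl s : Matrix.SpecialLinearGroup (Fin 2) F) : Matrix (Fin 2) (Fin 2) F) = !![-1, -s; s, 1] := by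
  show !![0, -1; 1, s] * !![0, -1; 1, s] = _
  rw [Matrix.mul_fin_two]
  ext i j
  fin_cases i <;> fin_cases j <;> simp <;> linear_combination hs

theorem crit_psl_two (h2 : (2 : F) ≠ 0) {s : F} (hs : s * s = 2) :
    Crit (Matrix.ProjectiveSpecialLinearGroup (Fin 2) F) := by
  have hs0 : s ≠ 0 := fun e => h2 (by rw [← hs, e, mul_zero])
  refine crit_quot (Subgroup.center (Matrix.SpecialLinearGroup (Fin 2) F)) (Subgroup.zpowers (gEl s)) ?_ ?_
  · intro ⟨x, i, hx⟩
    refine ⟨3, Subtype.ext ?_⟩
    show x ^ 2 ^ 3 = 1
    subst hx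
    show (gEl s ^ i) ^ 2 ^ 3 = 1
    rw [← zpow_natCast, ← _root_.zpow_mul, mul_comm, _root_.zpow_mul, zpow_natCast]
    have h4 : gEl s * gEl s * (gEl s * gEl s) = -1 := by
      refine Subtype.ext ?_
      show ((gEl s * gEl s * (gEl s * gEl s) : Matrix.SpecialLinearGroup (Fin 2) F) : Matrix (Fin 2) (Fin 2) F) =
        ((-1 : Matrix.SpecialLinearGroup (Fin 2) F) : Matrix (Fin 2) (Fin 2) F)
      rw [Matrix.SpecialLinearGroup.coe_neg, Matrix.SpecialLinearGroup.coe_mul, gEl_sq hs, Matrix.mul_fin_two]
      ext i j
      fin_cases i <;> fin_cases j <;> simp <;> linear_combination -hs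
    have h8 : gEl s ^ 8 = 1 := by
      have : gEl s ^ 8 = (gEl s * gEl s * (gEl s * gEl s)) * (gEl s * gEl s * (gEl s * gEl s)) := by
        simp only [pow_succ, pow_zero, one_mul, mul_assoc]
      rw [this, h4, neg_mul_neg, one_mul]
    rw [show 2 ^ 3 = 8 from rfl, h8, _root_.one_zpow]
  · intro x hx2 hxc
    have hc := hxc (gEl s) (Subgroup.mem_zpowers _)
    rw [Matrix.SpecialLinearGroup.mem_center_iff] at hc hx2
    obtain ⟨r, hr, hr'⟩ := hc
    obtain ⟨u, hu, hu'⟩ := hx2
    have h1 : (x : Matrix (Fin 2) (Fin 2) F) * gEl s = r • ((gEl s : Matrix (Fin 2) (Fin 2) F) * x) := by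
      have e : x * gEl s = x * gEl s * x⁻¹ * (gEl s)⁻¹ * (gEl s * x) := by group
      have e' := congrArg (fun y : Matrix.SpecialLinearGroup (Fin 2) F => (y : Matrix (Fin 2) (Fin 2) F)) e
      simp only [Matrix.SpecialLinearGroup.coe_mul] at e' hr'
      rw [← hr'] at e'
      rw [e', Matrix.scalar_apply, ← Matrix.smul_one_eq_diagonal, Matrix.smul_mul, one_mul]
    obtain ⟨a, ha⟩ : ∃ a, a = (x : Matrix (Fin 2) (Fin 2) F) 0 0 := ⟨_, rfl⟩
    obtain ⟨b, hb⟩ : ∃ b, b = (x : Matrix (Fin 2) (Fin 2) F) 0 1 := ⟨_, rfl⟩
    obtain ⟨c, hc⟩ : ∃ c, c = (x : Matrix (Fin 2) (Fin 2) F) 1 0 := ⟨_, rfl⟩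
    obtain ⟨d, hd⟩ : ∃ d, d = (x : Matrix (Fin 2) (Fin 2) F) 1 1 := ⟨_, rfl⟩
    have hxm : (x : Matrix (Fin 2) (Fin 2) F) = !![a, b; c, d] := by
      rw [ha, hb, hc, hd]
      exact Matrix.eta_fin_two _
    have hdet : a * d - b * c = 1 := by
      have := x.2
      rw [Matrix.det_fin_two] at this
      rw [ha, hb, hc, hd]
      exact this
    rw [hxm, show ((gEl s : Matrix.SpecialLinearGroup (Fin 2) F) : Matrix (Fin 2) (Fin 2) F) = !![0, -1; 1, s] from rfl,
      Matrix.mul_fin_two, Matrix.mul_fin_two, Matrix.smul_of] at h1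
    have e00 := congrFun (congrFun h1 0) 0
    have e01 := congrFun (congrFun h1 0) 1
    have e10 := congrFun (congrFun h1 1) 0
    have e11 := congrFun (congrFun h1 1) 1
    simp at e00 e01 e10 e11
    have hr2 : r = 1 ∨ r = -1 := by
      have : r ^ 2 = 1 := by simpa using hr
      exact sq_eq_one_iff.1 this
    have hu2 : (x : Matrix (Fin 2) (Fin 2) F) * x = !![u, 0; 0, u] := by
      rw [Matrix.SpecialLinearGroup.coe_mul] at hu'
      rw [← hu']
      ext i j
      fin_cases i <;> fin_cases j <;> simp
    rw [hxm, Matrix.mul_fin_two] at hu2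
    have f00 := congrFun (congrFun hu2 0) 0
    have f01 := congrFun (congrFun hu2 0) 1
    have f11 := congrFun (congrFun hu2 1) 1
    simp at f00 f01 f11
    rcases hr2 with rfl | rfl
    · -- a combination of `1` and the element
      have hc' : c = -b := by linear_combination e00
      have hd' : d = a - s * b := by
        linear_combination e01
      subst hc' hd'
      have hb' : b * (2 * a - s * b) = 0 := by linear_combination f01
      rcases mul_eq_zero.1 hb' with hb0 | hb0
      · refine inSq_of_sq (a := 1) ?_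
        rw [one_mul, eq_comm, QuotientGroup.eq_one_iff, Matrix.SpecialLinearGroup.mem_center_iff]
        refine ⟨a, ?_, ?_⟩
        · rw [Fintype.card_fin]
          subst hb0
          linear_combination hdet
        · rw [hxm, hb0]
          ext i j
          fin_cases i <;> fin_cases j <;> simp
      · -- the square of the element, up to sign
        have hbs : b = s * a := by
          refine mul_left_cancel₀ hs0 ?_
          linear_combination -hb0 - a * hs
        subst hbs
        have haa : a * a = 1 := by linear_combination hdet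
        refine inSq_of_sq (a := (QuotientGroup.mk (gEl s) : Matrix.ProjectiveSpecialLinearGroup (Fin 2) F)) ?_
        rw [← QuotientGroup.mk_mul, QuotientGroup.eq, Matrix.SpecialLinearGroup.mem_center_iff]
        refine ⟨-a, by rw [Fintype.card_fin]; linear_combination haa, ?_⟩
        have e : (x : Matrix (Fin 2) (Fin 2) F) = (-a) • ((gEl s * gEl s : Matrix.SpecialLinearGroup (Fin 2) F) :
            Matrix (Fin 2) (Fin 2) F) := by
          rw [hxm, gEl_sq hs, Matrix.smul_of]
          ext i j
          fin_cases i <;> fin_cases j <;> simp <;>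
            first | (linear_combination (-a) * hs) | (linear_combination a * hs) | ring_nf
        rw [Matrix.SpecialLinearGroup.coe_mul, e, Matrix.mul_smul, ← Matrix.SpecialLinearGroup.coe_mul, inv_mul_cancel,
          Matrix.SpecialLinearGroup.coe_one, Matrix.scalar_apply, Matrix.smul_one_eq_diagonal]
    · exfalso
      have hsb : b = 0 := by
        have : s * (2 * b) = 0 := by linear_combination e01 + e10 + s * e00
        rcases mul_eq_zero.1 this with h | h
        · exact absurd h hs0
        · exact (mul_eq_zero.1 h).resolve_left h2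
      subst hsb
      have hc0 : c = 0 := by linear_combination -e00
      subst hc0
      have hd0 : d = 0 := by
        have : s * (2 * d) = 0 := by linear_combination e11
        rcases mul_eq_zero.1 this with h | h
        · exact absurd h hs0
        · exact (mul_eq_zero.1 h).resolve_left h2
      subst hd0
      simp at hdet

end Cfsg.Agent.TwoCentralSq
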