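import Cfsg.Agent.Lib.TwoCentralSq.Crit

/-!
Signed monomial matrices attached to a pairing of the coordinates, and the two-groups they form.
-/

set_option autoImplicit false
set_option linter.unusedSectionVars false

namespace Cfsg.Agent.TwoCentralSq

open Matrix

variable {ι : Type*} [Fintype ι] [DecidableEq ι] {F : Type*} [Field F]

/-- The matrix sending the `j`-th coordinate vector to `s j` times the `σ j`-th. -/
def mono (σ : Equiv.Perm ι) (s : ι → F) : Matrix ι ι F := fun i j => if σ j = i then s j else 0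

theorem mono_apply (σ : Equiv.Perm ι) (s : ι → F) (i j : ι) : mono σ s i j = if σ j = i then s j else 0 := rfl

theorem mul_mono (A : Matrix ι ι F) (σ : Equiv.Perm ι) (s : ι → F) (i j : ι) :
    (A * mono σ s) i j = A i (σ j) * s j := by
  rw [Matrix.mul_apply, Fintype.sum_eq_single (σ j) fun b hb => by rw [mono_apply, if_neg (Ne.symm hb), mul_zero],
    mono_apply, if_pos rfl]

theorem mono_mul_apply (σ : Equiv.Perm ι) (s : ι → F) (A : Matrix ι ι F) (i j : ι) :
    (mono σ s * A) (σ i) j = s i * A i j := by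
  rw [Matrix.mul_apply, Fintype.sum_eq_single i fun b hb => by
    rw [mono_apply, if_neg fun e => hb (σ.injective e), zero_mul], mono_apply, if_pos rfl]

theorem mono_mulVec (σ : Equiv.Perm ι) (s : ι → F) (v : ι → F) (i : ι) :
    (mono σ s *ᵥ v) (σ i) = s i * v i := by
  rw [Matrix.mulVec, dotProduct, Fintype.sum_eq_single i fun b hb => by
    rw [mono_apply, if_neg fun e => hb (σ.injective e), zero_mul], mono_apply, if_pos rfl]

theorem mono_mul (σ τ : Equiv.Perm ι) (s t : ι → F) :
    mono σ s * mono τ t = mono (σ * τ) fun j => s (τ j) * t j := by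
  ext i j
  rw [mul_mono, mono_apply, mono_apply, Equiv.Perm.mul_apply]
  split_ifs <;> simp

theorem mono_diag (d : ι → F) : mono 1 d = Matrix.diagonal d := by
  ext i j
  rw [mono_apply, Equiv.Perm.one_apply]
  by_cases h : i = j
  · subst h; rw [if_pos rfl, Matrix.diagonal_apply_eq]
  · rw [if_neg (Ne.symm h), Matrix.diagonal_apply_ne _ h]

theorem mono_one : mono (1 : Equiv.Perm ι) (fun _ => (1 : F)) = 1 := by rw [mono_diag, Matrix.diagonal_one]

theorem mono_det (σ : Equiv.Perm ι) (s : ι → F) :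
    (mono σ s).det = ((Equiv.Perm.sign σ : ℤ) : F) * ∏ j, s j := by
  have e : mono σ s = (σ⁻¹.permMatrix F) * Matrix.diagonal s := by
    rw [← mono_diag]
    ext i j
    rw [mul_mono, mono_apply, Equiv.Perm.one_apply, Equiv.Perm.permMatrix, PEquiv.toMatrix_apply]
    simp only [Equiv.toPEquiv_apply, Option.mem_def, Option.some.injEq]
    by_cases h : σ j = i
    · rw [if_pos h, if_pos (by rw [← h]; simp), one_mul]
    · rw [if_neg h, if_neg fun e' => h (by rw [← e']; simp), zero_mul]
  rw [e, Matrix.det_mul, Matrix.det_permutation, Matrix.det_diagonal, Equiv.Perm.sign_inv]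

/-- All entries are `1` or `-1`. -/
def IsSgn (s : ι → F) : Prop := ∀ i, s i = 1 ∨ s i = -1

theorem IsSgn.sq {s : ι → F} (h : IsSgn s) (i : ι) : s i * s i = 1 := by
  rcases h i with e | e <;> rw [e] <;> simp

theorem IsSgn.mul {s t : ι → F} (hs : IsSgn s) (ht : IsSgn t) (σ : ι → ι) : IsSgn fun i => s (σ i) * t i :=
  fun i => by rcases hs (σ i) with e | e <;> rcases ht i with e' | e' <;> simp [e, e']

/-- The permutations preserving each pair of a pairing. -/
def InPairs (ν σ : Equiv.Perm ι) : Prop := (∀ i, σ i = i ∨ σ i = ν i) ∧ ∀ i, σ (ν i) = ν (σ i)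

theorem InPairs.mul {ν σ τ : Equiv.Perm ι} (hν : ∀ i, ν (ν i) = i) (hσ : InPairs ν σ) (hτ : InPairs ν τ) :
    InPairs ν (σ * τ) := by
  refine ⟨fun i => ?_, fun i => by rw [Equiv.Perm.mul_apply, Equiv.Perm.mul_apply, hτ.2, hσ.2]⟩
  rw [Equiv.Perm.mul_apply]
  rcases hτ.1 i with e | e <;> rw [e]
  · exact hσ.1 i
  · rw [hσ.2]
    rcases hσ.1 i with e' | e' <;> rw [e']
    · exact Or.inr rfl
    · exact Or.inl (hν i)

theorem InPairs.sq {ν σ : Equiv.Perm ι} (hν : ∀ i, ν (ν i) = i) (hσ : InPairs ν σ) : σ * σ = 1 := by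
  ext i
  rw [Equiv.Perm.mul_apply, Equiv.Perm.one_apply]
  rcases hσ.1 i with e | e
  · rw [e, e]
  · rw [e, hσ.2, e, hν]

theorem inPairs_swap {ν : Equiv.Perm ι} (hν : ∀ i, ν (ν i) = i) (a : ι) : InPairs ν (Equiv.swap a (ν a)) := by
  refine ⟨fun i => ?_, fun i => ?_⟩
  · by_cases h : i = a
    · subst h; exact Or.inr (Equiv.swap_apply_left _ _)
    · by_cases h' : i = ν a
      · subst h'; exact Or.inr (by rw [Equiv.swap_apply_right, hν])
      · exact Or.inl (Equiv.swap_apply_of_ne_of_ne h h')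
  · by_cases h : i = a
    · subst h; rw [Equiv.swap_apply_right, Equiv.swap_apply_left, hν]
    · by_cases h' : i = ν a
      · subst h'; rw [Equiv.swap_apply_right, hν, Equiv.swap_apply_left]
      · rw [Equiv.swap_apply_of_ne_of_ne h h', Equiv.swap_apply_of_ne_of_ne (fun e => h' (by rw [← e, hν]))
          fun e => h (ν.injective e)]

variable {H : Type*} [Group H]

theorem pow_four_of_mem {ν : Equiv.Perm ι} (hν : ∀ i, ν (ν i) = i) {σ : Equiv.Perm ι} {s : ι → F}
    (hσ : InPairs ν σ) (hs : IsSgn s) : mono σ s * mono σ s * (mono σ s * mono σ s) = 1 := by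
  rw [mono_mul, mono_mul, hσ.sq hν, one_mul, ← mono_one]
  congr 1
  funext j
  exact (IsSgn.mul hs hs σ).sq j

/-- The elements acting as signed permutations inside the pairs. -/
def pairGroup (f : H →* Matrix ι ι F) (hf : Function.Injective f) (ν : Equiv.Perm ι) (hν : ∀ i, ν (ν i) = i) :
    Subgroup H where
  carrier := {x | ∃ σ s, InPairs ν σ ∧ IsSgn s ∧ f x = mono σ s}
  one_mem' := ⟨1, fun _ => 1, ⟨fun _ => Or.inl rfl, fun _ => rfl⟩, fun _ => Or.inl rfl, by rw [map_one, mono_one]⟩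
  mul_mem' := by
    rintro x y ⟨σ, s, hσ, hs, ex⟩ ⟨τ, t, hτ, ht, ey⟩
    exact ⟨σ * τ, _, hσ.mul hν hτ, hs.mul ht τ, by rw [map_mul, ex, ey, mono_mul]⟩
  inv_mem' := by
    rintro x ⟨σ, s, hσ, hs, ex⟩
    refine ⟨σ * σ * σ, _, (hσ.mul hν hσ).mul hν hσ, (hs.mul hs σ).mul hs σ, ?_⟩
    have h4 : x * x * (x * x) = 1 := hf (by rw [map_mul, map_mul, map_one, ex]; exact pow_four_of_mem hν hσ hs)
    rw [show x⁻¹ = x * x * x from inv_eq_of_mul_eq_one_right (by rw [← h4]; group), map_mul, map_mul, ex, mono_mul,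
      mono_mul]

theorem pairGroup_isPGroup (f : H →* Matrix ι ι F) (hf : Function.Injective f) (ν : Equiv.Perm ι)
    (hν : ∀ i, ν (ν i) = i) : IsPGroup 2 (pairGroup f hf ν hν) := by
  rintro ⟨x, σ, s, hσ, hs, ex⟩
  refine ⟨2, Subtype.ext (hf ?_)⟩
  rw [Subgroup.coe_pow, map_pow, Subgroup.coe_one, map_one]
  show f x ^ 2 ^ 2 = 1
  rw [ex, show 2 ^ 2 = 2 + 2 from rfl, pow_add, pow_two]
  exact pow_four_of_mem hν hσ hs

/-- A scalar in the group is central. -/
theorem scalar_center {f : H →* Matrix ι ι F} (hf : Function.Injective f) {x : H} {c : F}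
    (h : f x = c • (1 : Matrix ι ι F)) : x ∈ Subgroup.center H :=
  Subgroup.mem_center_iff.2 fun y => hf (by
    rw [map_mul, map_mul, h, Matrix.mul_smul, Matrix.smul_mul, mul_one, one_mul])

/-- Elements commuting up to a central element commute up to a scalar. -/
theorem twisted {f : H →* Matrix ι ι F} (hN : ∀ x ∈ Subgroup.center H, ∃ c : F, f x = c • (1 : Matrix ι ι F))
    {x r : H} (h : x * r * x⁻¹ * r⁻¹ ∈ Subgroup.center H) : ∃ w : F, f x * f r = w • (f r * f x) := by
  obtain ⟨c, hc⟩ := hN _ h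
  refine ⟨c, ?_⟩
  rw [← map_mul, show x * r = x * r * x⁻¹ * r⁻¹ * (r * x) by group, map_mul, hc, Matrix.smul_mul, one_mul, map_mul]

theorem twisted_diag {A : Matrix ι ι F} {d : ι → F} {w : F} (h : A * mono 1 d = w • (mono 1 d * A)) (i j : ι) :
    A i j * d j = w * (d i * A i j) := by
  have := congrFun (congrFun h i) j
  rw [mul_mono, Equiv.Perm.one_apply, Matrix.smul_apply, smul_eq_mul] at this
  rw [this, show (mono 1 d * A) i j = d i * A i j from mono_mul_apply 1 d A i j]

theorem exists_entry {A B : Matrix ι ι F} (h : B * A = 1) (j : ι) : ∃ i, A i j ≠ 0 := by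
  by_contra hc
  push Not at hc
  have := congrFun (congrFun h j) j
  rw [Matrix.mul_apply, Matrix.one_apply_eq, Finset.sum_eq_zero fun i _ => by rw [hc i, mul_zero]] at this
  exact zero_ne_one this

theorem f_inv_mul (f : H →* Matrix ι ι F) (x : H) : f x⁻¹ * f x = 1 := by rw [← map_mul, inv_mul_cancel, map_one]

end Cfsg.Agent.TwoCentralSq
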