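import Cfsg.Agent.Lib.TwoCentralSq.Crit
import Cfsg.Agent.Lib.TwoCentralSq.Mono
import Cfsg.Agent.Lib.AutPSp.Basic

/-!
The symplectic groups of odd characteristic: quaternion groups on the hyperbolic planes.
-/

set_option autoImplicit false
set_option linter.unusedSectionVars false
set_option linter.unusedSimpArgs false
set_option linter.style.haveILetI false

namespace Cfsg.Agent.TwoCentralSq.Symp

open Matrix

variable {F : Type*} [Field F] {m : ℕ}

/-- The eight signed products of two anticommuting roots of minus one. -/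
def quat {A : Type*} [Ring A] (J K : A) : Set A := {1, -1, J, -J, K, -K, J * K, -(J * K)}

theorem quat_mul {A : Type*} [Ring A] {J K : A} (hJ : J * J = -1) (hK : K * K = -1) (hKJ : K * J = -(J * K))
    {x y : A} (hx : x ∈ quat J K) (hy : y ∈ quat J K) : x * y ∈ quat J K := by
  have hJ' : ∀ z, J * (J * z) = -z := fun z => by rw [← mul_assoc, hJ, neg_one_mul]
  have hK' : ∀ z, K * (K * z) = -z := fun z => by rw [← mul_assoc, hK, neg_one_mul]
  have hKJ' : ∀ z, K * (J * z) = -(J * (K * z)) := fun z => by rw [← mul_assoc, hKJ, neg_mul, mul_assoc]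
  simp only [quat, Set.mem_insert_iff, Set.mem_singleton_iff] at hx hy ⊢
  rcases hx with rfl | rfl | rfl | rfl | rfl | rfl | rfl | rfl <;>
    rcases hy with rfl | rfl | rfl | rfl | rfl | rfl | rfl | rfl <;>
    simp [mul_assoc, hJ, hK, hKJ, hJ', hK', hKJ']

theorem quat_four {A : Type*} [Ring A] {J K : A} (hJ : J * J = -1) (hK : K * K = -1) (hKJ : K * J = -(J * K))
    {x : A} (hx : x ∈ quat J K) : x * x * (x * x) = 1 := by
  have hK' : ∀ z, K * (K * z) = -z := fun z => by rw [← mul_assoc, hK, neg_one_mul]
  have hKJ' : ∀ z, K * (J * z) = -(J * (K * z)) := fun z => by rw [← mul_assoc, hKJ, neg_mul, mul_assoc]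
  have hJ' : ∀ z, J * (J * z) = -z := fun z => by rw [← mul_assoc, hJ, neg_one_mul]
  simp only [quat, Set.mem_insert_iff, Set.mem_singleton_iff] at hx
  rcases hx with rfl | rfl | rfl | rfl | rfl | rfl | rfl | rfl <;>
    simp [mul_assoc, hJ, hK, hKJ, hJ', hK', hKJ']

/-- The quarter turn of a plane. -/
def rotJ (F : Type*) [Field F] : Matrix (Fin 2) (Fin 2) F := !![0, -1; 1, 0]

/-- The second root of minus one. -/
def rotK (a b : F) : Matrix (Fin 2) (Fin 2) F := !![a, b; b, -a]

theorem rotJ_sq : rotJ F * rotJ F = -1 := by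
  ext i j; fin_cases i <;> fin_cases j <;> simp [rotJ, Matrix.mul_apply, Fin.sum_univ_two]

theorem rotK_sq {a b : F} (h : a * a + b * b = -1) : rotK a b * rotK a b = -1 := by
  ext i j; fin_cases i <;> fin_cases j <;> simp [rotK, Matrix.mul_apply, Fin.sum_univ_two] <;>
    first | linear_combination h | ring

theorem rot_anti (a b : F) : rotK a b * rotJ F = -(rotJ F * rotK a b) := by
  ext i j; fin_cases i <;> fin_cases j <;> simp [rotJ, rotK, Matrix.mul_apply, Fin.sum_univ_two]

theorem det_quat {a b : F} (h : a * a + b * b = -1) {x : Matrix (Fin 2) (Fin 2) F}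
    (hx : x ∈ quat (rotJ F) (rotK a b)) : x.det = 1 := by
  simp only [quat, Set.mem_insert_iff, Set.mem_singleton_iff] at hx
  rcases hx with rfl | rfl | rfl | rfl | rfl | rfl | rfl | rfl <;>
    simp [rotJ, rotK, Matrix.det_fin_two, Matrix.mul_apply, Fin.sum_univ_two] <;> linear_combination -h

/-- The matrix acting on each plane by the given block. -/
def blk (B : Fin m → Matrix (Fin 2) (Fin 2) F) : Matrix (Fin m ⊕ Fin m) (Fin m ⊕ Fin m) F :=
  Matrix.fromBlocks (diagonal fun j => B j 0 0) (diagonal fun j => B j 0 1) (diagonal fun j => B j 1 0)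
    (diagonal fun j => B j 1 1)

theorem blk_mul (B C : Fin m → Matrix (Fin 2) (Fin 2) F) : blk B * blk C = blk (B * C) := by
  rw [blk, blk, blk, Matrix.fromBlocks_multiply]
  simp only [diagonal_mul_diagonal, diagonal_add, Pi.mul_apply, Matrix.mul_apply, Fin.sum_univ_two]

theorem blk_one : blk (1 : Fin m → Matrix (Fin 2) (Fin 2) F) = 1 := by
  rw [blk, ← Matrix.fromBlocks_one]
  congr 1 <;> ext i j <;> simp [Matrix.diagonal_apply, Matrix.one_apply]

theorem blk_mem {B : Fin m → Matrix (Fin 2) (Fin 2) F} (h : ∀ j, (B j).det = 1) :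
    blk B ∈ Matrix.symplecticGroup (Fin m) F := by
  rw [SymplecticGroup.mem_iff]
  simp only [blk, Matrix.J, Matrix.fromBlocks_transpose, diagonal_transpose, Matrix.fromBlocks_multiply,
    Matrix.mul_zero, Matrix.mul_one, mul_neg, zero_add, add_zero, neg_mul, diagonal_mul_diagonal]
  congr 1 <;> ext i k <;> by_cases e : i = k
  all_goals first
    | (subst e; have := h i; rw [Matrix.det_fin_two] at this; simp; linear_combination this)
    | (subst e; have := h i; rw [Matrix.det_fin_two] at this; simp; linear_combination -this)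
    | (subst e; simp; ring)
    | simp [e]

local notation "Spm" => Matrix.symplecticGroup (Fin m) F

/-- The product of the quaternion groups. -/
def quatGroup {a b : F} (h : a * a + b * b = -1) : Subgroup Spm where
  carrier := {x | ∃ B : Fin m → Matrix (Fin 2) (Fin 2) F, (∀ j, B j ∈ quat (rotJ F) (rotK a b)) ∧ x.1 = blk B}
  one_mem' := ⟨1, fun j => by simp [quat], blk_one.symm⟩
  mul_mem' := by
    rintro x y ⟨B, hB, ex⟩ ⟨C, hC, ey⟩
    exact ⟨B * C, fun j => quat_mul rotJ_sq (rotK_sq h) (rot_anti a b) (hB j) (hC j), by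
      show x.1 * y.1 = _; rw [ex, ey, blk_mul]⟩
  inv_mem' := by
    rintro x ⟨B, hB, ex⟩
    have h4 : x * x * (x * x) = 1 := Subtype.ext (by
      show x.1 * x.1 * (x.1 * x.1) = 1
      rw [ex, blk_mul, blk_mul, ← blk_one]
      exact congrArg blk (funext fun j => quat_four rotJ_sq (rotK_sq h) (rot_anti a b) (hB j)))
    refine ⟨B * B * B, fun j => quat_mul rotJ_sq (rotK_sq h) (rot_anti a b)
      (quat_mul rotJ_sq (rotK_sq h) (rot_anti a b) (hB j) (hB j)) (hB j), ?_⟩
    rw [show x⁻¹ = x * x * x from inv_eq_of_mul_eq_one_right (by rw [← h4]; group)]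
    show x.1 * x.1 * x.1 = _
    rw [ex, blk_mul, blk_mul]

theorem quatGroup_isPGroup {a b : F} (h : a * a + b * b = -1) : IsPGroup 2 (quatGroup (m := m) h) := by
  rintro ⟨x, B, hB, ex⟩
  refine ⟨2, Subtype.ext (Subtype.ext ?_)⟩
  show x.1 ^ 2 ^ 2 = 1
  rw [show 2 ^ 2 = 2 + 2 from rfl, pow_add, pow_two, ex, blk_mul, blk_mul, ← blk_one]
  exact congrArg blk (funext fun j => quat_four rotJ_sq (rotK_sq h) (rot_anti a b) (hB j))

/-- The four entries of a matrix at two plane indices. -/
def quad (A : Matrix (Fin m ⊕ Fin m) (Fin m ⊕ Fin m) F) (i k : Fin m) : Matrix (Fin 2) (Fin 2) F :=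
  !![A (.inl i) (.inl k), A (.inl i) (.inr k); A (.inr i) (.inl k), A (.inr i) (.inr k)]

theorem quad_blk_mul (B : Fin m → Matrix (Fin 2) (Fin 2) F) (A : Matrix (Fin m ⊕ Fin m) (Fin m ⊕ Fin m) F)
    (i k : Fin m) : quad (blk B * A) i k = B i * quad A i k := by
  ext r s
  fin_cases r <;> fin_cases s <;>
    simp [quad, blk, Matrix.mul_apply, Fintype.sum_sum_type, Fin.sum_univ_two, Matrix.diagonal_apply]

theorem quad_mul_blk (B : Fin m → Matrix (Fin 2) (Fin 2) F) (A : Matrix (Fin m ⊕ Fin m) (Fin m ⊕ Fin m) F)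
    (i k : Fin m) : quad (A * blk B) i k = quad A i k * B k := by
  ext r s
  fin_cases r <;> fin_cases s <;>
    simp [quad, blk, Matrix.mul_apply, Fintype.sum_sum_type, Fin.sum_univ_two, Matrix.diagonal_apply]

theorem det_sq_of_twist {M Q : Matrix (Fin 2) (Fin 2) F} {w : F} (hQ : Q.det ≠ 0) (h : Q = w • (M * Q)) :
    w • M = 1 := by
  have hu : IsUnit Q.det := isUnit_iff_ne_zero.2 hQ
  have := congrArg (· * Q⁻¹) h
  simp only [Matrix.smul_mul, Matrix.mul_nonsing_inv_cancel_right _ _ hu, Matrix.mul_nonsing_inv _ hu] at this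
  exact this.symm

/-- The symplectic groups. -/
theorem crit {a b : F} (hab : a * a + b * b = -1) (h2 : (2 : F) ≠ 0) (hm : 2 ≤ m) :
    Crit (Spm ⧸ Subgroup.center Spm) := by
  classical
  refine crit_quot _ (quatGroup hab) (quatGroup_isPGroup hab) fun x _ hc => ?_
  -- commuting up to a scalar with the single-plane elements
  have tw : ∀ (j : Fin m) (M : Matrix (Fin 2) (Fin 2) F), M ∈ quat (rotJ F) (rotK a b) →
      ∃ w : F, x.1 * blk (Function.update 1 j M) = w • (blk (Function.update 1 j M) * x.1) := by
    intro j M hM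
    have hB : ∀ k, (Function.update 1 j M : Fin m → Matrix (Fin 2) (Fin 2) F) k ∈ quat (rotJ F) (rotK a b) := by
      intro k
      by_cases e : k = j
      · subst e; rwa [Function.update_self]
      · rw [Function.update_of_ne e]; simp [quat]
    let r : Spm := ⟨_, blk_mem fun k => det_quat hab (hB k)⟩
    obtain ⟨c, hcc⟩ := (AutPSp.mem_center_iff _).1 (hc r ⟨_, hB, rfl⟩)
    refine ⟨c, ?_⟩
    have e : (x * r : Spm) = x * r * x⁻¹ * r⁻¹ * (r * x) := by group
    have e' := congrArg Subtype.val e
    refine Matrix.ext_of_mulVec_single fun i => ?_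
    show (x * r : Spm).1 *ᵥ _ = _
    rw [e, Matrix.smul_mulVec]
    exact (AutPSp.act_mul _ _ _).trans (hcc _)
  set A := x.1 with hA
  have hinv : (x⁻¹ : Spm).1 * A = 1 := congrArg Subtype.val (inv_mul_cancel x)
  -- the scalars are one, and the planes are invariant
  have key : ∀ (j : Fin m) (M : Matrix (Fin 2) (Fin 2) F), M ∈ quat (rotJ F) (rotK a b) → (M - 1).det ≠ 0 →
      (∀ w : F, w • M ≠ 1) → (∀ i, i ≠ j → quad A i j = 0 ∧ quad A j i = 0) ∧ quad A j j * M = M * quad A j j := by
    intro j M hM hM1 hMw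
    obtain ⟨w, hw⟩ := tw j M hM
    set B : Fin m → Matrix (Fin 2) (Fin 2) F := Function.update 1 j M with hB
    have ent : ∀ i k, quad A i k * B k = w • (B i * quad A i k) := fun i k => by
      rw [← quad_mul_blk, hw, ← quad_blk_mul]
      ext r s
      fin_cases r <;> fin_cases s <;> simp [quad]
    have hBj : B j = M := Function.update_self _ _ _
    have hBn : ∀ i, i ≠ j → B i = 1 := fun i h => Function.update_of_ne h _ _
    have hw1 : w = 1 := by
      by_contra hne
      obtain ⟨k, hk⟩ : ∃ k, k ≠ j := Fintype.exists_ne_of_one_lt_card (by simpa using (show 1 < m by omega)) j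
      have hz : ∀ i, i ≠ j → quad A i k = 0 := fun i hi => by
        have := ent i k
        rw [hBn k hk, hBn i hi, mul_one, one_mul] at this
        have h0 : (1 - w) • quad A i k = 0 := by rw [sub_smul, one_smul, ← this, sub_self]
        exact (smul_eq_zero.1 h0).resolve_left (sub_ne_zero.2 (Ne.symm hne))
      have hfix := ent j k
      rw [hBn k hk, hBj, mul_one] at hfix
      refine hMw w (det_sq_of_twist (fun hdet => ?_) hfix)
      obtain ⟨v, hv0, hv⟩ := Matrix.exists_mulVec_eq_zero_iff.2 hdet
      let u : Fin m ⊕ Fin m → F := Sum.elim (Pi.single k (v 0)) (Pi.single k (v 1))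
      have hu : A *ᵥ u = 0 := funext fun p => by
        simp only [Matrix.mulVec, dotProduct, Fintype.sum_sum_type, u, Sum.elim_inl, Sum.elim_inr,
          Pi.single_apply, mul_ite, mul_zero, Finset.sum_ite_eq', Finset.mem_univ, if_true, Pi.zero_apply]
        rcases p with i | i <;> by_cases hi : i = j
        · have := congrFun hv 0
          simpa [quad, hi, Matrix.mulVec, dotProduct, Fin.sum_univ_two] using this
        · have h0 := congrFun (congrFun (hz i hi) 0) 0
          have h1 := congrFun (congrFun (hz i hi) 0) 1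
          simp [quad] at h0 h1
          simp [h0, h1]
        · have := congrFun hv 1
          simpa [quad, hi, Matrix.mulVec, dotProduct, Fin.sum_univ_two] using this
        · have h0 := congrFun (congrFun (hz i hi) 1) 0
          have h1 := congrFun (congrFun (hz i hi) 1) 1
          simp [quad] at h0 h1
          simp [h0, h1]
      have hu0 : u = 0 := by rw [← Matrix.one_mulVec u, ← hinv, ← Matrix.mulVec_mulVec, hu, Matrix.mulVec_zero]
      refine hv0 (funext fun r => ?_)
      fin_cases r
      · simpa [u] using congrFun hu0 (.inl k)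
      · simpa [u] using congrFun hu0 (.inr k)
    simp only [hw1, one_smul] at ent
    have hu : IsUnit (M - 1).det := isUnit_iff_ne_zero.2 hM1
    refine ⟨fun i hi => ⟨?_, ?_⟩, by have := ent j j; rwa [hBj] at this⟩
    · have := ent i j
      rw [hBj, hBn i hi, one_mul] at this
      have h0 : quad A i j * (M - 1) = 0 := by rw [mul_sub, this, mul_one, sub_self]
      rw [← Matrix.mul_nonsing_inv_cancel_right (M - 1) (quad A i j) hu, h0, Matrix.zero_mul]
    · have := ent j i
      rw [hBj, hBn i hi, mul_one] at this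
      have h0 : (M - 1) * quad A j i = 0 := by rw [sub_mul, ← this, one_mul, sub_self]
      rw [← Matrix.nonsing_inv_mul_cancel_left (M - 1) (quad A j i) hu, h0, Matrix.mul_zero]
  have hJ : rotJ F ∈ quat (rotJ F) (rotK a b) := by simp [quat]
  have hK : rotK a b ∈ quat (rotJ F) (rotK a b) := by simp [quat]
  have hJ1 : (rotJ F - 1).det ≠ 0 := by simp [rotJ, Matrix.det_fin_two]; intro e; exact h2 (by linear_combination e)
  have hK1 : (rotK a b - 1).det ≠ 0 := by
    simp [rotK, Matrix.det_fin_two]; intro e; exact h2 (by linear_combination e + hab)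
  have hJw : ∀ w : F, w • rotJ F ≠ 1 := fun w e => by
    simpa [rotJ] using congrFun (congrFun e 0) 0
  have hKw : ∀ w : F, w • rotK a b ≠ 1 := fun w e => by
    have e0 := congrFun (congrFun e 0) 0
    have e1 := congrFun (congrFun e 1) 1
    simp [rotK] at e0 e1
    exact h2 (by linear_combination -e0 - e1)
  have hscal : ∀ j, quad A j j = A (.inl j) (.inl j) • 1 := by
    intro j
    have e1 := (key j _ hJ hJ1 hJw).2
    have e2 := (key j _ hK hK1 hKw).2
    have q1 := congrFun (congrFun e1 0) 0
    have q2 := congrFun (congrFun e1 0) 1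
    have q3 := congrFun (congrFun e2 0) 0
    have q4 := congrFun (congrFun e2 0) 1
    simp [quad, rotJ, rotK, Matrix.mul_apply, Fin.sum_univ_two] at q1 q2 q3 q4
    have hQ : A (.inl j) (.inr j) = 0 := by
      by_cases ha : a = 0
      · subst ha
        have hb : b ≠ 0 := fun e => by rw [e] at hab; simp at hab
        have : 2 * b * A (.inl j) (.inr j) = 0 := by linear_combination q3 + b * q1
        simpa [h2, hb] using this
      · have : 2 * a * A (.inl j) (.inr j) = 0 := by linear_combination -q4 + b * q2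
        simpa [h2, ha] using this
    ext r s
    fin_cases r <;> fin_cases s <;> simp [quad]
    · exact hQ
    · linear_combination q1 - hQ
    · linear_combination -q2
  have hblk : A = blk fun j => A (.inl j) (.inl j) • 1 := by
    have he : ∀ i k, quad A i k = quad (blk fun j => A (.inl j) (.inl j) • 1) i k := by
      intro i k
      by_cases h : i = k
      · subst h
        rw [hscal]
        ext r s
        fin_cases r <;> fin_cases s <;> simp [quad, blk]
      · rw [((key k _ hJ hJ1 hJw).1 i h).1]
        ext r s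
        fin_cases r <;> fin_cases s <;> simp [quad, blk, h]
    ext p q
    rcases p with i | i <;> rcases q with k | k
    · simpa [quad] using congrFun (congrFun (he i k) 0) 0
    · simpa [quad] using congrFun (congrFun (he i k) 0) 1
    · simpa [quad] using congrFun (congrFun (he i k) 1) 0
    · simpa [quad] using congrFun (congrFun (he i k) 1) 1
  set d : Fin m → F := fun j => A (.inl j) (.inl j) with hd
  have hdsq : ∀ j, d j * d j = 1 := by
    intro j
    have hm' : A ∈ Matrix.symplecticGroup (Fin m) F := x.2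
    rw [hblk, SymplecticGroup.mem_iff] at hm'
    simp only [blk, Matrix.J, Matrix.fromBlocks_transpose, diagonal_transpose, Matrix.fromBlocks_multiply,
      Matrix.mul_zero, Matrix.mul_one, mul_neg, zero_add, add_zero, neg_mul, diagonal_mul_diagonal] at hm'
    have := congrFun (congrFun hm' (.inr j)) (.inl j)
    simpa [hd] using this
  have hQr : ∀ j, (if d j = 1 then 1 else rotJ F) ∈ quat (rotJ F) (rotK a b) := fun j => by
    split_ifs <;> simp [quat]
  let r : Spm := ⟨blk fun j => if d j = 1 then 1 else rotJ F, blk_mem fun j => det_quat hab (hQr j)⟩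
  have hrr : r * r = x := Subtype.ext (by
    show blk _ * blk _ = A
    rw [blk_mul, hblk]
    refine congrArg blk (funext fun j => ?_)
    show (if d j = 1 then 1 else rotJ F) * (if d j = 1 then 1 else rotJ F) = d j • 1
    by_cases e : d j = 1
    · rw [if_pos e, e, one_mul, one_smul]
    · rcases mul_self_eq_one_iff.1 (hdsq j) with e' | e'
      · exact absurd e' e
      · rw [if_neg e, rotJ_sq, e', neg_one_smul])
  exact inSq_of_sq (a := (QuotientGroup.mk r : Spm ⧸ Subgroup.center Spm)) (by rw [← QuotientGroup.mk_mul, hrr])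

end Cfsg.Agent.TwoCentralSq.Symp

namespace Cfsg.Agent.TwoCentralSq

theorem crit_psp {F : Type*} [Field F] [Finite F] (h2 : (2 : F) ≠ 0) (m : ℕ) (hm : 2 ≤ m) :
    Crit (Cfsg.PSp m F) := by
  haveI : NeZero (ringChar F) := ⟨CharP.ringChar_ne_zero_of_finite F⟩
  obtain ⟨a, b, hab⟩ := CharP.sq_add_sq F (ringChar F) (-1)
  exact Symp.crit (a := (a : F)) (b := (b : F)) (by
    simpa [pow_two] using hab) h2 hm

end Cfsg.Agent.TwoCentralSq
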