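import Cfsg.Agent.Lib.TwoCentralSq.TwCrit
import Cfsg.Agent.Lib.Lie.TwE6
import Cfsg.Agent.Lib.Lie.TwD4
import Cfsg.Agent.Lib.Lie.GoodW

/-!
The criterion for the groups `²E₆(q)` and `³D₄(q)`, `q` odd.
-/

set_option autoImplicit false
set_option maxRecDepth 20000

namespace Cfsg.Agent.TwoCentralSq

open Cfsg.Lie Cfsg.Agent.Chev Cfsg.Agent.Chev.Tab Cfsg.Agent.ChevOdd

variable {F : Type*} [Field F] [Fintype F] {q : ℕ}

/-- Candidates for the images of the fundamental roots of the twisted E6. -/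
def candTwE6 : List (List ℕ) := [
  [15, 35, 36, 56], [2, 6, 18, 25, 46, 53, 65, 69], [29, 34, 37, 42], [0, 11, 27, 32, 39, 44, 60, 71],
  [29, 34, 37, 42], [15, 35, 36, 56]]

/-- Decompositions for the weight masks of the twisted E6. -/
def epsTwE6 : List (List (List ℕ × ℕ)) := [
  [], [], [([], 1), ([], 3)], [],
  [], [], [], [],
  [([], 0)], [], [([], 3), ([0], 1)], [],
  [], [], [], [],
  [], [], [], [],
  [([], 3)], [], [([], 1)], [],
  [], [], [], [],
  [([], 0), ([], 3)], [], [([0], 1)], [],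
  [], [([], 2)], [], [([3, 2], 1)],
  [], [], [], [],
  [], [([], 0), ([], 2)], [], [([0], 1), ([3, 1], 2)],
  [], [], [], [],
  [], [], [], [],
  [], [([2], 3)], [], [([2], 1)],
  [], [], [], [],
  [], [([], 0), ([2], 3)], [], [([0], 1), ([1], 2)]]

theorem goodWE6' : E6Data.tab.GoodW [[4, 3, 5, 6, 4, 2], [3, 6, 6, 9, 6, 3], [5, 6, 10, 12, 8, 4], [6, 9, 12, 18, 12, 6], [4, 6, 8, 12, 10, 5], [2, 3, 4, 6, 5, 4]]
    [(16, 66, 0), (1, 71, 0), (5, 69, 0), (2, 70, 0), (3, 69, 0), (4, 68, 0)] :=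
  ⟨⟨⟨E6Data.good, by decide +kernel⟩, by decide +kernel⟩, by decide +kernel⟩

theorem hM_memTwE6 (hq : IsPrimePow q) (hK : Fintype.card F = q ^ 2) {m : ℕ} (hm : m ∈ ([2, 8, 20, 33] : List ℕ)) :
    hM E6Data.tab F m ∈ TwE6.tw F q := by
  have hneg : (-1 : Fˣ) ^ q = -1 := Units.ext (by
    rw [Units.val_pow_eq_pow_val, Units.val_neg, Units.val_one]
    exact TwE6.neg_one_pow hq hK)
  refine TwE6.fix_mem hq hK (c := sgn F m) ?_
  show sgn F m 1 ^ q = sgn F m 1 ∧ sgn F m 3 ^ q = sgn F m 3 ∧ sgn F m 0 ^ q = sgn F m 5 ∧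
    sgn F m 5 ^ q = sgn F m 0 ∧ sgn F m 2 ^ q = sgn F m 4 ∧ sgn F m 4 ^ q = sgn F m 2
  simp only [List.mem_cons, List.not_mem_nil, or_false] at hm
  rcases hm with rfl | rfl | rfl | rfl <;> simp [sgn, Nat.testBit, Nat.shiftRight_eq_div_pow, hneg]

theorem twOKE6 (hq : IsPrimePow q) (hK : Fintype.card F = q ^ 2) :
    TwOK (TwE6.X hq hK) [2, 8, 20, 33] candTwE6 epsTwE6 1 where
  pairs := by decide +kernel
  lin := by decide +kernel
  sep := by decide +kernel
  cand := by
    show checkCand E6Data.tab (fun r => E6Data.sym.π.getD r 0) [2, 8, 20, 33] candTwE6 = true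
    decide +kernel
  search := by decide +kernel
  eps := by
    show checkTwEps E6Data.tab (fun r => E6Data.sym.π.getD r 0) TwE6.wd 4 epsTwE6 = true
    decide +kernel
  block := by
    show checkBlockOrth E6Data.tab TwE6.wd 4 = true
    decide +kernel
  lt := by decide +kernel
  odd := by decide +kernel
  mid := by
    show E6Data.sym.π.getD (E6Data.tab.smp 1) 0 = E6Data.tab.smp 1 ∧
      E6Data.sym.π.getD (E6Data.tab.neg (E6Data.tab.smp 1)) 0 = E6Data.tab.neg (E6Data.tab.smp 1)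
    decide +kernel
  n_eq _ _ := rfl
  φ_odd r _ t := by
    show ((E6Data.sym.ζ.getD r 1 : ℤ) : F) * TwE6.psi hq hK (-t) =
      -(((E6Data.sym.ζ.getD r 1 : ℤ) : F) * TwE6.psi hq hK t)
    rw [map_neg, mul_neg]
  masks _ hm := hM_memTwE6 hq hK hm

/-- The criterion for the twisted E6. -/
theorem crit_twE6 (hq : IsPrimePow q) (hK : Fintype.card F = q ^ 2) (h2 : (2 : F) ≠ 0) :
    Crit ↥(twistedE6 F q) := by
  refine crit_twisted (twOKE6 hq hK) goodWE6' h2
    (F₀ := ↥((TwE6.psi hq hK).eqLocusField (RingHom.id F))) (Subfield.subtype _) fun t => ?_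
  have ht : (t : F) ^ q = t := by
    have h := RingHom.mem_eqLocusField.1 t.2
    rwa [TwE6.psi_apply, RingHom.id_apply] at h
  exact TwE6.mid_mem (Or.inl rfl) ht

/-- Candidates for the images of the fundamental roots of the twisted D4. -/
def candTwD4 : List (List ℕ) := [
  [5, 10, 11, 12, 13, 18], [9, 14], [5, 10, 11, 12, 13, 18], [5, 10, 11, 12, 13, 18]]

/-- Decompositions for the weight masks of the twisted D4. -/
def epsTwD4 : List (List (List ℕ × ℕ)) := [
  [], [], [([], 1)], [],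
  [], [], [], [],
  [], [], [], [],
  [], [([], 0)], [], [([0], 1)]]

theorem goodWD4' : D4Data.tab.GoodW [[4, 4, 2, 2], [4, 8, 4, 4], [2, 4, 4, 2], [2, 4, 2, 4]]
    [(6, 22, 0), (1, 23, 0), (3, 22, 0), (2, 22, 0)] :=
  ⟨⟨⟨D4Data.good, by decide +kernel⟩, by decide +kernel⟩, by decide +kernel⟩

theorem hM_memTwD4 (hq : IsPrimePow q) (hK : Fintype.card F = q ^ 3) {m : ℕ} (hm : m ∈ ([2, 13] : List ℕ)) :
    hM D4Data.tab F m ∈ TwD4.tw F q := by
  have hneg : (-1 : Fˣ) ^ q = -1 := Units.ext (by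
    rw [Units.val_pow_eq_pow_val, Units.val_neg, Units.val_one]
    exact TwD4.neg_one_pow hq hK)
  have h1 : ((-1 : Fˣ) : F) ^ q = ((-1 : Fˣ) : F) := by
    rw [Units.val_neg, Units.val_one]; exact TwD4.neg_one_pow hq hK
  simp only [List.mem_cons, List.not_mem_nil, or_false] at hm
  rcases hm with rfl | rfl
  · have := TwD4.par_mem hq hK ((1 : Fˣ), ⟨(-1 : Fˣ), h1⟩)
    rw [hM]
    convert this using 1
    refine tor_congr TwD4.g0 fun j hj => ?_
    change j < 4 at hj
    interval_cases j <;> simp [sgn, TwD4.par, Nat.testBit, Nat.shiftRight_eq_div_pow]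
  · have := TwD4.par_mem hq hK ((-1 : Fˣ), ⟨(1 : Fˣ), by simp⟩)
    rw [hM]
    convert this using 1
    refine tor_congr TwD4.g0 fun j hj => ?_
    change j < 4 at hj
    interval_cases j <;> simp [sgn, TwD4.par, Nat.testBit, Nat.shiftRight_eq_div_pow, hneg]

theorem twOKD4 (hq : IsPrimePow q) (hK : Fintype.card F = q ^ 3) :
    TwOK (TwD4.X hq hK) [2, 13] candTwD4 epsTwD4 1 where
  pairs := by decide +kernel
  lin := by decide +kernel
  sep := by decide +kernel
  cand := by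
    show checkCand D4Data.tab (fun r => D4Data.symA.π.getD r 0) [2, 13] candTwD4 = true
    decide +kernel
  search := by decide +kernel
  eps := by
    show checkTwEps D4Data.tab (fun r => D4Data.symA.π.getD r 0) TwD4.wd 2 epsTwD4 = true
    decide +kernel
  block := by
    show checkBlockOrth D4Data.tab TwD4.wd 2 = true
    decide +kernel
  lt := by decide +kernel
  odd := by decide +kernel
  mid := by
    show D4Data.symA.π.getD (D4Data.tab.smp 1) 0 = D4Data.tab.smp 1 ∧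
      D4Data.symA.π.getD (D4Data.tab.neg (D4Data.tab.smp 1)) 0 = D4Data.tab.neg (D4Data.tab.smp 1)
    decide +kernel
  n_eq _ _ := rfl
  φ_odd r _ t := by
    show ((D4Data.symA.ζ.getD r 1 : ℤ) : F) * TwD4.psi hq hK (-t) =
      -(((D4Data.symA.ζ.getD r 1 : ℤ) : F) * TwD4.psi hq hK t)
    rw [map_neg, mul_neg]
  masks _ hm := hM_memTwD4 hq hK hm

/-- The criterion for the twisted D4. -/
theorem crit_twD4 (hq : IsPrimePow q) (hK : Fintype.card F = q ^ 3) (h2 : (2 : F) ≠ 0) :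
    Crit ↥(twistedD4 F q) := by
  refine crit_twisted (twOKD4 hq hK) goodWD4' h2
    (F₀ := ↥((TwD4.psi hq hK).eqLocusField (RingHom.id F))) (Subfield.subtype _) fun t => ?_
  have ht : (t : F) ^ q = t := by
    have h := RingHom.mem_eqLocusField.1 t.2
    rwa [TwD4.psi_apply, RingHom.id_apply] at h
  have e : D4Data.tab.smp 1 = d4p2 ∧ D4Data.tab.neg (D4Data.tab.smp 1) = d4m2 := by decide +kernel
  exact ⟨TwD4.mid_mem (Or.inl e.1) ht, TwD4.mid_mem (Or.inr e.2) ht⟩

end Cfsg.Agent.TwoCentralSq
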