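import Cfsg.Agent.Lib.TwoCentralSq.Alt
import Cfsg.Agent.Lib.TwoCentralSq.PSL2
import Cfsg.Agent.Lib.TwoCentralSq.Linear
import Cfsg.Agent.Lib.TwoCentralSq.Symp
import Cfsg.Agent.Lib.TwoCentralSq.Orth
import Cfsg.Agent.Lib.TwoCentralSq.ChevMaskData
import Cfsg.Agent.Lib.TwoCentralSq.ChevAdjData
import Cfsg.Agent.Lib.TwoCentralSq.TwData
import Cfsg.Prelude.Def_LieTypeChar

/-!
The groups satisfying the criterion, and the two exceptions with small Sylow two-subgroups.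
-/

set_option autoImplicit false

namespace Cfsg.Agent.TwoCentralSq

universe u

/-- Every group of Lie type in odd characteristic satisfies the criterion, except `PSL₂` over a field in which two is
not a square and the Ree groups. -/
theorem lie_cases {G : Type u} [Group G] {p : ℕ} (hp : p.Prime) (hp2 : p ≠ 2) (h : Cfsg.IsLieTypeChar p G) :
    Crit G ∨
      (∃ (K : Type) (_ : Field K) (_ : Fintype K), 4 ≤ Fintype.card K ∧ (2 : K) ≠ 0 ∧ ¬ IsSquare (2 : K) ∧
        Nonempty (G ≃* Matrix.ProjectiveSpecialLinearGroup (Fin 2) K)) ∨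
      Cfsg.Lie.IsoRee G := by
  have two : ∀ (K : Type) [Field K] [CharP K p], (2 : K) ≠ 0 := fun K _ _ e => by
    have := (CharP.cast_eq_zero_iff K p 2).1 (by exact_mod_cast e)
    exact hp2 ((Nat.prime_dvd_prime_iff_eq hp Nat.prime_two).1 this)
  have odd : ∀ (K : Type) [Field K] [CharP K p] [Fintype K], Odd (Fintype.card K) := fun K _ _ _ => by
    obtain ⟨n, -, hn⟩ := FiniteField.card K p
    rw [hn]
    exact (hp.odd_of_ne_two hp2).pow
  rcases h with h | h | h | h | h | h | h | h | h | h | h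
  · obtain ⟨K, _, _, _, n, hn, h4, ⟨e⟩⟩ := h
    rcases Nat.lt_or_ge n 3 with h3 | h3
    · obtain rfl : n = 2 := by omega
      by_cases hs : IsSquare (2 : K)
      · obtain ⟨s, hs⟩ := hs
        exact Or.inl (crit_congr e.symm (crit_psl_two (two K) hs.symm))
      · exact Or.inr (Or.inl ⟨K, _, _, h4 rfl, two K, hs, ⟨e⟩⟩)
    · exact Or.inl (crit_congr e.symm (crit_psl (two K) n h3))
  · obtain ⟨K, _, _, _, m, hm, -, ⟨e⟩⟩ := h
    exact Or.inl (crit_congr e.symm (crit_psp (two K) m hm))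
  · obtain ⟨K, _, _, _, n, q, hq, hn, -, ⟨e⟩⟩ := h
    exact Or.inl (crit_congr e.symm (crit_psu (two K) n q hn hq))
  · obtain ⟨K, _, _, _, m, hm, -, ⟨e⟩⟩ := h
    exact Or.inl (crit_congr e.symm (crit_omega_odd (two K) m hm))
  · obtain ⟨K, _, _, _, m, hm, ⟨e⟩⟩ := h
    exact Or.inl (crit_congr e.symm (crit_omega_plus (two K) m hm))
  · obtain ⟨K, _, _, _, m, a, b, hm, hab, ⟨e⟩⟩ := h
    exact Or.inl (crit_congr e.symm (crit_omega_minus (two K) m hm hab))
  · obtain ⟨K, _, _, _, h⟩ := h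
    rcases h with ⟨-, ⟨e⟩⟩ | ⟨⟨e⟩⟩ | ⟨⟨e⟩⟩ | ⟨⟨e⟩⟩ | ⟨⟨e⟩⟩
    · exact Or.inl (crit_congr e.symm (crit_chevG2 (odd K)))
    · exact Or.inl (crit_congr e.symm (crit_chevF4 (odd K)))
    · exact Or.inl (crit_congr e.symm (crit_chevE6 (two K)))
    · exact Or.inl (crit_congr e.symm (crit_chevE7 (two K)))
    · exact Or.inl (crit_congr e.symm (crit_chevE8 (odd K)))
  · obtain ⟨K, _, _, _, q, hq, ⟨hK, ⟨e⟩⟩ | ⟨hK, ⟨e⟩⟩⟩ := h
    · exact Or.inl (crit_congr e.symm (crit_twE6 hq hK (two K)))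
    · exact Or.inl (crit_congr e.symm (crit_twD4 hq hK (two K)))
  · exact absurd h.1 hp2
  · exact absurd h.1 hp2
  · exact Or.inr (Or.inr h.2)

end Cfsg.Agent.TwoCentralSq
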