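import Cfsg.Agent.Lib.TwoCentralSq.Frame

/-!
Groups of matrices of determinant one containing every such signed permutation matrix: degree at least three.
-/

set_option autoImplicit false
set_option linter.unusedSectionVars false

namespace Cfsg.Agent.TwoCentralSq

open Matrix

variable {F : Type*} [Field F] {H : Type*} [Group H] {n : ℕ}

/-- The partner of a coordinate among the first `k`. -/
def partner (k i : ℕ) : ℕ := if i % 2 = 0 then (if i + 1 < k then i + 1 else i) else (if i < k then i - 1 else i)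

theorem partner_cases (k i : ℕ) :
    (i % 2 = 0 ∧ i + 1 < k ∧ partner k i = i + 1) ∨ (i % 2 = 1 ∧ i < k ∧ partner k i = i - 1) ∨
      ((i % 2 = 0 ∧ k ≤ i + 1 ∨ k ≤ i) ∧ partner k i = i) := by
  unfold partner
  split_ifs with h h' h'
  · exact Or.inl ⟨h, h', rfl⟩
  · exact Or.inr (Or.inr ⟨Or.inl ⟨h, by omega⟩, rfl⟩)
  · exact Or.inr (Or.inl ⟨by omega, h', rfl⟩)
  · exact Or.inr (Or.inr ⟨Or.inr (by omega), rfl⟩)

theorem partner_lt {k n i : ℕ} (hk : k ≤ n) (hi : i < n) : partner k i < n := by
  rcases partner_cases k i with ⟨h, h', e⟩ | ⟨h, h', e⟩ | ⟨h, e⟩ <;> omega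

theorem partner_invol (k i : ℕ) : partner k (partner k i) = i := by
  rcases partner_cases k i with ⟨h, h', e⟩ | ⟨h, h', e⟩ | ⟨h, e⟩ <;> rw [e] <;>
    rcases partner_cases k (partner k i) with ⟨g, g', e'⟩ | ⟨g, g', e'⟩ | ⟨g, e'⟩ <;>
    rw [e] at g e' <;> omega

theorem partner_out {k i : ℕ} (h : k ≤ i) : partner k i = i := by
  rcases partner_cases k i with ⟨g, g', e⟩ | ⟨g, g', e⟩ | ⟨g, e⟩ <;> omega

theorem partner_fixed {k i : ℕ} (hi : i < k) (h : partner k i = i) : i + 1 = k := by
  rcases partner_cases k i with ⟨g, g', e⟩ | ⟨g, g', e⟩ | ⟨g, e⟩ <;> omega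

/-- The pairing of the first `k` of `n` coordinates. -/
def pairPerm (k n : ℕ) (hk : k ≤ n) : Equiv.Perm (Fin n) :=
  Function.Involutive.toPerm (fun i => ⟨partner k i, partner_lt hk i.2⟩) fun i => Fin.ext (partner_invol k i)

theorem pairPerm_val {k n : ℕ} (hk : k ≤ n) (i : Fin n) : (pairPerm k n hk i : ℕ) = partner k i := rfl

theorem sign_two_swaps {a b c d : Fin n} (hab : a ≠ b) (hcd : c ≠ d) :
    Equiv.Perm.sign (Equiv.swap a b * Equiv.swap c d) = 1 := by
  rw [map_mul, Equiv.Perm.sign_swap hab, Equiv.Perm.sign_swap hcd]; rfl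

theorem prod_neg {ι : Type*} [Fintype ι] [DecidableEq ι] (S : Finset ι) :
    ∏ i, (neg S : ι → F) i = (-1) ^ S.card := by
  simp only [neg]
  rw [Finset.prod_ite, Finset.prod_const, Finset.prod_const_one, mul_one, Finset.filter_mem_eq_inter,
    Finset.univ_inter]

/-- A group of matrices of determinant one with all such signed permutations. -/
structure MonoGroup (f : H →* Matrix (Fin n) (Fin n) F) where
  inj : Function.Injective f
  center : ∀ x ∈ Subgroup.center H, ∃ c : F, f x = c • (1 : Matrix (Fin n) (Fin n) F)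
  det : ∀ x, (f x).det = 1
  mem : ∀ (σ : Equiv.Perm (Fin n)) (s : Fin n → F), IsSgn s → (mono σ s).det = 1 → ∃ x : H, f x = mono σ s

namespace MonoGroup

variable {f : H →* Matrix (Fin n) (Fin n) F} (M : MonoGroup f)

theorem mem_signs (M : MonoGroup f) {a b : Fin n} (hab : a ≠ b) : ∃ x : H, f x = mono 1 (neg {a, b}) :=
  M.mem _ _ (isSgn_neg _) (by rw [mono_det, prod_neg, Finset.card_pair hab]; simp)

theorem mem_even (M : MonoGroup f) {a b c d e e' : Fin n} (hab : a ≠ b) (hcd : c ≠ d) (he : e ≠ e') :
    ∃ x : H, f x = mono (Equiv.swap a b * Equiv.swap c d) (neg {e, e'}) :=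
  M.mem _ _ (isSgn_neg _) (by rw [mono_det, prod_neg, Finset.card_pair he, sign_two_swaps hab hcd]; simp)

theorem mem_rot (M : MonoGroup f) {a b : Fin n} (hab : a ≠ b) : ∃ x : H, f x = mono (Equiv.swap a b) (neg {a}) :=
  M.mem _ _ (isSgn_neg _) (by rw [mono_det, prod_neg, Finset.card_singleton, Equiv.Perm.sign_swap hab]; simp)

/-- The frame on all coordinates. -/
def frame (M : MonoGroup f) (hn : 5 ≤ n) : Frame f where
  inj := M.inj
  center := M.center
  K := Finset.univ
  five := by simpa using hn
  out := fun i _ h => absurd (Finset.mem_univ i) h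
  ν := pairPerm n n le_rfl
  inv := fun i => Fin.ext (partner_invol n i)
  ν_out := fun i h => absurd (Finset.mem_univ i) h
  one_fixed := fun a _ b _ ha hb => Fin.ext (by
    have h1 := partner_fixed a.2 (congrArg Fin.val ha)
    have h2 := partner_fixed b.2 (congrArg Fin.val hb)
    omega)
  sign_mem := fun _ _ _ _ h => M.mem_signs h
  turn_mem := fun a _ b _ c _ d _ h => by
    simp only [List.nodup_cons, List.mem_cons, List.not_mem_nil, not_or, or_false] at h
    exact M.mem_even h.1.1 h.2.2.1 h.1.2.1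
  root_mem := fun a _ b _ c _ d _ e _ h => by
    simp only [List.nodup_cons, List.mem_cons, List.not_mem_nil, not_or, or_false] at h
    exact M.mem_even h.1.1 h.2.2.1.1 h.1.2.2.2
  outer := Or.inl Finset.mem_univ

/-- Degree three. -/
theorem crit_three {f : H →* Matrix (Fin 3) (Fin 3) F} (M : MonoGroup f) (h2 : (2 : F) ≠ 0) :
    Crit (H ⧸ Subgroup.center H) := by
  refine crit_quot _ (pairGroup f M.inj 1 fun _ => rfl) (pairGroup_isPGroup _ _ _ _) fun x hx2 hc => ?_
  have h11 : (-1 : F) ≠ 1 := fun e => h2 (by linear_combination -e)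
  have key : ∀ a b : Fin 3, a ≠ b → ∀ i j,
      f x i j * (neg {a, b} : Fin 3 → F) j = (neg {a, b} : Fin 3 → F) i * f x i j := by
    intro a b hab
    obtain ⟨r, hr⟩ := M.mem_signs hab
    obtain ⟨w, hw⟩ := twisted M.center (hc r ⟨1, _, ⟨fun _ => Or.inl rfl, fun _ => rfl⟩, isSgn_neg _, hr⟩)
    rw [hr] at hw
    suffices w = 1 by
      intro i j
      rw [twisted_diag hw i j, this, one_mul]
    -- the traces
    have e : f x * mono 1 (neg {a, b}) * f x⁻¹ = w • mono 1 (neg {a, b}) := by
      rw [hw, Matrix.smul_mul, mul_assoc, ← map_mul, mul_inv_cancel, map_one, mul_one]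
    have htr := congrArg Matrix.trace e
    rw [Matrix.trace_mul_cycle, f_inv_mul, one_mul, Matrix.trace_smul, mono_diag, Matrix.trace_diagonal,
      smul_eq_mul] at htr
    have hs : ∑ i, (neg {a, b} : Fin 3 → F) i = -1 := by
      fin_cases a <;> fin_cases b <;> first | exact absurd rfl hab | simp [Fin.sum_univ_three, neg]
    rw [hs] at htr
    linear_combination htr
  have hd : ∀ i j, i ≠ j → f x i j = 0 := by
    intro i j hij
    obtain ⟨b, hbi, hbj⟩ : ∃ b, b ≠ i ∧ b ≠ j := by
      revert hij; revert i j; decide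
    have e := key i b (Ne.symm hbi) i j
    rw [neg_mem (S := {i, b}) (i := i) (by simp), neg_not_mem (S := {i, b}) (i := j) (by simp [Ne.symm hij, Ne.symm hbj])] at e
    exact (mul_eq_zero.1 (show (2 : F) * f x i j = 0 by linear_combination e)).resolve_left h2
  set d : Fin 3 → F := fun i => f x i i with hddef
  have hfx : f x = mono 1 d := by
    rw [mono_diag]
    ext i j
    by_cases h : i = j
    · subst h; rw [Matrix.diagonal_apply_eq]
    · rw [Matrix.diagonal_apply_ne _ h, hd i j h]
  obtain ⟨lam, hlam⟩ := M.center _ hx2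
  have hsq : ∀ i, d i * d i = lam := fun i => by
    have := congrFun (congrFun hlam i) i
    rw [map_mul, hfx, mono_mul, mono_apply, Matrix.smul_apply, Matrix.one_apply_eq, smul_eq_mul, mul_one] at this
    simpa using this
  obtain ⟨a, b, c, hab, hac, hbc, hpair⟩ : ∃ a b c : Fin 3, a ≠ b ∧ a ≠ c ∧ b ≠ c ∧ d a = d b := by
    rcases mul_self_eq_mul_self_iff.1 ((hsq 0).trans (hsq 1).symm) with e | e
    · exact ⟨0, 1, 2, by decide, by decide, by decide, e⟩
    rcases mul_self_eq_mul_self_iff.1 ((hsq 0).trans (hsq 2).symm) with e' | e'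
    · exact ⟨0, 2, 1, by decide, by decide, by decide, e'⟩
    · exact ⟨1, 2, 0, by decide, by decide, by decide, neg_injective (e.symm.trans e')⟩
  have hcov : ∀ i : Fin 3, i = a ∨ i = b ∨ i = c := by
    revert hab hac hbc; clear hpair; revert a b c; decide
  rcases mul_self_eq_mul_self_iff.1 ((hsq c).trans (hsq a).symm) with e | e
  · -- a scalar
    have hs : x ∈ Subgroup.center H := scalar_center M.inj (c := d a) (by
      rw [hfx, mono_diag]
      ext i j
      by_cases h : i = j
      · subst h
        rcases hcov i with rfl | rfl | rfl <;> simp [hpair, e]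
      · simp [h])
    rw [(QuotientGroup.eq_one_iff x).2 hs]
    exact inSq_one
  · obtain ⟨r, hr⟩ := M.mem_rot hab
    have hrr : f (r * r) = mono 1 (neg {a, b}) := by
      rw [map_mul, hr, mono_mul, Equiv.swap_mul_self]
      congr 1
      funext j
      rcases hcov j with rfl | rfl | rfl
      · simp [neg, hab, Ne.symm hab]
      · simp [neg, hab, Ne.symm hab]
      · simp [neg, Ne.symm hac, Ne.symm hbc, Equiv.swap_apply_of_ne_of_ne]
    have hcomm : Commute r x := M.inj (by
      rw [map_mul, map_mul, hfx, hr, mono_mul, mono_mul, one_mul, mul_one]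
      congr 1
      funext j
      have : d (Equiv.swap a b j) = d j := by
        rcases hcov j with rfl | rfl | rfl
        · rw [Equiv.swap_apply_left, hpair]
        · rw [Equiv.swap_apply_right, hpair]
        · rw [Equiv.swap_apply_of_ne_of_ne (Ne.symm hac) (Ne.symm hbc)]
      rw [Equiv.Perm.one_apply, this, mul_comm])
    have hxr : x * (r * r)⁻¹ ∈ Subgroup.center H := scalar_center M.inj (c := d c) (by
      have e' : f x = (d c • (1 : Matrix (Fin 3) (Fin 3) F)) * f (r * r) := by
        rw [Matrix.smul_mul, one_mul, hrr, hfx, mono_diag, mono_diag]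
        ext i j
        by_cases h : i = j
        · subst h
          rcases hcov i with rfl | rfl | rfl <;> simp [neg, e, hpair, Ne.symm hac, Ne.symm hbc]
        · simp [h]
      rw [map_mul, e', mul_assoc, ← map_mul, mul_inv_cancel, map_one, mul_one])
    have hxy : (QuotientGroup.mk x : H ⧸ Subgroup.center H) = QuotientGroup.mk r * QuotientGroup.mk r := by
      have := (QuotientGroup.eq_one_iff _).2 hxr
      rwa [QuotientGroup.mk_mul, QuotientGroup.mk_inv, mul_inv_eq_one, QuotientGroup.mk_mul] at this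
    exact inSq_of_sq hxy.symm

end MonoGroup

end Cfsg.Agent.TwoCentralSq
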