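import Mathlib

/-!
Orbits of a normaliser on an elementary abelian group: no odd group of automorphisms is transitive on the fifteen
involutions of a group of order sixteen with a point stabiliser moving seven of them cyclically.
-/

set_option autoImplicit false
set_option linter.style.haveILetI false

namespace Cfsg.Agent.TwoCentralSq

variable {G : Type*} [Group G]

/-- The conjugates of `t` under `N`. -/
def Orb (N : Subgroup G) (t : G) : Set G := {u | ∃ g ∈ N, g * t * g⁻¹ = u}

theorem mem_orb_self (N : Subgroup G) (t : G) : t ∈ Orb N t := ⟨1, one_mem N, by group⟩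

theorem orb_conj {N : Subgroup G} {t u g : G} (hu : u ∈ Orb N t) (hg : g ∈ N) : g * u * g⁻¹ ∈ Orb N t := by
  obtain ⟨a, ha, rfl⟩ := hu
  exact ⟨g * a, mul_mem hg ha, by group⟩

theorem orb_card (N : Subgroup G) (t : G) :
    (Orb N t).ncard = (Subgroup.centralizer ({t} : Set G) ⊓ N).relIndex N := by
  letI : MulAction ↥N G := MulAction.compHom G ((MulAut.conj : G →* MulAut G).comp N.subtype)
  have h1 : MulAction.orbit ↥N t = Orb N t := by
    ext u
    constructor
    · rintro ⟨g, rfl⟩
      exact ⟨g, g.2, rfl⟩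
    · rintro ⟨g, hg, rfl⟩
      exact ⟨⟨g, hg⟩, rfl⟩
  have h2 : MulAction.stabilizer ↥N t = (Subgroup.centralizer ({t} : Set G) ⊓ N).subgroupOf N := by
    ext g
    rw [MulAction.mem_stabilizer_iff, Subgroup.mem_subgroupOf, Subgroup.mem_inf,
      Subgroup.mem_centralizer_singleton_iff]
    show (g : G) * t * (g : G)⁻¹ = t ↔ _
    rw [mul_inv_eq_iff_eq_mul]
    exact ⟨fun h => ⟨h, g.2⟩, fun h => h.1⟩
  rw [← h1, ← MulAction.index_stabilizer, h2]
  rfl

/-- An orbit of the normaliser of a Sylow two-subgroup centralising the point has odd size. -/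
theorem odd_orb [Finite G] (S : Sylow 2 G) {t : G} (hc : ∀ s ∈ (S : Subgroup G), s * t = t * s) :
    Odd (Orb (Subgroup.normalizer ((S : Subgroup G) : Set G)) t).ncard := by
  haveI : Fact (Nat.Prime 2) := ⟨Nat.prime_two⟩
  rw [orb_card, ← Nat.not_even_iff_odd, even_iff_two_dvd]
  intro h
  have hle : (S : Subgroup G) ≤
      Subgroup.centralizer ({t} : Set G) ⊓ Subgroup.normalizer ((S : Subgroup G) : Set G) :=
    le_inf (fun s hs => Subgroup.mem_centralizer_singleton_iff.2 (hc s hs)) Subgroup.le_normalizer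
  have h' := Subgroup.relIndex_mul_relIndex (S : Subgroup G) _ (Subgroup.normalizer ((S : Subgroup G) : Set G))
    hle inf_le_right
  refine S.not_dvd_index ((h.trans (Dvd.intro_left _ h')).trans ?_)
  exact Subgroup.relIndex_dvd_index_of_le Subgroup.le_normalizer

section Sixteen

variable {A : Type*} [Group A] [Finite A] (hA : Nat.card A = 16)
include hA

theorem fixed_count {p : ℕ} [Fact p.Prime] {a : MulAut A} (ha : a ^ p = 1) :
    ∃ U : Subgroup A, (∀ x, x ∈ U ↔ a x = x) ∧ Nat.card U ∣ 16 ∧ Nat.card U % p = 16 % p := by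
  let U : Subgroup A :=
    { carrier := {x | a x = x}
      one_mem' := map_one a
      mul_mem' := fun {x y} hx hy => by
        show a (x * y) = x * y
        rw [map_mul, hx, hy]
      inv_mem' := fun {x} hx => by
        show a x⁻¹ = x⁻¹
        rw [map_inv, hx] }
  refine ⟨U, fun x => Iff.rfl, hA ▸ Subgroup.card_subgroup_dvd_card U, ?_⟩
  have hP : IsPGroup p ↥(Subgroup.zpowers a) := fun ⟨x, i, hx⟩ => ⟨1, Subtype.ext (by
    show x ^ p ^ 1 = 1
    subst hx
    show (a ^ i) ^ p ^ 1 = 1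
    rw [pow_one, ← zpow_natCast, ← zpow_mul, mul_comm, zpow_mul, zpow_natCast, ha, one_zpow])⟩
  have h := hP.card_modEq_card_fixedPoints A
  have he : MulAction.fixedPoints ↥(Subgroup.zpowers a) A = (U : Set A) := by
    ext x
    refine ⟨fun h => h ⟨a, Subgroup.mem_zpowers a⟩, fun h g => ?_⟩
    have hs : a ∈ MulAction.stabilizer (MulAut A) x := h
    exact Subgroup.zpowers_le.2 hs g.2
  rw [hA, he] at h
  exact h.symm

theorem fixed_five {a : MulAut A} (ha : a ^ 5 = 1) {s : A} (hs : s ≠ 1) (h : a s = s) : a = 1 := by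
  haveI : Fact (Nat.Prime 5) := ⟨Nat.prime_five⟩
  obtain ⟨U, hU, h16, h5⟩ := fixed_count hA ha
  have h2 : Nat.card U ≠ 1 := fun h1 => hs (Subgroup.mem_bot.1
    (Subgroup.card_eq_one.1 h1 ▸ (hU s).2 h))
  have hd : Nat.card U ∈ Nat.divisors 16 := Nat.mem_divisors.2 ⟨h16, by norm_num⟩
  rw [show Nat.divisors 16 = {1, 2, 4, 8, 16} by decide] at hd
  simp only [Finset.mem_insert, Finset.mem_singleton] at hd
  have he : U = ⊤ := Subgroup.eq_top_of_card_eq U (by omega)
  exact MulEquiv.ext fun x => (hU x).1 (he ▸ Subgroup.mem_top x)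

theorem fixed_seven {a : MulAut A} (ha : a ^ 7 = 1) (h1 : a ≠ 1) :
    ∃ s : A, s ≠ 1 ∧ a s = s ∧ ∀ r, a r = r → r = 1 ∨ r = s := by
  haveI : Fact (Nat.Prime 7) := ⟨by norm_num⟩
  obtain ⟨U, hU, h16, h7⟩ := fixed_count hA ha
  have hd : Nat.card U ∈ Nat.divisors 16 := Nat.mem_divisors.2 ⟨h16, by norm_num⟩
  rw [show Nat.divisors 16 = {1, 2, 4, 8, 16} by decide] at hd
  simp only [Finset.mem_insert, Finset.mem_singleton] at hd
  have h16' : Nat.card U ≠ 16 := fun h =>
    h1 (MulEquiv.ext fun x => (hU x).1 (Subgroup.eq_top_of_card_eq U (by omega) ▸ Subgroup.mem_top x))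
  have h2 : Nat.card U = 2 := by omega
  obtain ⟨s, hs, huni⟩ := (Nat.card_eq_two_iff' (1 : U)).1 h2
  refine ⟨s, fun e => hs (Subtype.ext e), (hU _).1 s.2, fun r hr => ?_⟩
  by_cases hr1 : r = 1
  · exact Or.inl hr1
  · exact Or.inr (congrArg Subtype.val (huni ⟨r, (hU r).2 hr⟩ fun e => hr1 (congrArg Subtype.val e)))

/-- **No odd transitive group on fifteen involutions.** -/
theorem false_fifteen (H : Subgroup (MulAut A)) (hodd : Odd (Nat.card H)) {t : A}
    (ht : t ≠ 1) (htr : ∀ s : A, s ≠ 1 → ∃ h ∈ H, h t = s) (V : Subgroup A) (hV8 : Nat.card V = 8) (htV : t ∉ V)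
    (hV : ∀ h ∈ H, h t = t → ∀ v ∈ V, h v ∈ V)
    (hT : ∀ v ∈ V, ∀ w ∈ V, v ≠ 1 → w ≠ 1 → ∃ h ∈ H, h t = t ∧ h v = w) : False := by
  classical
  haveI h5 : Fact (Nat.Prime 5) := ⟨Nat.prime_five⟩
  haveI h7 : Fact (Nat.Prime 7) := ⟨by norm_num⟩
  haveI : Finite (MulAut A) := Finite.of_injective MulEquiv.toEquiv MulEquiv.toEquiv_injective
  -- the stabiliser of `t`
  let St : Subgroup ↥H := MulAction.stabilizer ↥H t
  have hidx : St.index = 15 := by
    rw [MulAction.index_stabilizer]
    have e : MulAction.orbit ↥H t = {(1 : A)}ᶜ := by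
      ext s
      constructor
      · rintro ⟨h, rfl⟩ e
        have e' : (h : MulAut A) t = (h : MulAut A) 1 := by rw [map_one]; exact e
        exact ht ((h : MulAut A).injective e')
      · intro hs
        obtain ⟨h, hh, he⟩ := htr s hs
        exact ⟨⟨h, hh⟩, he⟩
    rw [e, Set.ncard_compl, Set.ncard_singleton, hA]
  have hHodd : ∀ k : ℕ, k ∣ Nat.card H → Odd k := fun k hk => hodd.of_dvd_nat hk
  have hmul := St.index_mul_card
  rw [hidx] at hmul
  have hSodd : Odd (Nat.card St) := hHodd _ (Subgroup.card_subgroup_dvd_card St)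
  have hS5 : ¬ 5 ∣ Nat.card St := by
    intro h
    obtain ⟨y, hy⟩ := exists_prime_orderOf_dvd_card' 5 h
    have hy5 : ((y : ↥H) : MulAut A) ^ 5 = 1 := by
      have := pow_orderOf_eq_one y
      rw [hy] at this
      exact congrArg (fun z : St => ((z : ↥H) : MulAut A)) this
    have := fixed_five hA hy5 ht y.2
    have e : y = 1 := Subtype.ext (Subtype.ext this)
    rw [e, orderOf_one] at hy
    omega
  -- the action on the seven other points of `V`
  let V1 := {v : A // v ∈ V ∧ v ≠ 1}
  letI : MulAction ↥St V1 :=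
    { smul := fun g v => ⟨((g : ↥H) : MulAut A) v.1, hV _ (g : ↥H).2 g.2 _ v.2.1, fun e =>
        v.2.2 (((g : ↥H) : MulAut A).injective (by rw [map_one]; exact e))⟩
      one_smul := fun v => Subtype.ext rfl
      mul_smul := fun a b v => Subtype.ext rfl }
  have hV1 : Nat.card V1 = 7 := by
    have : Nat.card V1 = ((V : Set A) \ {1}).ncard := Nat.card_coe_set_eq _
    rw [this, Set.ncard_sdiff (Set.singleton_subset_iff.2 (one_mem V)), Set.ncard_singleton, ← Nat.card_coe_set_eq]
    show Nat.card V - 1 = 7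
    rw [hV8]
  haveI : Fintype V1 := Fintype.ofFinite V1
  have hdec : ∀ x : A, x ∈ V ∨ t * x ∈ V := by
    intro x
    have h2 : V.index = 2 := by
      have := V.index_mul_card
      rw [hV8, hA] at this
      omega
    by_cases hx : x ∈ V
    · exact Or.inl hx
    · exact Or.inr ((Subgroup.mul_mem_iff_of_index_two h2).2 ⟨fun h => absurd h htV, fun h => absurd h hx⟩)
  have hfaith : Function.Injective (MulAction.toPermHom ↥St V1) := by
    rw [← MonoidHom.ker_eq_bot_iff, Subgroup.eq_bot_iff_forall]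
    intro g hg
    have hfix : ∀ v ∈ V, ((g : ↥H) : MulAut A) v = v := fun v hv => by
      by_cases h1 : v = 1
      · rw [h1, map_one]
      · exact congrArg Subtype.val (Equiv.ext_iff.1 (MonoidHom.mem_ker.1 hg) ⟨v, hv, h1⟩)
    refine Subtype.ext (Subtype.ext (MulEquiv.ext fun x => ?_))
    rcases hdec x with h | h
    · exact hfix x h
    · have := hfix _ h
      rw [map_mul, show ((g : ↥H) : MulAut A) t = t from g.2] at this
      exact mul_left_cancel this
  have hS63 : Nat.card St ∣ 63 := by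
    have h1 : Nat.card St ∣ 5040 := by
      have := Subgroup.card_dvd_of_injective _ hfaith
      rwa [Nat.card_perm, hV1, show Nat.factorial 7 = 5040 by decide] at this
    have hco : Nat.Coprime (Nat.card St) 80 := by
      rw [show (80 : ℕ) = 2 ^ 4 * 5 by norm_num]
      refine Nat.Coprime.mul_right (Nat.Coprime.pow_right _ ?_) ?_
      · exact Nat.coprime_two_right.2 hSodd
      · exact ((Nat.prime_five.coprime_iff_not_dvd).2 hS5).symm
    exact hco.dvd_of_dvd_mul_right (show Nat.card St ∣ 63 * 80 from h1)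
  have hS7 : 7 ∣ Nat.card St := by
    obtain ⟨v⟩ : Nonempty V1 := (Nat.card_pos_iff.1 (by omega)).1
    haveI : MulAction.IsPretransitive ↥St V1 := ⟨fun a b => by
      obtain ⟨h, hh, ht', he⟩ := hT a.1 a.2.1 b.1 b.2.1 a.2.2 b.2.2
      exact ⟨⟨⟨h, hh⟩, ht'⟩, Subtype.ext he⟩⟩
    rw [← hV1, ← MulAction.index_stabilizer_of_transitive ↥St v]
    exact Subgroup.index_dvd_card _
  -- a normal complement to a Sylow five-subgroup
  obtain ⟨P⟩ : Nonempty (Sylow 5 ↥H) := inferInstance
  have hHc : Nat.card H = 15 * Nat.card St := hmul.symm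
  have hP5 : Nat.card P = 5 := by
    rw [P.card_eq_multiplicity, hHc, Nat.factorization_mul (by norm_num) (Nat.card_pos).ne',
      Finsupp.add_apply, Nat.factorization_eq_zero_of_not_dvd hS5, show (15 : ℕ) = 5 * 3 by norm_num,
      Nat.factorization_mul (by norm_num) (by norm_num), Finsupp.add_apply, Nat.Prime.factorization_self Nat.prime_five,
      Nat.factorization_eq_zero_of_not_dvd (show ¬ 5 ∣ 3 by norm_num)]
    rfl
  have hPn : Subgroup.normalizer ((P : Subgroup ↥H) : Set ↥H) ≤
      Subgroup.centralizer ((P : Subgroup ↥H) : Set ↥H) := by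
    intro n hn
    let f := Subgroup.normalizerMonoidHom (P : Subgroup ↥H)
    haveI : IsCyclic (P : Subgroup ↥H) := isCyclic_of_prime_card hP5
    have h4 : Nat.card (MulAut (P : Subgroup ↥H)) = 4 := by
      rw [IsCyclic.card_mulAut, show Nat.card (P : Subgroup ↥H) = 5 from hP5,
        Nat.totient_prime Nat.prime_five]
    have h1 : orderOf (f ⟨n, hn⟩) ∣ 4 := h4 ▸ orderOf_dvd_natCard _
    have h2 : Odd (orderOf (f ⟨n, hn⟩)) := by
      refine hHodd _ ((orderOf_map_dvd f _).trans ?_)
      rw [← Subgroup.orderOf_coe]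
      exact orderOf_dvd_natCard n
    have h3 : f ⟨n, hn⟩ = 1 := by
      rw [← orderOf_eq_one_iff]
      have : Nat.Coprime (orderOf (f ⟨n, hn⟩)) (2 ^ 2) :=
        Nat.Coprime.pow_right _ (Nat.coprime_two_right.2 h2)
      exact Nat.Coprime.eq_one_of_dvd this h1
    rw [← MonoidHom.mem_ker, Subgroup.normalizerMonoidHom_ker, Subgroup.mem_subgroupOf] at h3
    exact h3
  have hcomp := MonoidHom.ker_transferSylow_isComplement' P hPn
  let K := (MonoidHom.transferSylow P hPn).ker
  have hK : Nat.card K * 5 = 15 * Nat.card St := by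
    rw [← hP5, ← hHc]
    exact hcomp.card_mul_card
  have hK189 : Nat.card K ∣ 189 := by
    rw [show Nat.card K = 3 * Nat.card St by omega, show (189 : ℕ) = 3 * 63 by norm_num]
    exact Nat.mul_dvd_mul_left 3 hS63
  -- its Sylow seven-subgroup
  obtain ⟨Q⟩ : Nonempty (Sylow 7 ↥K) := inferInstance
  have hQ1 : Nat.card (Sylow 7 ↥K) = 1 := by
    have h1 := card_sylow_modEq_one 7 ↥K
    have h2 : Nat.card (Sylow 7 ↥K) ∣ 27 := by
      have hd : Nat.card (Sylow 7 ↥K) ∣ 7 * 27 :=
        (Q.card_dvd_index.trans (Subgroup.index_dvd_card _)).trans hK189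
      refine Nat.Coprime.dvd_of_dvd_mul_left ?_ hd
      refine ((Nat.Prime.coprime_iff_not_dvd h7.out).2 fun h => ?_).symm
      rw [Nat.ModEq, Nat.dvd_iff_mod_eq_zero.1 h] at h1
      omega
    have hd : Nat.card (Sylow 7 ↥K) ∈ Nat.divisors 27 := Nat.mem_divisors.2 ⟨h2, by norm_num⟩
    rw [show Nat.divisors 27 = {1, 3, 9, 27} by decide] at hd
    simp only [Finset.mem_insert, Finset.mem_singleton] at hd
    rw [Nat.ModEq] at h1
    omega
  haveI : Subsingleton (Sylow 7 ↥K) := (Nat.card_eq_one_iff_unique.1 hQ1).1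
  have hK7 : 7 ∣ Nat.card K := by
    have : 7 ∣ Nat.card K * 5 := hK ▸ Dvd.dvd.mul_left hS7 15
    exact (Nat.Coprime.dvd_of_dvd_mul_right (by norm_num) this)
  have hQ7 : Nat.card Q = 7 := by
    rw [Q.card_eq_multiplicity]
    have h49 : ¬ 7 ^ 2 ∣ Nat.card K := by
      intro h
      have h' := h.trans hK189
      norm_num at h'
    have e : (Nat.card K).factorization 7 = 1 := by
      have h1 := (h7.out.dvd_iff_one_le_factorization Nat.card_pos.ne').1 hK7
      have h2 : ¬ 2 ≤ (Nat.card K).factorization 7 := fun h =>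
        h49 ((h7.out.pow_dvd_iff_le_factorization Nat.card_pos.ne').2 h)
      omega
    rw [e]; rfl
  -- an element of order five commuting with one of order seven
  obtain ⟨y, hy⟩ := exists_prime_orderOf_dvd_card' (G := ↥H) 5 (by rw [hHc]; exact Dvd.dvd.mul_right (by norm_num) _)
  have hKn : K.Normal := MonoidHom.normal_ker _
  let Q' : Subgroup ↥H := (Q : Subgroup ↥K).map K.subtype
  have hQ'7 : Nat.card Q' = 7 := by
    rw [← hQ7]; exact Subgroup.card_map_of_injective (Subgroup.subtype_injective _)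
  have hQn : Q'.Normal := by
    haveI : (Q : Subgroup ↥K).Characteristic := Sylow.characteristic_of_subsingleton Q
    infer_instance
  have hP : IsPGroup 5 ↥(Subgroup.zpowers y) :=
    IsPGroup.of_card (n := 1) (by rw [Nat.card_zpowers, hy, pow_one])
  letI : MulAction ↥(Subgroup.zpowers y) ↥Q' :=
    { smul := fun g q => ⟨(g : ↥H) * q * (g : ↥H)⁻¹, hQn.conj_mem _ q.2 _⟩
      one_smul := fun q => Subtype.ext (by show (1 : ↥H) * q * 1⁻¹ = q; group)
      mul_smul := fun a b q => Subtype.ext (by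
        show ((a : ↥H) * b) * q * ((a : ↥H) * b)⁻¹ = a * (b * q * (b : ↥H)⁻¹) * (a : ↥H)⁻¹
        group) }
  have hm := hP.card_modEq_card_fixedPoints ↥Q'
  rw [hQ'7] at hm
  obtain ⟨x, hx, hx1⟩ : ∃ x ∈ MulAction.fixedPoints ↥(Subgroup.zpowers y) ↥Q', x ≠ 1 := by
    by_contra hcon
    push Not at hcon
    have hle : Nat.card (MulAction.fixedPoints ↥(Subgroup.zpowers y) ↥Q') ≤ 1 := by
      refine Finite.card_le_one_iff_subsingleton.2 ⟨fun a b => Subtype.ext ?_⟩
      rw [hcon a a.2, hcon b b.2]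
    rw [Nat.ModEq] at hm
    omega
  have hxy : (y : MulAut A) * ((x : ↥H) : MulAut A) = ((x : ↥H) : MulAut A) * y := by
    have e := congrArg (fun q : ↥Q' => ((q : ↥H) : MulAut A)) (hx ⟨y, Subgroup.mem_zpowers y⟩)
    change ((y * (x : ↥H) * y⁻¹ : ↥H) : MulAut A) = _ at e
    rw [Subgroup.coe_mul, Subgroup.coe_mul, Subgroup.coe_inv, mul_inv_eq_iff_eq_mul] at e
    exact e
  have hx7 : ((x : ↥H) : MulAut A) ^ 7 = 1 := by
    have := pow_card_eq_one' (x := x)
    rw [hQ'7] at this
    exact congrArg (fun q : ↥Q' => ((q : ↥H) : MulAut A)) this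
  obtain ⟨s, hs1, hs, huni⟩ := fixed_seven hA hx7 fun e => hx1 (Subtype.ext (Subtype.ext e))
  have hys : (y : MulAut A) s = s := by
    have e := DFunLike.congr_fun hxy s
    simp only [MulAut.mul_apply, hs] at e
    refine (huni _ e.symm).resolve_left fun h => hs1 ((y : MulAut A).injective (h.trans (map_one _).symm))
  have hy5 : (y : MulAut A) ^ 5 = 1 := by
    have := pow_orderOf_eq_one y
    rw [hy] at this
    exact congrArg Subtype.val this
  have he : y = 1 := Subtype.ext (fixed_five hA hy5 hs1 hys)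
  rw [he, orderOf_one] at hy
  omega

end Sixteen

end Cfsg.Agent.TwoCentralSq
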