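import Cfsg.Agent.Lib.TwoCentralSq.Core
import Cfsg.Agent.Lib.TwoCentralSq.Orb
import Cfsg.Agent.Lib.JankoRee.Transfer
import Mathlib.GroupTheory.FixedPointFree

/-!
The cases of `S3226` in which the simple factor has an elementary abelian Sylow two-subgroup of order four or eight:
either some subgroup of index two avoids `t`, or (order four only) the whole group is simple.
-/

set_option autoImplicit false
set_option linter.style.haveILetI false

namespace Cfsg.Agent.TwoCentralSq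

/-- The normaliser of an elementary abelian Sylow two-subgroup of order at most eight of a simple group is
transitive on its involutions. -/
theorem small_transitive {F : Type*} [Group F] [Finite F] [IsSimpleGroup F] (hna : ¬ IsMulCommutative F)
    (P : Sylow 2 F) (hsq : ∀ x ∈ (P : Subgroup F), x * x = 1) (h8 : Nat.card (P : Subgroup F) ≤ 8)
    {v w : F} (hv : v ∈ (P : Subgroup F)) (hv1 : v ≠ 1) (hw : w ∈ (P : Subgroup F)) (hw1 : w ≠ 1) :
    w ∈ Orb (Subgroup.normalizer ((P : Subgroup F) : Set F)) v := by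
  classical
  haveI : Fact (Nat.Prime 2) := ⟨Nat.prime_two⟩
  let N := Subgroup.normalizer ((P : Subgroup F) : Set F)
  have comm : ∀ a ∈ (P : Subgroup F), ∀ b ∈ (P : Subgroup F), a * b = b * a := fun a ha b hb => by
    have h := hsq _ (mul_mem ha hb)
    have ha2 : a⁻¹ = a := inv_eq_of_mul_eq_one_right (hsq a ha)
    have hb2 : b⁻¹ = b := inv_eq_of_mul_eq_one_right (hsq b hb)
    conv_lhs => rw [← inv_eq_of_mul_eq_one_right h, _root_.mul_inv_rev, ha2, hb2]
  have hord : ∀ z ∈ (P : Subgroup F), z ≠ 1 → orderOf z = 2 := fun z hz hz1 =>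
    orderOf_eq_prime (by rw [pow_two]; exact hsq z hz) hz1
  have hsub : ∀ z ∈ (P : Subgroup F), z ≠ 1 → Orb N z ⊆ ((P : Subgroup F) : Set F) \ {1} := by
    rintro z hz hz1 _ ⟨g, hg, rfl⟩
    exact ⟨(Subgroup.mem_normalizer_iff.1 hg z).1 hz, fun e => hz1 (conj_eq_one_iff.1 e)⟩
  have hfin : ∀ z : F, (Orb N z).Finite := fun z => Set.toFinite _
  have hodd : ∀ z ∈ (P : Subgroup F), z ≠ 1 → Odd (Orb N z).ncard ∧ 3 ≤ (Orb N z).ncard := by
    intro z hz hz1
    have ho : Odd (Orb N z).ncard := odd_orb P fun s hs => comm s hs z hz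
    refine ⟨ho, ?_⟩
    have h1 : (Orb N z).ncard ≠ 1 := by
      intro h
      obtain ⟨y, hy, hne⟩ := JankoRee.exists_normalizer_move hna P
        ⟨⟨fun a b => Subtype.ext (comm a a.2 b b.2)⟩⟩ hz (hord z hz hz1)
      obtain ⟨x, hx⟩ := Set.ncard_eq_one.1 h
      have e1 := Set.mem_singleton_iff.1 (hx ▸ mem_orb_self N z)
      have e2 : y * z * y⁻¹ ∈ Orb N z := ⟨y, hy, rfl⟩
      rw [hx, Set.mem_singleton_iff, ← e1] at e2
      exact hne e2
    obtain ⟨j, hj⟩ := ho
    omega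
  have hdis : ∀ a b : F, a ∉ Orb N b → Disjoint (Orb N b) (Orb N a) := fun a b hab => by
    rw [Set.disjoint_left]
    rintro _ ⟨g, hg, rfl⟩ ⟨g', hg', e⟩
    refine hab ⟨g'⁻¹ * g, mul_mem (inv_mem hg') hg, ?_⟩
    calc g'⁻¹ * g * b * (g'⁻¹ * g)⁻¹ = g'⁻¹ * (g * b * g⁻¹) * g' := by group
      _ = _ := by rw [← e]; group
  by_contra hcon
  have heven : 2 ∣ Nat.card (P : Subgroup F) := by
    have := orderOf_dvd_natCard (⟨v, hv⟩ : (P : Subgroup F))
    rwa [← Subgroup.orderOf_coe, hord v hv hv1] at this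
  have hP1 : (((P : Subgroup F) : Set F) \ {1}).ncard = Nat.card (P : Subgroup F) - 1 := by
    rw [Set.ncard_sdiff (Set.singleton_subset_iff.2 (one_mem _)), Set.ncard_singleton, ← Nat.card_coe_set_eq]
    rfl
  have hd1 := hdis w v hcon
  obtain ⟨hov, hov3⟩ := hodd v hv hv1
  obtain ⟨how, how3⟩ := hodd w hw hw1
  have hu : Orb N v ∪ Orb N w ⊆ ((P : Subgroup F) : Set F) \ {1} := Set.union_subset (hsub v hv hv1) (hsub w hw hw1)
  have hsum := Set.ncard_union_eq hd1 (hfin v) (hfin w)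
  have hne : Orb N v ∪ Orb N w ≠ ((P : Subgroup F) : Set F) \ {1} := by
    intro e
    rw [e, hP1] at hsum
    have he : Even ((Orb N v).ncard + (Orb N w).ncard) := hov.add_odd how
    rw [← hsum, even_iff_two_dvd] at he
    have hp : 0 < Nat.card (P : Subgroup F) := Nat.card_pos
    omega
  obtain ⟨z, hz, hzn⟩ := Set.exists_of_ssubset (hu.ssubset_of_ne hne)
  obtain ⟨-, hoz3⟩ := hodd z hz.1 hz.2
  rw [Set.mem_union, not_or] at hzn
  have hd2 : Disjoint (Orb N v ∪ Orb N w) (Orb N z) :=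
    Set.disjoint_union_left.2 ⟨hdis z v hzn.1, hdis z w hzn.2⟩
  have hsum2 := Set.ncard_union_eq hd2 (Set.toFinite _) (hfin z)
  have hle := Set.ncard_le_ncard (Set.union_subset hu (hsub z hz.1 hz.2))
  rw [hsum2, hsum, hP1] at hle
  omega

namespace Setting

variable {G : Type*} [Group G] [Finite G] {t : G} {S : Sylow 2 G} {F : Subgroup G} (D : Setting t S F)
include D

theorem t_inv : t⁻¹ = t := inv_eq_of_mul_eq_one_right D.t_sq

theorem t_mem : t ∈ (S : Subgroup G) := by
  have h := Subgroup.relIndex_eq_two_iff.1 D.relIndex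
  obtain ⟨a, ha, hb⟩ := h
  by_contra hn
  have hZ : IsPGroup 2 ↥(Subgroup.zpowers t) :=
    IsPGroup.of_card (n := 1) (by rw [Nat.card_zpowers, D.ht, pow_one])
  haveI : Fact (Nat.Prime 2) := ⟨Nat.prime_two⟩
  refine hn (JankoRee.mem_sylow_of_normalizes S (k := 1) ?_ (by rw [pow_one, pow_two]; exact D.t_sq))
  refine Subgroup.mem_normalizer_iff.2 fun s => ⟨fun hs => ?_, fun hs => ?_⟩
  · rwa [← D.hc s hs, mul_inv_cancel_right]
  · have e : s = t * s * t⁻¹ := by
      have e' := D.hc _ hs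
      calc s = t⁻¹ * (t * s * t⁻¹ * t) := by group
        _ = _ := by rw [e']; group
    rwa [e]

omit [Finite G] in
theorem F_comm_t {f : G} (hf : f ∈ F) : f * t = t * f := (D.hF.2.2.1 t (Subgroup.mem_zpowers t) f hf).symm

/-- The centraliser of `t` normalises `F`. -/
theorem conj_F {c f : G} (hc : c * t = t * c) (hf : f ∈ F) : c * f * c⁻¹ ∈ F := by
  rcases D.decomp (Subgroup.mem_centralizer_singleton_iff.2 hc) with h | h
  · exact F.mul_mem (F.mul_mem h hf) (F.inv_mem h)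
  · have e : c * f * c⁻¹ = (t * c) * f * (t * c)⁻¹ := by
      have e' : t * (c * f * c⁻¹) = c * f * c⁻¹ * t := by
        calc t * (c * f * c⁻¹) = c * (t * f) * c⁻¹ := by rw [← mul_assoc, ← mul_assoc, ← hc]; group
          _ = c * f * (t * c⁻¹) := by rw [← D.F_comm_t hf]; group
          _ = c * f * (c⁻¹ * t) := by
            rw [show t * c⁻¹ = c⁻¹ * (c * t) * c⁻¹ by group, hc]; group
          _ = _ := by group
      rw [mul_inv_rev, show t * c * f * (c⁻¹ * t⁻¹) = t * (c * f * c⁻¹) * t⁻¹ by group, e', mul_inv_cancel_right]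
    rw [e]
    exact F.mul_mem (F.mul_mem h hf) (F.inv_mem h)

/-- The trace of the Sylow subgroup in `F`. -/
theorem exists_sylowF : ∃ P : Sylow 2 ↥F, ∀ x : ↥F, x ∈ (P : Subgroup ↥F) ↔ (x : G) ∈ (S : Subgroup G) := by
  haveI : Fact (Nat.Prime 2) := ⟨Nat.prime_two⟩
  have hP : IsPGroup 2 ↥((S : Subgroup G).subgroupOf F) := S.isPGroup'.comap_subtype
  obtain ⟨P, hP'⟩ := hP.exists_le_sylow
  refine ⟨P, fun x => ⟨fun hx => ?_, fun hx => hP' hx⟩⟩
  -- the two-group `P` generates with `t` a two-group containing the Sylow subgroup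
  have hPt : (P : Subgroup ↥F).map F.subtype ≤ Subgroup.normalizer ((Subgroup.zpowers t : Subgroup G) : Set G) := by
    rintro _ ⟨f, -, rfl⟩
    refine Subgroup.mem_normalizer_iff.2 fun z => ⟨?_, ?_⟩
    · rintro ⟨i, rfl⟩
      refine ⟨i, ?_⟩
      show t ^ i = (f : G) * t ^ i * (f : G)⁻¹
      rw [((show Commute (f : G) t from D.F_comm_t f.2).zpow_right i).eq, mul_inv_cancel_right]
    · rintro ⟨i, e⟩
      refine ⟨i, ?_⟩
      calc t ^ i = (f : G)⁻¹ * t ^ i * (f : G) := by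
            rw [mul_assoc, ← ((show Commute (f : G) t from D.F_comm_t f.2).zpow_right i).eq, inv_mul_cancel_left]
        _ = (f : G)⁻¹ * ((f : G) * z * (f : G)⁻¹) * (f : G) := by rw [show t ^ i = _ from e]; rfl
        _ = z := by group
  have hT := IsPGroup.to_sup_of_normal_left'
    (IsPGroup.of_card (n := 1) (by rw [Nat.card_zpowers, D.ht, pow_one]) : IsPGroup 2 ↥(Subgroup.zpowers t))
    (P.isPGroup'.map F.subtype) hPt
  have hle : (S : Subgroup G) ≤ Subgroup.zpowers t ⊔ (P : Subgroup ↥F).map F.subtype := fun s hs => by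
    rcases D.decomp (D.S_le hs) with h | h
    · exact Subgroup.mem_sup_right ⟨⟨s, h⟩, hP' (show s ∈ _ from hs), rfl⟩
    · have e : s = t * (t * s) := by rw [← mul_assoc, D.t_sq, one_mul]
      rw [e]
      refine mul_mem (Subgroup.mem_sup_left (Subgroup.mem_zpowers t)) (Subgroup.mem_sup_right ?_)
      exact ⟨⟨t * s, h⟩, hP' (show t * s ∈ _ from mul_mem D.t_mem hs), rfl⟩
  rw [← S.is_maximal' hT hle]
  exact Subgroup.mem_sup_right (Subgroup.mem_map_of_mem F.subtype hx)

/-- **The dichotomy.** -/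
theorem small [IsSimpleGroup ↥F] (hna : ¬ IsMulCommutative ↥F)
    (hel : ∀ P : Sylow 2 ↥F, (Nat.card (P : Subgroup ↥F) = 4 ∨ Nat.card (P : Subgroup ↥F) = 8) ∧
      ∀ x ∈ (P : Subgroup ↥F), x * x = 1) :
    (∃ H : Subgroup G, H.index = 2 ∧ t ∉ H) ∨
      ((∀ P : Sylow 2 ↥F, Nat.card (P : Subgroup ↥F) = 4) ∧ IsSimpleGroup G ∧
        ∀ R : Sylow 2 G, ∀ a b : R, a * b = b * a) := by
  classical
  haveI : Fact (Nat.Prime 2) := ⟨Nat.prime_two⟩
  obtain ⟨P, hP⟩ := D.exists_sylowF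
  obtain ⟨hcardP, hsqP⟩ := hel P
  have tS := D.t_mem
  -- `S` is elementary abelian
  have hsq : ∀ s ∈ (S : Subgroup G), s * s = 1 := by
    intro s hs
    rcases D.decomp (D.S_le hs) with h | h
    · exact congrArg Subtype.val (hsqP ⟨s, h⟩ ((hP _).2 hs))
    · have e : t * s * (t * s) = 1 := congrArg Subtype.val (hsqP ⟨t * s, h⟩ ((hP _).2 (mul_mem tS hs)))
      calc s * s = s * (t * t) * s := by rw [D.t_sq, mul_one]
        _ = s * t * (t * s) := by group
        _ = _ := by rw [D.hc s hs, e]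
  have comm : ∀ a ∈ (S : Subgroup G), ∀ b ∈ (S : Subgroup G), a * b = b * a := fun a ha b hb => by
    have h := hsq _ (mul_mem ha hb)
    have ha2 : a⁻¹ = a := inv_eq_of_mul_eq_one_right (hsq a ha)
    have hb2 : b⁻¹ = b := inv_eq_of_mul_eq_one_right (hsq b hb)
    conv_lhs => rw [← inv_eq_of_mul_eq_one_right h, _root_.mul_inv_rev, ha2, hb2]
  let V : Subgroup G := (S : Subgroup G) ⊓ F
  have hVP : V = (P : Subgroup ↥F).map F.subtype := by
    ext x
    exact ⟨fun hx => ⟨⟨x, hx.2⟩, (hP _).2 hx.1, rfl⟩, fun ⟨f, hf, e⟩ => e ▸ ⟨(hP f).1 hf, f.2⟩⟩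
  have hVc : Nat.card V = Nat.card (P : Subgroup ↥F) := by
    rw [hVP]; exact Subgroup.card_map_of_injective (Subgroup.subtype_injective _)
  have hSc : Nat.card (S : Subgroup G) = 2 * Nat.card V := by
    rw [← Subgroup.card_mul_index (V.subgroupOf (S : Subgroup G)), mul_comm,
      show (V.subgroupOf (S : Subgroup G)).index = 2 from D.relIndex,
      Nat.card_congr (Subgroup.subgroupOfEquivOfLe (inf_le_left : V ≤ (S : Subgroup G))).toEquiv]
  have hdec : ∀ s ∈ (S : Subgroup G), s ∈ V ∨ t * s ∈ V := fun s hs =>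
    (D.decomp (D.S_le hs)).imp (fun h => ⟨hs, h⟩) fun h => ⟨mul_mem tS hs, h⟩
  by_cases hcase : ∀ g ∈ Subgroup.normalizer ((S : Subgroup G) : Set G), g⁻¹ * t * g ∉ V
  · exact Or.inl (exists_index_two S D.t_sq D.hc V D.relIndex hcase)
  push Not at hcase
  obtain ⟨g₀, hg₀, hu⟩ := hcase
  let NS := Subgroup.normalizer ((S : Subgroup G) : Set G)
  let O := Orb NS t
  have hu' : g₀⁻¹ * t * g₀ ∈ O := ⟨g₀⁻¹, inv_mem hg₀, by rw [inv_inv]⟩
  have ht1 : t ≠ 1 := fun e => by
    have := D.ht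
    rw [e, orderOf_one] at this
    omega
  have hu1 : g₀⁻¹ * t * g₀ ≠ 1 := fun e => ht1 (by
    calc t = g₀ * (g₀⁻¹ * t * g₀) * g₀⁻¹ := by group
      _ = 1 := by rw [e]; group)
  -- the normaliser in `F`
  have htr : ∀ v ∈ V, ∀ w ∈ V, v ≠ 1 → w ≠ 1 →
      ∃ n ∈ F, n ∈ NS ∧ n * t * n⁻¹ = t ∧ n * v * n⁻¹ = w := by
    intro v hv w hw hv1 hw1
    obtain ⟨n, hn, e⟩ := small_transitive (v := ⟨v, hv.2⟩) (w := ⟨w, hw.2⟩) hna P hsqP (by omega) ((hP _).2 hv.1)
      (fun e => hv1 (congrArg Subtype.val e)) ((hP _).2 hw.1) (fun e => hw1 (congrArg Subtype.val e))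
    have hnt : (n : G) * t * (n : G)⁻¹ = t := by rw [D.F_comm_t n.2, mul_inv_cancel_right]
    refine ⟨n, n.2, ?_, hnt, congrArg Subtype.val e⟩
    have key : ∀ m ∈ Subgroup.normalizer ((P : Subgroup ↥F) : Set ↥F), ∀ s ∈ (S : Subgroup G),
        (m : G) * s * (m : G)⁻¹ ∈ (S : Subgroup G) := by
      intro m hm s hs
      have hmt : (m : G) * t * (m : G)⁻¹ = t := by rw [D.F_comm_t m.2, mul_inv_cancel_right]
      have hV : ∀ x : G, x ∈ V → (m : G) * x * (m : G)⁻¹ ∈ (S : Subgroup G) := fun x hx =>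
        (hP (m * ⟨x, hx.2⟩ * m⁻¹)).1 ((Subgroup.mem_normalizer_iff.1 hm _).1 ((hP _).2 hx.1))
      rcases hdec s hs with h | h
      · exact hV s h
      · have := mul_mem tS (hV _ h)
        rwa [show t * ((m : G) * (t * s) * (m : G)⁻¹) = (m : G) * s * (m : G)⁻¹ by
          calc t * ((m : G) * (t * s) * (m : G)⁻¹)
              = (m : G) * t * (m : G)⁻¹ * ((m : G) * (t * s) * (m : G)⁻¹) := by rw [hmt]
            _ = (m : G) * (t * t * s) * (m : G)⁻¹ := by group
            _ = _ := by rw [D.t_sq, one_mul]] at this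
    refine Subgroup.mem_normalizer_iff.2 fun s => ⟨key n hn s, fun hs => ?_⟩
    have := key n⁻¹ (inv_mem hn) _ hs
    rwa [show ((n⁻¹ : ↥F) : G) * ((n : G) * s * (n : G)⁻¹) * ((n⁻¹ : ↥F) : G)⁻¹ = s by
      rw [Subgroup.coe_inv]; group] at this
  have hOS : O ⊆ ((S : Subgroup G) : Set G) \ {1} := by
    rintro _ ⟨g, hg, rfl⟩
    exact ⟨(Subgroup.mem_normalizer_iff.1 hg t).1 tS, fun e => ht1 (conj_eq_one_iff.1 e)⟩
  have hVO : ∀ v ∈ V, v ≠ 1 → v ∈ O := by
    intro v hv hv1
    obtain ⟨n, -, hn, -, e⟩ := htr _ hu v hv hu1 hv1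
    exact e ▸ orb_conj hu' hn
  have hOodd : Odd O.ncard := odd_orb S D.hc
  have hVeven : 2 ∣ Nat.card V := by omega
  have hC : ∃ v ∈ V, v ≠ 1 ∧ t * v ∈ O := by
    by_contra hcon
    push Not at hcon
    have e : O = insert t ((V : Set G) \ {1}) := by
      ext x
      constructor
      · intro hx
        rcases hdec x (hOS hx).1 with h | h
        · exact Set.mem_insert_of_mem _ ⟨h, (hOS hx).2⟩
        · have := hcon (t * x) h
          rw [← mul_assoc, D.t_sq, one_mul] at this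
          by_cases h1 : t * x = 1
          · rw [← inv_eq_of_mul_eq_one_right h1, D.t_inv]; exact Set.mem_insert _ _
          · exact absurd hx (this h1)
      · rintro (rfl | ⟨h, h1⟩)
        · exact mem_orb_self NS x
        · exact hVO x h h1
    rw [e, Set.ncard_insert_of_notMem (fun h => D.t_not h.1.2) (Set.toFinite _),
      Set.ncard_sdiff (Set.singleton_subset_iff.2 (one_mem V)), Set.ncard_singleton, ← Nat.card_coe_set_eq]
      at hOodd
    change Odd (Nat.card ↥V - 1 + 1) at hOodd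
    rw [Nat.sub_add_cancel (show 1 ≤ Nat.card ↥V from Nat.card_pos)] at hOodd
    exact Nat.not_even_iff_odd.2 hOodd (even_iff_two_dvd.2 hVeven)
  have hall : ∀ s ∈ (S : Subgroup G), s ≠ 1 → s ∈ O := by
    intro s hs hs1
    rcases hdec s hs with h | h
    · exact hVO s h hs1
    · by_cases h1 : t * s = 1
      · rw [← inv_eq_of_mul_eq_one_right h1, D.t_inv]; exact mem_orb_self NS t
      · obtain ⟨v, hv, hv1, hvO⟩ := hC
        obtain ⟨n, -, hn, hnt, e⟩ := htr v hv (t * s) h hv1 h1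
        have h' := orb_conj hvO hn
        rwa [show n * (t * v) * n⁻¹ = s by
          calc n * (t * v) * n⁻¹ = n * t * n⁻¹ * (n * v * n⁻¹) := by group
            _ = _ := by rw [hnt, e, ← mul_assoc, D.t_sq, one_mul]] at h'
  have hstab : ∀ g ∈ NS, g * t = t * g → ∀ v ∈ V, g * v * g⁻¹ ∈ V := fun g hg hgt v hv =>
    ⟨(Subgroup.mem_normalizer_iff.1 hg v).1 hv.1, D.conj_F hgt hv.2⟩
  rcases hcardP with h4 | h8
  swap
  · -- order eight is impossible
    exfalso
    let f := Subgroup.normalizerMonoidHom (S : Subgroup G)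
    have hodd : Odd (Nat.card f.range) := by
      rw [← Subgroup.index_ker, Subgroup.normalizerMonoidHom_ker, ← Nat.not_even_iff_odd, even_iff_two_dvd]
      intro h
      have hle : (S : Subgroup G) ≤ Subgroup.centralizer ((S : Subgroup G) : Set G) := fun a ha =>
        Subgroup.mem_centralizer_iff.2 fun b hb => comm b hb a ha
      exact S.not_dvd_index ((h.trans (Subgroup.relIndex_dvd_of_le_left NS hle)).trans
        (Subgroup.relIndex_dvd_index_of_le Subgroup.le_normalizer))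
    have happ : ∀ (g : ↥NS) (x : (S : Subgroup G)), ((f g x : (S : Subgroup G)) : G) = g * x * (g : G)⁻¹ :=
      fun _ _ => rfl
    refine false_fifteen (A := (S : Subgroup G)) (by omega) f.range hodd (t := ⟨t, tS⟩)
      (fun e => ht1 (congrArg Subtype.val e)) ?_ (V.subgroupOf (S : Subgroup G)) ?_
      (fun h => D.t_not (Subgroup.mem_subgroupOf.1 h).2) ?_ ?_
    · intro s hs
      obtain ⟨g, hg, e⟩ := hall s s.2 fun e => hs (Subtype.ext e)
      exact ⟨f ⟨g, hg⟩, ⟨_, rfl⟩, Subtype.ext e⟩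
    · rw [Nat.card_congr (Subgroup.subgroupOfEquivOfLe (inf_le_left : V ≤ (S : Subgroup G))).toEquiv]
      show Nat.card V = 8
      omega
    · rintro h ⟨g, rfl⟩ hgt v hv
      rw [Subgroup.mem_subgroupOf, happ]
      have e := congrArg Subtype.val hgt
      rw [happ] at e
      exact hstab g g.2 (mul_inv_eq_iff_eq_mul.1 e) _ (Subgroup.mem_subgroupOf.1 hv)
    · intro v hv w hw hv1 hw1
      obtain ⟨n, -, hn, hnt, e⟩ := htr v (Subgroup.mem_subgroupOf.1 hv) w (Subgroup.mem_subgroupOf.1 hw)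
        (fun e => hv1 (Subtype.ext e)) (fun e => hw1 (Subtype.ext e))
      exact ⟨f ⟨n, hn⟩, ⟨_, rfl⟩, Subtype.ext hnt, Subtype.ext e⟩
  right
  refine ⟨fun Q => ?_, ?_, fun R a b => ?_⟩
  · rw [Q.card_eq_multiplicity, ← P.card_eq_multiplicity]; exact h4
  swap
  · obtain ⟨g, rfl⟩ := MulAction.exists_smul_eq G S R
    have ha : (a : G) ∈ (S : Subgroup G).map (MulAut.conj g).toMonoidHom := a.2
    have hb : (b : G) ∈ (S : Subgroup G).map (MulAut.conj g).toMonoidHom := b.2
    obtain ⟨x, hx, ex⟩ := ha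
    obtain ⟨y, hy, ey⟩ := hb
    exact Subtype.ext (by rw [Subgroup.coe_mul, Subgroup.coe_mul, ← ex, ← ey, ← map_mul, ← map_mul, comm x hx y hy])
  -- simplicity
  haveI : Nontrivial G := ⟨t, 1, ht1⟩
  have hV4 : Nat.card V = 4 := by omega
  refine ⟨fun R hR => ?_⟩
  by_cases hbot : R = ⊥
  · exact Or.inl hbot
  right
  have htR : t ∈ R := by
    by_contra htR
    -- then `R` has odd order
    have hS' : ∀ s ∈ (S : Subgroup G), s ∈ R → s = 1 := by
      intro s hs hsR
      by_contra hs1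
      obtain ⟨g, hg, e⟩ := hall s hs hs1
      refine htR ?_
      have := hR.conj_mem _ hsR g⁻¹
      rwa [← e, inv_inv, show g⁻¹ * (g * t * g⁻¹) * g = t by group] at this
    have hRodd : ¬ 2 ∣ Nat.card R := by
      intro h
      obtain ⟨x, hx⟩ := exists_prime_orderOf_dvd_card' (G := ↥R) 2 h
      have hx2 : IsPGroup 2 ↥(Subgroup.zpowers (x : G)) :=
        IsPGroup.of_card (n := 1) (by rw [Nat.card_zpowers, Subgroup.orderOf_coe, hx, pow_one])
      obtain ⟨Q, hQ⟩ := hx2.exists_le_sylow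
      obtain ⟨g, hg⟩ := MulAction.exists_smul_eq G Q S
      have h1 : g * x * g⁻¹ ∈ (S : Subgroup G) := by
        rw [← hg]
        simp only [Sylow.coe_subgroup_smul]
        exact Subgroup.smul_mem_pointwise_smul _ (MulAut.conj g) (Q : Subgroup G) (hQ (Subgroup.mem_zpowers _))
      have := conj_eq_one_iff.1 (hS' _ h1 (hR.conj_mem _ x.2 g))
      rw [← Subgroup.orderOf_coe, this, orderOf_one] at hx
      omega
    -- `F` meets it trivially
    have hFR : ∀ f ∈ F, f ∈ R → f = 1 := by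
      intro f hf hfR
      rcases (hR.subgroupOf F).eq_bot_or_eq_top with h | h
      · have h' : (⟨f, hf⟩ : ↥F) ∈ R.subgroupOf F := hfR
        rw [h, Subgroup.mem_bot] at h'
        exact congrArg Subtype.val h'
      · refine absurd (hS' _ hu.1 ?_) hu1
        exact Subgroup.mem_subgroupOf.1 (show (⟨_, hu.2⟩ : ↥F) ∈ R.subgroupOf F from h ▸ Subgroup.mem_top _)
    have hfree : ∀ r ∈ R, r * t = t * r → r = 1 := by
      intro r hrR hrt
      rcases D.decomp (Subgroup.mem_centralizer_singleton_iff.2 hrt) with h | h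
      · exact hFR r h hrR
      · have hr2 : r * r = 1 := hFR _ (by
          have e : t * r * (t * r) = r * r := by
            rw [show t * r * (t * r) = t * (r * t) * r by group, hrt, ← mul_assoc, D.t_sq, one_mul]
          rw [← e]; exact mul_mem h h) (mul_mem hrR hrR)
        by_contra h1
        refine hRodd ?_
        have := orderOf_dvd_natCard (⟨r, hrR⟩ : ↥R)
        rwa [← Subgroup.orderOf_coe, orderOf_eq_prime (by rw [pow_two]; exact hr2) h1] at this
    have hinv : ∀ r ∈ R, t * r * t⁻¹ = r⁻¹ := by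
      intro r hr
      let φ : ↥R →* ↥R := MonoidHom.mk' (fun r => ⟨t * r * t⁻¹, hR.conj_mem _ r.2 t⟩) fun a b =>
        Subtype.ext (by show t * ((a : G) * b) * t⁻¹ = t * a * t⁻¹ * (t * b * t⁻¹); group)
      have hfp : MonoidHom.FixedPointFree φ := fun x hx => Subtype.ext (hfree x x.2
        (mul_inv_eq_iff_eq_mul.1 (congrArg Subtype.val hx)).symm)
      have hinvo : Function.Involutive φ := fun x => Subtype.ext (by
        show t * (t * x * t⁻¹) * t⁻¹ = x
        rw [show t * (t * (x : G) * t⁻¹) * t⁻¹ = (t * t) * x * (t * t)⁻¹ by group, D.t_sq]; group)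
      exact congrArg Subtype.val (congrFun (hfp.coe_eq_inv_of_involutive hinvo) ⟨r, hr⟩)
    have hinvS : ∀ s ∈ (S : Subgroup G), s ≠ 1 → ∀ r ∈ R, s * r * s⁻¹ = r⁻¹ := by
      intro s hs hs1 r hr
      obtain ⟨g, hg, rfl⟩ := hall s hs hs1
      have := hinv (g⁻¹ * r * g) (by simpa using hR.conj_mem r hr g⁻¹)
      calc g * t * g⁻¹ * r * (g * t * g⁻¹)⁻¹ = g * (t * (g⁻¹ * r * g) * t⁻¹) * g⁻¹ := by group
        _ = _ := by rw [this]; group
    obtain ⟨v, hv, hv1, -⟩ := hC
    have htv : t * v ≠ 1 := fun e => D.t_not (by rw [← D.t_inv, inv_eq_of_mul_eq_one_right e]; exact hv.2)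
    refine hbot ((Subgroup.eq_bot_iff_forall _).2 fun r hr => hfree r hr ?_)
    have e1 := hinvS v hv.1 hv1 r hr
    have e2 := hinvS (t * v) (mul_mem tS hv.1) htv r hr
    have e3 : t * r⁻¹ * t⁻¹ = r⁻¹ := by
      calc t * r⁻¹ * t⁻¹ = t * (v * r * v⁻¹) * t⁻¹ := by rw [e1]
        _ = t * v * r * (t * v)⁻¹ := by group
        _ = _ := e2
    exact (Commute.inv_right_iff.1 (mul_inv_eq_iff_eq_mul.1 e3 : Commute t r⁻¹)).eq.symm
  have hSR : (S : Subgroup G) ≤ R := by
    intro s hs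
    by_cases h1 : s = 1
    · rw [h1]; exact one_mem R
    · obtain ⟨g, -, e⟩ := hall s hs h1
      rw [← e]; exact hR.conj_mem t htR g
  have hFle : F ≤ R := by
    rcases (hR.subgroupOf F).eq_bot_or_eq_top with h | h
    · have h' : (⟨_, hu.2⟩ : ↥F) ∈ R.subgroupOf F := hSR hu.1
      rw [h, Subgroup.mem_bot] at h'
      exact absurd (congrArg Subtype.val h') hu1
    · exact fun f hf => Subgroup.mem_subgroupOf.1 (show (⟨f, hf⟩ : ↥F) ∈ R.subgroupOf F from h ▸ Subgroup.mem_top _)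
  let St := Subgroup.centralizer ({t} : Set G) ⊓ NS
  let K := R ⊓ NS
  have hStK : St ≤ K := fun x hx => ⟨by
    rcases D.decomp hx.1 with h | h
    · exact hFle h
    · have := mul_mem htR (hFle h)
      rwa [← mul_assoc, D.t_sq, one_mul] at this, hx.2⟩
  have hprod : St.relIndex K * K.relIndex NS = 7 := by
    rw [Subgroup.relIndex_mul_relIndex St K NS hStK inf_le_right, ← orb_card,
      show Orb NS t = ((S : Subgroup G) : Set G) \ {1} from
        Set.Subset.antisymm hOS fun x hx => hall x hx.1 hx.2,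
      Set.ncard_sdiff (Set.singleton_subset_iff.2 (one_mem _)), Set.ncard_singleton, ← Nat.card_coe_set_eq]
    show Nat.card (S : Subgroup G) - 1 = 7
    omega
  rcases (Nat.dvd_prime (by norm_num : Nat.Prime 7)).1 (Dvd.intro_left _ hprod) with h1 | h7
  · have hNR : NS ≤ R := (Subgroup.relIndex_eq_one.1 h1).trans inf_le_left
    have := Sylow.normalizer_sup_eq_top' S hSR
    exact (sup_of_le_right hNR).symm.trans this
  · exfalso
    rw [h7] at hprod
    have hKSt : K ≤ St := Subgroup.relIndex_eq_one.1 (by omega)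
    obtain ⟨w, hw, hwu⟩ : ∃ w ∈ V, w ∉ ({1, g₀⁻¹ * t * g₀} : Set G) := by
      by_contra hcon
      push Not at hcon
      have h1 := Set.ncard_le_ncard (s := (V : Set G)) (t := {1, g₀⁻¹ * t * g₀}) hcon
      have h2 : ({1, g₀⁻¹ * t * g₀} : Set G).ncard ≤ 2 :=
        (Set.ncard_insert_le _ _).trans (by rw [Set.ncard_singleton])
      rw [← Nat.card_coe_set_eq] at h1
      change Nat.card V ≤ _ at h1
      omega
    simp only [Set.mem_insert_iff, Set.mem_singleton_iff, not_or] at hwu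
    obtain ⟨n, hnF, hn, -, e⟩ := htr _ hu w hw hu1 hwu.1
    have hmem : g₀ * n * g₀⁻¹ ∈ K :=
      ⟨hR.conj_mem n (hFle hnF) g₀, NS.mul_mem (NS.mul_mem hg₀ hn) (NS.inv_mem hg₀)⟩
    refine hwu.2 ?_
    rw [← e]
    have h := Subgroup.mem_centralizer_singleton_iff.1 (hKSt hmem).1
    calc n * (g₀⁻¹ * t * g₀) * n⁻¹ = g₀⁻¹ * (g₀ * n * g₀⁻¹ * t) * g₀ * n⁻¹ := by group
      _ = _ := by rw [h]; group

end Setting

end Cfsg.Agent.TwoCentralSq
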