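import Cfsg.Agent.Lib.TwoCentralSq.Small
import Cfsg.Agent.S0343
import Cfsg.Agent.Lib.JankoRee.Setup
import Cfsg.Agent.S0252
import Cfsg.Agent.S0253

/-!
The two-dimensional linear groups with `q ≡ ±3 (mod 8)` in `S3226`.
-/

set_option autoImplicit false
set_option linter.style.haveILetI false

namespace Cfsg.Agent.TwoCentralSq

theorem psl_sylow {K : Type*} [Field K] [Fintype K]
    (h8 : Fintype.card K % 8 = 3 ∨ Fintype.card K % 8 = 5) (h4 : 4 ≤ Fintype.card K) {M : Type*} [Group M] [Finite M]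
    (e : M ≃* Matrix.ProjectiveSpecialLinearGroup (Fin 2) K) (P : Sylow 2 M) :
    Nat.card (P : Subgroup M) = 4 ∧ ∀ x ∈ (P : Subgroup M), x * x = 1 := by
  haveI : Fact (Nat.Prime 2) := ⟨Nat.prime_two⟩
  have hodd : Odd (Fintype.card K) := by rw [Nat.odd_iff]; omega
  have hN := JanThom.two_mul_card_L (F := K) (by rwa [Nat.card_eq_fintype_card])
  rw [← Nat.card_congr e.toEquiv, Nat.card_eq_fintype_card (α := K)] at hN
  obtain ⟨j, hj⟩ : ∃ j, Fintype.card K = 8 * j + 3 ∨ Fintype.card K = 8 * j + 5 :=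
    ⟨Fintype.card K / 8, by omega⟩
  obtain ⟨b, hb, hb2⟩ : ∃ b, Nat.card M = 4 * b ∧ b % 2 = 1 := by
    rcases hj with hj | hj <;> rw [hj] at hN
    · refine ⟨(8 * j + 3) * (4 * j + 1) * (2 * j + 1), ?_, ?_⟩
      · rw [show 8 * j + 3 - 1 = 8 * j + 2 by omega] at hN
        linarith
      · rw [Nat.mul_mod, Nat.mul_mod (8 * j + 3)]
        simp [Nat.add_mod, Nat.mul_mod]
    · refine ⟨(8 * j + 5) * (2 * j + 1) * (4 * j + 3), ?_, ?_⟩
      · rw [show 8 * j + 5 - 1 = 8 * j + 4 by omega] at hN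
        linarith
      · rw [Nat.mul_mod, Nat.mul_mod (8 * j + 5)]
        simp [Nat.add_mod, Nat.mul_mod]
  have hc : Nat.card (P : Subgroup M) = 4 := by
    rw [show (4 : ℕ) = 2 ^ 2 by norm_num, P.card_eq_multiplicity, hb, Nat.factorization_mul (by norm_num) (by omega),
      Finsupp.add_apply, Nat.factorization_eq_zero_of_not_dvd (show ¬ 2 ∣ b by omega),
      show (4 : ℕ) = 2 ^ 2 by norm_num, Nat.Prime.factorization_pow Nat.prime_two, Finsupp.single_eq_same]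
  refine ⟨hc, ?_⟩
  exact (JankoRee.psl2_sylow_of_equiv hodd (by omega) e P
    (IsPGroup.isMulCommutative_of_card_eq_prime_sq (p := 2) (by rw [hc]; norm_num))).2.1

variable {G : Type*} [Group G] [Finite G] {t : G} {S : Sylow 2 G} {F : Subgroup G}

/-- **The linear case with two a non-square.** -/
theorem Setting.of_psl (D : Setting t S F) [IsSimpleGroup ↥F] (hna : ¬ IsMulCommutative ↥F)
    {K : Type} [Field K] [Fintype K] (h4 : 4 ≤ Fintype.card K) (h2 : ¬ IsSquare (2 : K))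
    (e : ↥F ≃* Matrix.ProjectiveSpecialLinearGroup (Fin 2) K) :
    (∃ H : Subgroup G, H.index = 2 ∧ t ∉ H) ∨ Nonempty (↥F ≃* ↥(alternatingGroup (Fin 5))) ∨
      (∃ (K : Type) (_ : Field K) (_ : Fintype K) (n : ℕ), 1 ≤ n ∧ Fintype.card K = 3 ^ (2 * n + 1) ∧
        Nonempty (↥F ≃* Matrix.ProjectiveSpecialLinearGroup (Fin 2) K)) := by
  have h8 : Fintype.card K % 8 = 3 ∨ Fintype.card K % 8 = 5 := by
    rw [FiniteField.isSquare_two_iff] at h2
    omega
  rcases D.small hna fun P => ⟨Or.inl (psl_sylow h8 h4 e P).1, (psl_sylow h8 h4 e P).2⟩ with h | ⟨-, hs, hab⟩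
  · exact Or.inl h
  right
  haveI := hs
  let ε : Multiplicative (ZMod 2) ≃* ↥(Subgroup.zpowers t) := mulEquivOfCyclicCardEq (by
    rw [Nat.card_zpowers, D.ht]; simp)
  let ι₁ : Multiplicative (ZMod 2) →* G := (Subgroup.zpowers t).subtype.comp ε.toMonoidHom
  let ι₂ : Matrix.ProjectiveSpecialLinearGroup (Fin 2) K →* G := F.subtype.comp e.symm.toMonoidHom
  have hc : ∀ a l, Commute (ι₁ a) (ι₂ l) := fun a l => D.hF.2.2.1 _ (ε a).2 _ (e.symm l).2
  let ψ := MonoidHom.noncommCoprod ι₁ ι₂ hc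
  have hr1 : ι₁.range = Subgroup.zpowers t := by
    ext x
    exact ⟨fun ⟨a, ha⟩ => ha ▸ (ε a).2, fun hx => ⟨ε.symm ⟨x, hx⟩, by simp [ι₁]⟩⟩
  have hr2 : ι₂.range = F := by
    ext x
    exact ⟨fun ⟨a, ha⟩ => ha ▸ (e.symm a).2, fun hx => ⟨e ⟨x, hx⟩, by simp [ι₂]⟩⟩
  have hrange : ψ.range = Subgroup.centralizer ({t} : Set G) := by
    rw [MonoidHom.noncommCoprod_range, hr1, hr2, D.hF.2.2.2.2]
  have hinj : Function.Injective ψ := by
    rw [MonoidHom.noncommCoprod_injective]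
    refine ⟨fun a b hab => ε.injective (Subtype.ext hab), fun a b hab => e.symm.injective (Subtype.ext hab), ?_⟩
    rw [hr1, hr2]
    exact disjoint_iff.2 D.hF.2.2.2.1
  rcases S0343.result hab (F := K) (by omega) t D.ht
      ⟨(MulEquiv.subgroupCongr hrange.symm).trans (MonoidHom.ofInjective hinj).symm⟩ with
    ⟨m, hm, hK, -⟩ | ⟨h45 | h45, -⟩
  · exact Or.inr ⟨K, inferInstance, inferInstance, m, hm, hK, ⟨e⟩⟩
  · omega
  · obtain ⟨i⟩ := S0253.result h45
    exact Or.inl ⟨e.trans i⟩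

end Cfsg.Agent.TwoCentralSq
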