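import Cfsg.Agent.Lib.TwoCentralSq.Small
import Cfsg.Agent.Lib.Lie.Ree5
import Cfsg.Prelude.Def_LieTwisted

/-!
The small Ree groups in `S3226`: there is a subgroup of index two avoiding the involution.
-/

set_option autoImplicit false
set_option linter.style.haveILetI false

namespace Cfsg.Agent.TwoCentralSq

open Cfsg.Agent

theorem ree_sylow {F : Type*} [Group F] [Finite F] (h : Cfsg.Lie.IsoRee F) (P : Sylow 2 F) :
    Nat.card (P : Subgroup F) = 8 ∧ ∀ x ∈ (P : Subgroup F), x * x = 1 := by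
  obtain ⟨K, _, _, m, -, hK, ⟨e₀⟩⟩ := h
  haveI : Fact (Nat.Prime 2) := ⟨Nat.prime_two⟩
  haveI : Fact (Nat.Prime 3) := ⟨Nat.prime_three⟩
  haveI : CharP K 3 := charP_of_card_eq_prime_pow (f := 2 * m + 1) hK
  let e : F ≃* Chev.Ree.Gr K m := e₀
  haveI : Finite (Chev.Ree.Gr K m) := Finite.of_injective e.symm e.symm.injective
  have hle : ∀ x : F, x ∈ (P : Subgroup F) → e x ∈ (P : Subgroup F).map e.toMonoidHom := fun x hx =>
    Subgroup.mem_map_of_mem _ hx
  obtain ⟨c, hc⟩ := MulAction.exists_smul_eq (Chev.Ree.Gr K m) (Chev.Ree.S0s hK)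
    (P.mapSurjective (f := e.toMonoidHom) e.surjective)
  have hc' : (P : Subgroup F).map e.toMonoidHom =
      (Chev.Ree.S0 hK).map (MulAut.conj c).toMonoidHom := by
    refine (Sylow.coe_mapSurjective (f := e.toMonoidHom) e.surjective P).symm.trans ?_
    rw [← hc]
    rfl
  refine ⟨?_, fun x hx => e.injective ?_⟩
  · rw [← Chev.Ree.card_S0 hK, ← Subgroup.card_map_of_injective (f := e.toMonoidHom) e.injective, hc']
    exact Subgroup.card_map_of_injective (MulEquiv.injective (MulAut.conj c))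
  · have h1 := hle x hx
    rw [hc'] at h1
    obtain ⟨y, hy, e'⟩ := h1
    change MulAut.conj c y = e x at e'
    rw [map_mul, map_one, ← e', ← map_mul, Chev.Ree.sq_S0 hK hy, map_one]

variable {G : Type*} [Group G] [Finite G] {t : G} {S : Sylow 2 G} {F : Subgroup G}

/-- **The small Ree case.** -/
theorem Setting.of_ree (D : Setting t S F) [IsSimpleGroup ↥F] (hna : ¬ IsMulCommutative ↥F)
    (h : Cfsg.Lie.IsoRee ↥F) : ∃ H : Subgroup G, H.index = 2 ∧ t ∉ H := by
  rcases D.small hna fun P => ⟨Or.inr (ree_sylow h P).1, (ree_sylow h P).2⟩ with h' | ⟨h4, -, -⟩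
  · exact h'
  · obtain ⟨P⟩ : Nonempty (Sylow 2 ↥F) := inferInstance
    have := h4 P
    rw [(ree_sylow h P).1] at this
    omega

end Cfsg.Agent.TwoCentralSq
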