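import Cfsg.Agent.Lib.TwoCentralSq.ChevAdj
import Cfsg.Agent.Lib.Lie.TwGraph

/-!
Preparations for the twisted groups: Gram invariance and the search over images of fundamental roots.
-/

set_option autoImplicit false

namespace Cfsg.Agent.TwoCentralSq

open Cfsg.Lie Cfsg.Agent.Chev Cfsg.Agent.Chev.Tab Cfsg.Agent.ChevOdd

variable {T : Tab} {F : Type*} [Field F]

/-- The pairing of the coroot of `r` with the root `s`. -/
def gram (T : Tab) (r s : ℕ) : ℤ := sumBelow (fun k => T.c r k * T.A k s) T.l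

theorem gram_ref (g : T.Good) {i r s : ℕ} (hi : i < T.l) (hr : r < T.n) (hs : s < T.n) :
    gram T (T.ref i r) (T.ref i s) = gram T r s := by
  simp only [gram, sumBelow_eq_sum]
  obtain ⟨a, ha⟩ : ∃ a, a = ∑ k ∈ Finset.range T.l, T.c r k * T.A k (T.smp i) := ⟨_, rfl⟩
  have e : ∀ k ∈ Finset.range T.l, T.c (T.ref i r) k * T.A k (T.ref i s) =
      T.c r k * T.A k s - T.A i s * (T.c r k * T.A k (T.smp i)) -
        (if k = i then a else 0) * (T.A k s - T.A k (T.smp i) * T.A i s) := by
    intro k hk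
    have hk' := Finset.mem_range.1 hk
    rw [c_ref g hi hr hk', A_ref g hi hk' hs, ← ha]
    split_ifs with h
    · ring
    · ring
  rw [Finset.sum_congr rfl e, Finset.sum_sub_distrib, Finset.sum_sub_distrib, ← Finset.mul_sum, ← ha]
  simp only [ite_mul, zero_mul, Finset.sum_ite_eq', Finset.mem_range, hi, if_true]
  rw [A_smp_self g hi]
  ring

theorem gram_rw' (g : T.Good) : ∀ {L : List ℕ}, T.Wd L → ∀ {r s : ℕ}, r < T.n → s < T.n →
    gram T (T.rw' L r) (T.rw' L s) = gram T r s
  | [], _, _, _, _, _ => rfl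
  | i :: L, h, r, s, hr, hs => by
    obtain ⟨hi, hL⟩ := Wd.cons_iff.1 h
    rw [rw'_cons, rw'_cons, gram_ref g hi (rw'_lt g hL hr) (rw'_lt g hL hs), gram_rw' g hL hr hs]

/-- All choices of images of the fundamental roots with the right pairings keep them positive or negate `i₀`. -/
def searchW (T : Tab) (i₀ : ℕ) : List (List ℕ) → List ℕ → Bool
  | [], acc => acc.all (fun s => Nat.ble T.N s) || Nat.beq (acc.getD i₀ 0) (T.neg (T.smp i₀))
  | C :: rest, acc => C.all fun s =>
    anyBelow (fun j => !(gram T (acc.getD j 0) s == gram T (T.smp j) (T.smp acc.length)) ||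
      !(gram T s (acc.getD j 0) == gram T (T.smp acc.length) (T.smp j))) acc.length ||
    searchW T i₀ rest (acc ++ [s])

theorem searchW_spec {i₀ : ℕ} (f : ℕ → ℕ) {m : ℕ}
    (hG : ∀ i < m, ∀ j < m, gram T (f i) (f j) = gram T (T.smp i) (T.smp j)) :
    ∀ (rest : List (List ℕ)) (k : ℕ), k + rest.length = m → searchW T i₀ rest ((List.range k).map f) = true →
      (∀ i, (h : i < rest.length) → f (k + i) ∈ rest[i]) →
      ((List.range m).map f).all (fun s => Nat.ble T.N s) = true ∨
        ((List.range m).map f).getD i₀ 0 = T.neg (T.smp i₀) := by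
  intro rest
  induction rest with
  | nil =>
    intro k hk h _
    rw [List.length_nil, Nat.add_zero] at hk
    subst hk
    simpa [searchW, Bool.or_eq_true] using h
  | cons C rest ih =>
    intro k hk h hmem
    rw [List.length_cons] at hk
    simp only [searchW, List.all_eq_true, Bool.or_eq_true, anyBelow_eq_true, Bool.not_eq_true',
      beq_eq_false_iff_ne, List.length_map, List.length_range] at h
    have h0 := hmem 0 (by simp)
    rcases h (f k) h0 with ⟨j, hj, hne⟩ | h'
    · exfalso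
      have hj' : ((List.range k).map f).getD j 0 = f j := by
        simp [List.getD_eq_getElem?_getD, hj]
      rw [hj'] at hne
      rcases hne with hne | hne
      · exact hne (hG j (by omega) k (by omega))
      · exact hne (hG k (by omega) j (by omega))
    · refine ih (k + 1) (by omega) ?_ fun i hi => ?_
      · rw [List.range_succ, List.map_append]
        exact h'
      · have := hmem (i + 1) (by simp; omega)
        rw [List.getElem_cons_succ] at this
        rwa [show k + 1 + i = k + (i + 1) by omega]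

theorem wt_eq_of_dg_eq (g : T.Good) {χ ψ : ℕ → Fˣ} (e : dg T F χ = dg T F ψ) {s : ℕ} (hs : s < T.n) :
    χ s = ψ s := by
  have := congrArg (fun X : GL T.D.Idx F => (X : Matrix T.D.Idx T.D.Idx F)
    (Sum.inr ⟨s, by rw [g.nroots_eq]; exact hs⟩) (Sum.inr ⟨s, by rw [g.nroots_eq]; exact hs⟩)) e
  exact Units.ext (by simpa [dg_val, dgv] using this)

/-- Weights after moving a torus element by a word. -/
theorem wt_conj_word (g : T.Good) {L : List ℕ} (hL : T.Wd L) {c d : ℕ → Fˣ}
    (h : nWd g F L * tor T F c * (nWd g F L)⁻¹ = tor T F d) {s : ℕ} (hs : s < T.n) :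
    wt T F d s = wt T F c (T.rw' L.reverse s) := by
  rw [tor_apply, nWd_dg g hL, tor_apply] at h
  exact (wt_eq_of_dg_eq g h hs).symm

/-- The torus parameters of the square of a product of commuting fundamental representatives. -/
def sqC (F : Type*) [Field F] (R : List ℕ) : ℕ → Fˣ := (R.map fun j => Pi.mulSingle j (-1 : Fˣ)).prod

theorem wt_sqC (g : T.Good) : ∀ {R : List ℕ}, T.Wd R → ∀ s : ℕ,
    wt T F (sqC F R) s = (-1 : Fˣ) ^ (R.map fun j => T.A j s).sum
  | [], _, s => by simp [sqC, wt]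
  | j :: R, h, s => by
    obtain ⟨hj, hR⟩ := Wd.cons_iff.1 h
    have := wt_sqC g hR s
    rw [sqC] at this
    rw [sqC, List.map_cons, List.prod_cons, wt_mul, wt_single g hj, this, List.map_cons, List.sum_cons,
      _root_.zpow_add]

/-- The fundamental representative is `n_r(1)`. -/
theorem nG_eq_nE (g : T.Good) (j : ℕ) : nG g F j = nE g (T.smp j) (1 : F) := by
  simp [nG, nE]

theorem nWd_block_sq (g : T.GoodA) : ∀ {R : List ℕ}, (∀ j ∈ R, j < T.l) → R.Pairwise (Orth T) →
    nWd g.toGood F R * nWd g.toGood F R = tor T F (sqC F R)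
  | [], _, _ => by simp [sqC]
  | j :: R, h, hp => by
    have hg := g.toGood
    have hj := h j List.mem_cons_self
    obtain ⟨hjR, hpR⟩ := List.pairwise_cons.1 hp
    have hc := (orth_word g hj (F := F) (R := R)
      fun x hx => ⟨h x (List.mem_cons_of_mem _ hx), hjR x hx⟩).1
    calc nWd hg F (j :: R) * nWd hg F (j :: R)
        = nG hg F j * (nWd hg F R * nG hg F j) * nWd hg F R := by simp only [nWd_cons, mul_assoc]
      _ = nG hg F j * nG hg F j * (nWd hg F R * nWd hg F R) := by rw [hc.eq]; simp only [mul_assoc]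
      _ = _ := by
        rw [nG_sq hg hj, nWd_block_sq g (fun x hx => h x (List.mem_cons_of_mem _ hx)) hpR, hS_eq_tor,
          sqC, sqC, List.map_cons, List.prod_cons, map_mul]

theorem nWd_comm_tor (g : T.Good) {c : ℕ → Fˣ} : ∀ {R : List ℕ},
    (∀ j ∈ R, j < T.l ∧ wt T F c (T.smp j) = 1) → Commute (nWd g F R) (tor T F c)
  | [], _ => by rw [nWd_nil]; exact Commute.one_left _
  | j :: R, h => by
    obtain ⟨hj, hw⟩ := h j List.mem_cons_self
    rw [nWd_cons, nG_eq_nE]
    exact (nE_comm g (g.smp_lt hj) hw 1).mul_left (nWd_comm_tor g fun x hx => h x (List.mem_cons_of_mem _ hx))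

/-- The torus involutions normalise an embedded two-group invariant under `diag (-1, 1)`. -/
theorem tor2_normalizes (g : T.Good) {i : ℕ} (hi : i < T.l)
    (φ : Matrix.SpecialLinearGroup (Fin 2) F →* T.D.group F)
    (hup : ∀ t, ((φ (SL2Pres.up t) : T.D.group F) : GL T.D.Idx F) = xg g (T.smp i) t)
    (hlow : ∀ t, ((φ (SL2Pres.low t) : T.D.group F) : GL T.D.Idx F) = xg g (T.neg (T.smp i)) t)
    {Q : Subgroup (Matrix.SpecialLinearGroup (Fin 2) F)} (hQ : ∀ γ ∈ Q, conjSL (diagU (-1)) γ ∈ Q) :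
    tor2 T F ≤ Subgroup.normalizer (Q.map φ : Set (T.D.group F)) := by
  intro y hy
  obtain ⟨c, hyc, hc⟩ := hy
  have hu : wt T F c (T.smp i) * wt T F c (T.smp i) = 1 := by
    have := wt_eq_of_tor_eq g (hc.trans (map_one _).symm) (g.smp_lt hi)
    rw [wt_mul] at this
    rw [this, wt]; simp
  obtain ⟨w, hw⟩ : ∃ w, w = wt T F c (T.smp i) := ⟨_, rfl⟩
  rw [← hw] at hu
  have hinv : w⁻¹ = w := inv_eq_of_mul_eq_one_right hu
  have hconj : ∀ γ, y * φ γ * y⁻¹ = φ (conjSL (diagU w) γ) := conj_eq φ y (diagU w)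
    (fun t => Subtype.ext (by
      show (y : GL T.D.Idx F) * (φ (SL2Pres.up t) : T.D.group F) * (y : GL T.D.Idx F)⁻¹ = _
      rw [diagU_up, hup, hup, hyc, tor_xg g c (g.smp_lt hi), hw]))
    (fun t => Subtype.ext (by
      show (y : GL T.D.Idx F) * (φ (SL2Pres.low t) : T.D.group F) * (y : GL T.D.Idx F)⁻¹ = _
      rw [diagU_low, hlow, hlow, hyc, tor_xg g c (neg_lt (g.smp_lt hi)), wt_neg g (g.smp_lt hi), hw]))
  have key : ∀ x ∈ Q.map φ, y * x * y⁻¹ ∈ Q.map φ := by
    rintro _ ⟨γ, hγ, rfl⟩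
    refine ⟨_, ?_, (hconj γ).symm⟩
    rcases mul_self_eq_one_iff.1 (show (w : F) * w = 1 by simpa using congrArg Units.val hu) with e | e
    · rw [show w = 1 from Units.ext e, show diagU (1 : Fˣ) = 1 from Units.ext (by
        simp [diagU, Matrix.one_fin_two])]
      have : conjSL (1 : GL (Fin 2) F) γ = γ := Subtype.ext (by
        show ((1 : GL (Fin 2) F) : Matrix (Fin 2) (Fin 2) F) * γ.1 *
          (((1 : GL (Fin 2) F)⁻¹ : GL (Fin 2) F) : Matrix (Fin 2) (Fin 2) F) = γ.1
        simp)
      rwa [this]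
    · rw [show w = -1 from Units.ext (by rw [e, Units.val_neg, Units.val_one])]
      exact hQ γ hγ
  refine Subgroup.mem_normalizer_iff.2 fun x => ⟨key x, fun hx => ?_⟩
  have hy2 : y⁻¹ = y := inv_eq_of_mul_eq_one_right (tor2_sq ⟨c, hyc, hc⟩)
  have e : x = y * (y * x * y⁻¹) * y⁻¹ := by
    rw [hy2]
    calc x = y * y * x * (y * y) := by rw [tor2_sq ⟨c, hyc, hc⟩]; group
      _ = _ := by group
  rw [e]
  exact key _ hx

end Cfsg.Agent.TwoCentralSq
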