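import Cfsg.Agent.Lib.TwoCentralSq.TwCommon

/-!
The criterion for twisted groups with a fixed fundamental node.
-/

set_option autoImplicit false

namespace Cfsg.Agent.TwoCentralSq

open Cfsg.Lie Cfsg.Agent.Chev Cfsg.Agent.Chev.Tab Cfsg.Agent.ChevOdd
open SL2Pres (up low)
open Matrix (SpecialLinearGroup)

variable {T : Tab} {F : Type*} [Field F]

/-- The masks separate every root from zero. -/
def checkSepM (T : Tab) (MS : List ℕ) : Bool :=
  Chev.allBelow (fun s => MS.any fun m => !inH T m s) T.n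

/-- The candidates for the image of each fundamental root are complete. -/
def checkCand (T : Tab) (π : ℕ → ℕ) (MS : List ℕ) (C : List (List ℕ)) : Bool :=
  Nat.beq C.length T.l &&
  Chev.allBelow (fun i => Chev.allBelow (fun s =>
    !(MS.all (fun m => inH T m s == inH T m (T.smp i)) &&
      (Nat.beq (π s) s == Nat.beq (π (T.smp i)) (T.smp i))) || (C.getD i []).any (Nat.beq s)) T.n) T.l

/-- Certificate: each weight mask invariant under `π` is the weight of a product of squares of twisted elements. -/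
def checkTwEps (T : Tab) (π : ℕ → ℕ) (w : ℕ → List ℕ) (nb : ℕ) (C : List (List (List ℕ × ℕ))) : Bool :=
  Chev.allBelow (fun e => anyBelow (fun i => !(Nat.testBit e i == (eP T e (π (T.smp i)) % 2 == 1))) T.l ||
    ((C.getD e []).all (fun p => p.1.all (fun b => Nat.blt b nb) && Nat.blt p.2 nb &&
        (w p.2).all (fun j => eP T e (T.rw' (flatW w p.1) (T.smp j)) % 2 == 0)) &&
      Chev.allBelow (fun i => Nat.testBit e i == (((C.getD e []).map fun p =>
        ((w p.2).map fun j => T.A j (T.rw' (flatW w p.1).reverse (T.smp i))).sum).sum % 2 == 1)) T.l))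
    (2 ^ T.l)

/-- The orbit blocks consist of orthogonal nodes. -/
def checkBlockOrth (T : Tab) (w : ℕ → List ℕ) (nb : ℕ) : Bool :=
  Chev.allBelow (fun b => (w b).all (fun j => Nat.blt j T.l) && (w b).Nodup &&
    (w b).all fun j => (w b).all fun k => Nat.beq j k || T.A j (T.smp k) == 0) nb

variable {K : List (List ℕ)} {g : T.GoodK K}

/-- All the data for the criterion. -/
structure TwOK (X : Tab.Twist g F) (MS : List ℕ) (C : List (List ℕ)) (CE : List (List (List ℕ × ℕ)))
    (i₀ : ℕ) : Prop where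
  pairs : checkPairs T = true
  lin : checkLin T = true
  sep : checkSepM T MS = true
  cand : checkCand T X.π MS C = true
  search : searchW T i₀ C [] = true
  eps : checkTwEps T X.π X.w X.nb CE = true
  block : checkBlockOrth T X.w X.nb = true
  lt : i₀ < T.l
  odd : anyBelow (fun s => T.A i₀ s % 2 == 1) T.n = true
  mid : X.π (T.smp i₀) = T.smp i₀ ∧ X.π (T.neg (T.smp i₀)) = T.neg (T.smp i₀)
  n_eq : ∀ b < X.nb, X.n b = nWd g.toGood F (X.w b)
  φ_odd : ∀ r < T.n, ∀ t : F, X.φ r (-t) = -X.φ r t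
  masks : ∀ m ∈ MS, hM T F m ∈ X.G1

theorem list_prod_tor {ι : Type*} (M : List ι) (f : ι → GL T.D.Idx F) (d : ι → ℕ → Fˣ)
    (h : ∀ p ∈ M, f p = tor T F (d p)) : (M.map f).prod = tor T F (M.map d).prod := by
  induction M with
  | nil => simp
  | cons p M ih =>
    rw [List.map_cons, List.prod_cons, List.map_cons, List.prod_cons, map_mul, h p List.mem_cons_self,
      ih fun x hx => h x (List.mem_cons_of_mem _ hx)]

theorem wt_list_prod {ι : Type*} (M : List ι) (d : ι → ℕ → Fˣ) (k : ι → ℤ) (s : ℕ)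
    (h : ∀ p ∈ M, wt T F (d p) s = (-1 : Fˣ) ^ k p) :
    wt T F (M.map d).prod s = (-1 : Fˣ) ^ (M.map k).sum := by
  induction M with
  | nil => simp [wt]
  | cons p M ih =>
    rw [List.map_cons, List.prod_cons, wt_mul, h p List.mem_cons_self,
      ih fun x hx => h x (List.mem_cons_of_mem _ hx), List.map_cons, List.sum_cons, _root_.zpow_add]

/-- A torus involution of the twisted group. -/
theorem inSq_twisted {X : Tab.Twist g F} {MS : List ℕ} {C : List (List ℕ)} {CE : List (List (List ℕ × ℕ))}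
    {i₀ : ℕ} (H : TwOK X MS C CE i₀) (h2 : (2 : F) ≠ 0) {z : X.G1} {c : ℕ → Fˣ}
    (hz : (z : GL T.D.Idx F) = tor T F c) (hw : ∀ s < T.n, wt T F c s = 1 ∨ wt T F c s = -1) : InSq z := by
  classical
  have hg := g.toGood
  obtain ⟨e, he⟩ : ∃ e, e = Nat.ofBits fun i : Fin T.l => decide (wt T F c (T.smp i) = -1) := ⟨_, rfl⟩
  have hbit : ∀ i < T.l, Nat.testBit e i = decide (wt T F c (T.smp i) = -1) := fun i hi => by
    rw [he, Nat.testBit_ofBits_lt _ _ hi]
  have hwe : ∀ i < T.l, wt T F c (T.smp i) = bif Nat.testBit e i then -1 else 1 := fun i hi => by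
    rw [hbit i hi]
    rcases hw _ (hg.smp_lt hi) with h | h
    · simp [h, (neg_one_ne h2).symm]
    · simp [h]
  have hP : ∀ s < T.n, wt T F c s = (-1 : Fˣ) ^ eP T e s := by
    intro s hs
    rw [wt_lin H.lin c hs, eP, sumBelow_eq_sum, ← prod_zpow_sum]
    refine Finset.prod_congr rfl fun i hi => ?_
    rw [hwe i (Finset.mem_range.1 hi)]
    cases Nat.testBit e i <;> simp
  have h := allBelow_eq_true.1 H.eps e (he ▸ Nat.ofBits_lt_two_pow _)
  simp only [Bool.or_eq_true, anyBelow_eq_true, Bool.and_eq_true, List.all_eq_true, nat_blt, allBelow_eq_true,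
    beq_iff_eq, Bool.not_eq_true', beq_eq_false_iff_ne] at h
  rcases h with ⟨i, hi, hne⟩ | ⟨hL, hbits⟩
  · -- the weights are invariant under `π`
    exfalso
    refine hne ?_
    obtain ⟨s, hs⟩ : ∃ s, s = T.smp i := ⟨_, rfl⟩
    have hs' : s < T.n := hs ▸ hg.smp_lt hi
    have hσ : X.σ (z : GL T.D.Idx F) = z := (X.G1_le _ z.2).2
    have hzG := X.G1_le_group z.2
    have h1 := congrArg X.σ (tor_xg hg c hs' (1 : F))
    rw [← hz, X.σ_conj hzG (xg_mem_group hg _ _), hσ, X.σ_xg s hs', X.σ_xg s hs', hz,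
      tor_xg hg c (X.π_lt s hs'), mul_one] at h1
    have h1' := xg_injective hg (X.π_lt s hs') h1
    have hφ := X.φ_ne s hs' 1 one_ne_zero
    have hwπ : wt T F c (X.π s) = wt T F c s := by
      rcases hw s hs' with e | e
      · rw [e, Units.val_one] at h1'
        rw [e]
        exact Units.ext (mul_right_cancel₀ hφ (h1'.trans (one_mul _).symm))
      · rw [e, Units.val_neg, Units.val_one, H.φ_odd s hs'] at h1'
        rw [e]
        refine Units.ext (mul_right_cancel₀ hφ (h1'.trans ?_))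
        simp
    rw [hP _ (X.π_lt s hs'), hs, hwe i hi, neg_one_zpow_ite] at hwπ
    subst hs
    by_cases hp : (eP T e (X.π (T.smp i)) % 2 == 1) = true
    · rw [if_pos hp] at hwπ
      rw [hp]
      by_contra hb
      rw [Bool.not_eq_true] at hb
      rw [hb] at hwπ
      exact neg_one_ne h2 hwπ
    · rw [if_neg hp] at hwπ
      rw [Bool.not_eq_true] at hp
      rw [hp]
      by_contra hb
      rw [Bool.not_eq_false] at hb
      rw [hb] at hwπ
      exact neg_one_ne h2 hwπ.symm
  -- each entry gives a square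
  have hblock : ∀ b < X.nb, (∀ j ∈ X.w b, j < T.l) ∧ (X.w b).Pairwise (Orth T) := by
    intro b hb
    have hB := allBelow_eq_true.1 H.block b hb
    simp only [Bool.and_eq_true, List.all_eq_true, nat_blt, decide_eq_true_eq, Bool.or_eq_true, nat_beq,
      beq_iff_eq] at hB
    obtain ⟨⟨h1, h2'⟩, h3⟩ := hB
    refine ⟨h1, List.Pairwise.imp_of_mem (fun {j k} hj hk hne => ?_) h2'⟩
    have e1 := (h3 j hj k hk).resolve_left hne
    have e2 := (h3 k hk j hj).resolve_left (Ne.symm hne)
    exact orth_of_check H.pairs (h1 j hj) (h1 k hk) hne (by rw [e1]; decide) (by rw [e2]; decide)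
  let S : Subgroup X.G1 := Subgroup.closure {y : X.G1 | ∃ h, h * z = z * h ∧ h * h = y}
  obtain ⟨kk, hkk⟩ : ∃ kk : List ℕ × ℕ → ℕ → ℤ, kk = fun p s =>
    ((X.w p.2).map fun j => T.A j (T.rw' (flatW X.w p.1).reverse s)).sum := ⟨_, rfl⟩
  have entry : ∀ p ∈ CE.getD e [], ∃ y ∈ S, ∃ d : ℕ → Fˣ, (y : GL T.D.Idx F) = tor T F d ∧
      ∀ s < T.n, wt T F d s = (-1 : Fˣ) ^ kk p s := by
    rintro ⟨Ls, b⟩ hp
    obtain ⟨⟨hLs, hb⟩, hev⟩ := hL _ hp
    obtain ⟨hlt, hpw⟩ := hblock b hb
    obtain ⟨a, ha, hmem⟩ := X.flat_lift hLs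
    have hLwd := X.flat_wd hLs
    obtain ⟨L, hLdef⟩ : ∃ L, L = flatW X.w Ls := ⟨_, rfl⟩
    rw [← hLdef] at ha hLwd
    have hω := nWd_mem_wSub (F := F) hg hLwd
    obtain ⟨c', hc'⟩ := wSub_conj_torus hg (inv_mem hω) c
    have hcc : nWd hg F L * tor T F c' * (nWd hg F L)⁻¹ = tor T F c := by rw [← hc']; group
    obtain ⟨P, hPdef⟩ : ∃ P : X.G1, (P : GL T.D.Idx F) = tor T F a * nWd hg F L := ⟨⟨_, ha ▸ hmem⟩, rfl⟩
    obtain ⟨B, hBdef⟩ : ∃ B : X.G1, (B : GL T.D.Idx F) = nWd hg F (X.w b) :=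
      ⟨⟨nWd hg F (X.w b), by rw [← H.n_eq b hb]; exact X.n_mem b hb⟩, rfl⟩
    have hcomm : Commute (nWd hg F (X.w b)) (tor T F c') := nWd_comm_tor hg fun j hj => ⟨hlt j hj, by
      have e1 := wt_conj_word hg hLwd hcc (s := T.rw' L (T.smp j)) (rw'_lt hg hLwd (hg.smp_lt (hlt j hj)))
      rw [rw'_rev hg hLwd (hg.smp_lt (hlt j hj))] at e1
      rw [← e1, hP _ (rw'_lt hg hLwd (hg.smp_lt (hlt j hj))), hLdef]
      exact (Int.even_iff.2 (hev j hj)).neg_one_zpow⟩
    obtain ⟨d, hd⟩ := wSub_conj_torus hg hω (sqC F (X.w b))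
    refine ⟨P * B * P⁻¹ * (P * B * P⁻¹), Subgroup.subset_closure ⟨P * B * P⁻¹, Subtype.ext ?_, rfl⟩, d, ?_, ?_⟩
    · have e0 : (z : GL T.D.Idx F) = (P : GL T.D.Idx F) * tor T F c' * (P : GL T.D.Idx F)⁻¹ := by
        calc (z : GL T.D.Idx F) = tor T F a * tor T F c * (tor T F a)⁻¹ := by
              rw [hz, ← map_inv, ← map_mul, ← map_mul, mul_comm a, mul_inv_cancel_right]
          _ = _ := by rw [hPdef, ← hcc]; group
      simp only [Subgroup.coe_mul, Subgroup.coe_inv]
      rw [e0, hBdef]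
      calc _ = (P : GL T.D.Idx F) * (nWd hg F (X.w b) * tor T F c') * (P : GL T.D.Idx F)⁻¹ := by group
        _ = _ := by rw [hcomm.eq]; group
    · simp only [Subgroup.coe_mul, Subgroup.coe_inv]
      rw [hBdef, hPdef]
      calc _ = tor T F a * (nWd hg F L * (nWd hg F (X.w b) * nWd hg F (X.w b)) * (nWd hg F L)⁻¹) *
            (tor T F a)⁻¹ := by group
        _ = _ := by
          rw [nWd_block_sq g.toGoodA hlt hpw, hd, ← map_inv, ← map_mul, ← map_mul, mul_comm a,
            mul_inv_cancel_right]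
    · intro s hs
      rw [wt_conj_word hg hLwd hd hs, wt_sqC hg hlt, hkk, hLdef]
  choose! y hy d hd hwd using entry
  obtain ⟨M, hM⟩ : ∃ M, M = CE.getD e [] := ⟨_, rfl⟩
  rw [← hM] at hy hd hwd hbits
  have hm : (M.map y).prod ∈ S := Subgroup.list_prod_mem _ fun x hx => by
    obtain ⟨p, hp, rfl⟩ := List.mem_map.1 hx
    exact hy p hp
  have ez : (M.map y).prod = z := by
    refine Subtype.ext ?_
    rw [SubmonoidClass.coe_list_prod, List.map_map, hz, list_prod_tor M (Subtype.val ∘ y) d fun p hp => hd p hp]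
    refine tor_eq_of_smp hg H.lin fun i hi => ?_
    rw [wt_list_prod M d (fun p => kk p (T.smp i)) _ fun p hp => hwd p hp _ (hg.smp_lt hi), hkk,
      neg_one_zpow_ite, ← hbits i hi, hwe i hi]
    cases Nat.testBit e i <;> simp
  rw [ez] at hm
  exact hm

/-- The criterion for the twisted group. -/
theorem crit_twisted [Finite F] {X : Tab.Twist g F} {MS : List ℕ} {C : List (List ℕ)}
    {CE : List (List (List ℕ × ℕ))} {i₀ : ℕ} (H : TwOK X MS C CE i₀) {K' : List (List ℕ)}
    {W : List (ℕ × ℕ × ℕ)} (gW : T.GoodW K' W) (h2 : (2 : F) ≠ 0) {F₀ : Type*} [Field F₀] (ι : F₀ →+* F)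
    (hι : ∀ t, xg g.toGood (T.smp i₀) (ι t) ∈ X.G1 ∧ xg g.toGood (T.neg (T.smp i₀)) (ι t) ∈ X.G1) :
    Crit ↥X.G1 := by
  have hg := g.toGood
  have hi := H.lt
  have hle : X.G1 ≤ T.D.group F := X.G1_le_group
  haveI : Finite F₀ := Finite.of_injective ι ι.injective
  have h20 : (2 : F₀) ≠ 0 := fun e => h2 (by rw [← map_ofNat ι 2, e, map_zero])
  obtain ⟨φ, hinj, hup, hlow⟩ := exists_smpHom gW h2 hi H.odd
  obtain ⟨P, hP, hJ, hD, g₀, hg₀, hne⟩ := exists_kill_group (F := F₀) h20
  let μ : SpecialLinearGroup (Fin 2) F₀ →* SpecialLinearGroup (Fin 2) F := SpecialLinearGroup.map ι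
  have μinj : Function.Injective μ := fun a b e => Subtype.ext (Matrix.ext fun i j =>
    ι.injective (congrFun (congrFun (congrArg Subtype.val e) i) j))
  have μup : ∀ t, μ (up t) = up (ι t) := fun t => Subtype.ext (by
    show (up t).1.map ι = (up (ι t)).1
    ext i j
    fin_cases i <;> fin_cases j <;> simp [SL2Pres.up_val])
  have μlow : ∀ t, μ (low t) = low (ι t) := fun t => Subtype.ext (by
    show (low t).1.map ι = (low (ι t)).1
    ext i j
    fin_cases i <;> fin_cases j <;> simp [SL2Pres.low_val])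
  have μJ : μ jS = jS := by rw [jS, map_mul, map_mul, μup, μlow, map_one, map_neg, map_one]; rfl
  let Q : Subgroup (SpecialLinearGroup (Fin 2) F) := (P.comap inGL).map μ
  have hQ : ∀ γ ∈ Q, conjSL (diagU (-1)) γ ∈ Q := by
    rintro _ ⟨γ, hγ, rfl⟩
    refine ⟨conjSL (diagU (-1)) γ, ?_, ?_⟩
    · show inGL (conjSL (diagU (-1)) γ) ∈ P
      rw [inGL_conjSL]
      exact mul_mem (mul_mem hD hγ) (inv_mem hD)
    · have e : μ.comp (conjSL (diagU (-1))) = (conjSL (diagU (-1))).comp μ :=
        hom_ext_up_low (fun t => by simp [diagU_up, μup]) fun t => by simp [diagU_low, μlow]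
      exact congrArg (fun f : SpecialLinearGroup (Fin 2) F₀ →* _ => f γ) e
  have hQ2 : IsPGroup 2 ↥(Q.map φ) := ((hP.comap_of_injective inGL inGL_injective).map μ).map φ
  have hR : IsPGroup 2 ↥(tor2 T F ⊔ Q.map φ) :=
    IsPGroup.to_sup_of_normal_right' tor2_isPGroup hQ2 (tor2_normalizes hg hi φ hup hlow hQ)
  have hG1 : ∀ γ, ((φ (μ γ) : T.D.group F) : GL T.D.Idx F) ∈ X.G1 := by
    intro γ
    have hsub : Subgroup.closure (Set.range (up (K := F₀)) ∪ Set.range (low (K := F₀))) ≤
        X.G1.comap ((T.D.group F).subtype.comp (φ.comp μ)) := by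
      rw [Subgroup.closure_le]
      rintro _ (⟨b, rfl⟩ | ⟨b, rfl⟩)
      · show ((φ (μ (up b)) : T.D.group F) : GL T.D.Idx F) ∈ X.G1
        rw [μup, hup]; exact (hι b).1
      · show ((φ (μ (low b)) : T.D.group F) : GL T.D.Idx F) ∈ X.G1
        rw [μlow, hlow]; exact (hι b).2
    exact hsub (SL2Pres.closure_up_low (K := F₀) ▸ Subgroup.mem_top γ)
  refine ⟨(tor2 T F ⊔ Q.map φ).comap (Subgroup.inclusion hle),
    hR.comap_of_injective _ (Subgroup.inclusion_injective hle), fun z hz hc => ?_⟩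
  have hz' : (z : GL T.D.Idx F) * z = 1 := congrArg Subtype.val hz
  have hcR : ∀ y : GL T.D.Idx F, ∀ hy : y ∈ X.G1, (⟨y, hle hy⟩ : T.D.group F) ∈ tor2 T F ⊔ Q.map φ →
      y * z = z * y := fun y hy h => congrArg Subtype.val (hc ⟨y, hy⟩ h)
  have hsep : ∀ s < T.n, ∃ m ∈ MS, inH T m s = false := fun s hs => by
    simpa [List.any_eq_true] using allBelow_eq_true.1 H.sep s hs
  obtain ⟨L, hL, ⟨c, hzc⟩, hpar⟩ := monomial_of_masks g.toGoodA h2 MS hsep (hle z.2) fun m hm =>
    hcR _ (H.masks m hm) (le_sup_left (b := Q.map φ) ⟨sgn F m, rfl, by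
      rw [show sgn F m * sgn F m = 1 by
        funext j; unfold sgn; simp only [Pi.mul_apply, Pi.one_apply]; cases Nat.testBit m j <;> simp, map_one]⟩)
  have hcomm : X.Comm L := X.comm_of_fixed hL (c := c) (by rw [← hzc]; exact (X.G1_le _ z.2).2)
  -- the images of the fundamental roots
  have hcand := H.cand
  simp only [checkCand, Bool.and_eq_true, nat_beq, allBelow_eq_true, Bool.or_eq_true, Bool.not_eq_true',
    List.any_eq_true] at hcand
  have hmem : ∀ i < T.l, T.rw' L (T.smp i) ∈ C.getD i [] := by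
    intro i hil
    rcases hcand.2 i hil _ (rw'_lt hg hL (hg.smp_lt hil)) with h | ⟨x, hx, e⟩
    · exfalso
      have h1 : MS.all (fun m => inH T m (T.rw' L (T.smp i)) == inH T m (T.smp i)) = true := by
        simp only [List.all_eq_true, beq_iff_eq]
        exact fun m hm => hpar m hm _ (hg.smp_lt hil)
      have h3 : (Nat.beq (X.π (T.rw' L (T.smp i))) (T.rw' L (T.smp i)) ==
          Nat.beq (X.π (T.smp i)) (T.smp i)) = true := by
        rw [beq_iff_eq, Bool.eq_iff_iff, nat_beq, nat_beq, ← hcomm _ (hg.smp_lt hil)]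
        refine ⟨fun e => ?_, fun e => by rw [e]⟩
        have := congrArg (T.rw' L.reverse) e
        rwa [rw'_rev hg hL (X.π_lt _ (hg.smp_lt hil)), rw'_rev hg hL (hg.smp_lt hil)] at this
      rw [h1, h3] at h
      exact absurd h (by decide)
    · exact e ▸ hx
  have key := searchW_spec (T := T) (i₀ := i₀) (fun i => T.rw' L (T.smp i)) (m := T.l)
    (fun i hil j hjl => gram_rw' hg hL (hg.smp_lt hil) (hg.smp_lt hjl)) C 0
    (by rw [Nat.zero_add]; exact hcand.1) (by simpa using H.search) fun i hiC => by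
      have := hmem i (by rw [← hcand.1]; exact hiC)
      rw [List.getD_eq_getElem?_getD, List.getElem?_eq_getElem hiC, Option.getD_some] at this
      simpa using this
  rcases key with hpos | hneg
  · simp only [List.all_eq_true, List.mem_map, List.mem_range, forall_exists_index, and_imp] at hpos
    obtain ⟨⟨d, hd⟩, -⟩ := nWd_torus_of_pos (F := F) hg _ le_rfl hL (rw'_id_of_simple hg hL fun i hil =>
      Nat.le_of_ble_eq_true (hpos _ i hil rfl))
    rw [hd, ← map_mul] at hzc
    refine inSq_twisted H h2 hzc fun s hs => ?_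
    have e : tor T F (c * d * (c * d)) = tor T F 1 := by rw [map_mul, ← hzc, hz', map_one]
    have := wt_eq_of_tor_eq hg e hs
    rw [wt_mul, show wt T F (1 : ℕ → Fˣ) s = 1 by simp [wt]] at this
    rcases mul_self_eq_one_iff.1 (show (wt T F (c * d) s : F) * wt T F (c * d) s = 1 by
      simpa using congrArg Units.val this) with e | e
    · exact Or.inl (Units.ext e)
    · exact Or.inr (Units.ext (by rw [e, Units.val_neg, Units.val_one]))
  · exfalso
    rw [List.getD_eq_getElem?_getD, List.getElem?_map, List.getElem?_range hi, Option.map_some,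
      Option.getD_some] at hneg
    obtain ⟨k, hk⟩ := mono_conj (F := F) hg hL c (hg.smp_lt hi)
    rw [hneg] at hk
    have hzi : (z : GL T.D.Idx F)⁻¹ = z := inv_eq_of_mul_eq_one_right hz'
    have hk' : ∀ t, (z : GL T.D.Idx F) * xg hg (T.neg (T.smp i₀)) t * (z : GL T.D.Idx F)⁻¹ =
        xg hg (T.smp i₀) ((↑k⁻¹ : F) * t) := by
      intro t
      have e := hk ((↑k⁻¹ : F) * t)
      rw [← hzc, ← mul_assoc, Units.mul_inv, one_mul] at e
      rw [← e, hzi]
      calc _ = (z : GL T.D.Idx F) * z * xg hg (T.smp i₀) ((↑k⁻¹ : F) * t) * ((z : GL T.D.Idx F) * z) := by group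
        _ = _ := by rw [hz', one_mul, mul_one]
    let zg : T.D.group F := ⟨z, hle z.2⟩
    have hconj : ∀ γ, zg * φ γ * zg⁻¹ = φ (conjSL (swapU k) γ) := conj_eq φ zg (swapU k)
      (fun t => Subtype.ext (by
        show (z : GL T.D.Idx F) * (φ (up t) : T.D.group F) * (z : GL T.D.Idx F)⁻¹ = _
        rw [swapU_up, hup, hlow, hzc, hk]))
      (fun t => Subtype.ext (by
        show (z : GL T.D.Idx F) * (φ (low t) : T.D.group F) * (z : GL T.D.Idx F)⁻¹ = _
        rw [swapU_low, hup, hlow, hk']))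
    have fix : ∀ γ, inGL γ ∈ P → conjSL (swapU k) (μ γ) = μ γ := fun γ hγ => hinj (by
      rw [← hconj, mul_inv_eq_iff_eq_mul]
      exact Subtype.ext (hcR _ (hG1 γ) (le_sup_right (a := tor2 T F) ⟨μ γ, ⟨γ, hγ, rfl⟩, rfl⟩)).symm)
    have hk1 : k = -1 := by
      have e := fix jS hJ
      rw [μJ] at e
      have h := congrArg inGL e
      rw [inGL_conjSL, mul_inv_eq_iff_eq_mul, ← swapU_neg_one] at h
      have hh : ((swapU k * swapU (-1) : GL (Fin 2) F) : Matrix (Fin 2) (Fin 2) F) =
          ((swapU (-1) * swapU k : GL (Fin 2) F) : Matrix (Fin 2) (Fin 2) F) := congrArg Units.val h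
      rw [Units.val_mul, Units.val_mul] at hh
      have h10 := congrFun (congrFun hh 0) 0
      simp [swapU] at h10
      exact Units.ext (by rw [Units.val_neg, Units.val_one]; first | linear_combination h10 | linear_combination -h10)
    subst hk1
    refine hne (μinj ?_)
    have e : μ.comp (conjSL (inGL jS)) = (conjSL (inGL jS)).comp μ := by
      rw [← swapU_neg_one, ← swapU_neg_one]
      exact hom_ext_up_low (fun t => by simp [swapU_up, μup, μlow]) fun t => by simp [swapU_low, μup, μlow]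
    have e' := congrArg (fun f : SpecialLinearGroup (Fin 2) F₀ →* _ => f g₀) e
    simp only [MonoidHom.comp_apply] at e'
    rw [e', ← swapU_neg_one]
    exact fix g₀ hg₀

end Cfsg.Agent.TwoCentralSq
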